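import Cfsg.Agent.H16.Slp
import Cfsg.Agent.H15.MM

/-! Generated by tools/h15/cs.py. -/

set_option maxRecDepth 100000
set_option maxHeartbeats 0
set_option linter.unusedVariables false

namespace H15.XW8p

open H16

noncomputable def Rl : List (List ℕ) := [[nat_lit 0, nat_lit 0],
  [nat_lit 1, nat_lit 1],
  [nat_lit 2, nat_lit 2],
  [nat_lit 3, nat_lit 3],
  [nat_lit 4, nat_lit 4],
  [nat_lit 5, nat_lit 5],
  [nat_lit 6, nat_lit 6],
  [nat_lit 7, nat_lit 7],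
  [nat_lit 0, nat_lit 1, nat_lit 0, nat_lit 1],
  [nat_lit 0, nat_lit 3, nat_lit 0, nat_lit 3],
  [nat_lit 2, nat_lit 3, nat_lit 2, nat_lit 3],
  [nat_lit 1, nat_lit 2, nat_lit 1, nat_lit 2],
  [nat_lit 0, nat_lit 1, nat_lit 2, nat_lit 0, nat_lit 3, nat_lit 1, nat_lit 3, nat_lit 2],
  [nat_lit 2, nat_lit 3, nat_lit 4, nat_lit 3, nat_lit 4],
  [nat_lit 1, nat_lit 2, nat_lit 4, nat_lit 1, nat_lit 4, nat_lit 1, nat_lit 4],
  [nat_lit 0, nat_lit 1, nat_lit 4, nat_lit 0, nat_lit 3, nat_lit 4, nat_lit 0, nat_lit 1, nat_lit 4, nat_lit 0, nat_lit 4],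
  [nat_lit 1, nat_lit 5, nat_lit 1, nat_lit 5, nat_lit 1, nat_lit 5],
  [nat_lit 4, nat_lit 5, nat_lit 4, nat_lit 5, nat_lit 4, nat_lit 5],
  [nat_lit 0, nat_lit 2, nat_lit 5, nat_lit 3, nat_lit 5, nat_lit 2],
  [nat_lit 0, nat_lit 2, nat_lit 5, nat_lit 4, nat_lit 3, nat_lit 5, nat_lit 4, nat_lit 5, nat_lit 4, nat_lit 2, nat_lit 5],
  [nat_lit 1, nat_lit 6, nat_lit 1, nat_lit 6],
  [nat_lit 4, nat_lit 6, nat_lit 4, nat_lit 6],
  [nat_lit 0, nat_lit 2, nat_lit 6, nat_lit 0, nat_lit 2, nat_lit 6],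
  [nat_lit 5, nat_lit 6, nat_lit 5, nat_lit 6, nat_lit 5, nat_lit 6],
  [nat_lit 1, nat_lit 7, nat_lit 1, nat_lit 7],
  [nat_lit 4, nat_lit 7, nat_lit 4, nat_lit 7],
  [nat_lit 3, nat_lit 7, nat_lit 3, nat_lit 7],
  [nat_lit 5, nat_lit 7, nat_lit 5, nat_lit 7, nat_lit 5, nat_lit 7],
  [nat_lit 0, nat_lit 6, nat_lit 5, nat_lit 3, nat_lit 5, nat_lit 6],
  [nat_lit 0, nat_lit 2, nat_lit 0, nat_lit 3, nat_lit 5, nat_lit 2, nat_lit 6, nat_lit 5, nat_lit 2, nat_lit 7, nat_lit 5, nat_lit 6, nat_lit 2, nat_lit 5, nat_lit 7]]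
noncomputable def Pd : List ℕ := [nat_lit 0xf3f2f1f0f7f6f5f4fbfaf9f8fffefdfce3e2e1e0e7e6e5e4ebeae9e8efeeedecd3d2d1d0d7d6d5d4dbdad9d8dfdedddcc3c2c1c0c7c6c5c4cbcac9c8cfcecdccbbbab9b8bfbebdbcb3b2b1b0b7b6b5b4abaaa9a8afaeadaca3a2a1a0a7a6a5a49b9a99989f9e9d9c93929190979695948b8a89888f8e8d8c838281808786858477767574737271707f7e7d7c7b7a797867666564636261606f6e6d6c6b6a696857565554535251505f5e5d5c5b5a595847464544434241404f4e4d4c4b4a49483f3e3d3c3b3a393837363534333231302f2e2d2c2b2a292827262524232221201f1e1d1c1b1a191817161514131211100f0e0d0c0b0a09080706050403020100,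
  nat_lit 0x73727170777675747f7e7d7c7b7a797863626160676665646f6e6d6c6b6a696853525150575655545f5e5d5c5b5a595843424140474645444f4e4d4c4b4a4948bfbebdbcbbbab9b8b3b2b1b0b7b6b5b4afaeadacabaaa9a8a3a2a1a0a7a6a5a49f9e9d9c9b9a999893929190979695948f8e8d8c8b8a89888382818087868584f7f6f5f4f3f2f1f0fbfaf9f8fffefdfce7e6e5e4e3e2e1e0ebeae9e8efeeedecd7d6d5d4d3d2d1d0dbdad9d8dfdedddcc7c6c5c4c3c2c1c0cbcac9c8cfcecdcc3b3a39383f3e3d3c37363534333231302b2a29282f2e2d2c27262524232221201b1a19181f1e1d1c17161514131211100b0a09080f0e0d0c0706050403020100,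
  nat_lit 0x737271707776757479787b7a7d7c7f7e636261606766656469686b6a6d6c6f6edddcdfded9d8dbdad7d6d5d4d3d2d1d0cdcccfcec9c8cbcac7c6c5c4c3c2c1c031303332353437363b3a39383f3e3d3c21202322252427262b2a29282f2e2d2c9f9e9d9c9b9a999895949796919093928f8e8d8c8b8a89888584878681808382f1f0f3f2f5f4f7f6fbfaf9f8fffefdfce1e0e3e2e5e4e7e6ebeae9e8efeeedec5f5e5d5c5b5a595855545756515053524f4e4d4c4b4a49484544474641404342b3b2b1b0b7b6b5b4b9b8bbbabdbcbfbea3a2a1a0a7a6a5a4a9a8abaaadacafae1d1c1f1e19181b1a17161514131211100d0c0f0e09080b0a0706050403020100,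
  nat_lit 0xf5f4f7f6f1f0f3f2fdfcfffef9f8fbfae5e4e7e6e1e0e3e2edecefeee9e8ebeadddcdfded9d8dbdad5d4d7d6d1d0d3d2cdcccfcec9c8cbcac5c4c7c6c1c0c3c2b5b4b7b6b1b0b3b2bdbcbfbeb9b8bbbaa5a4a7a6a1a0a3a2adacafaea9a8abaa9d9c9f9e99989b9a95949796919093928d8c8f8e89888b8a858487868180838277767574737271707f7e7d7c7b7a797867666564636261606f6e6d6c6b6a69685f5e5d5c5b5a595857565554535251504f4e4d4c4b4a4948474645444342414037363534333231303f3e3d3c3b3a393827262524232221202f2e2d2c2b2a29281f1e1d1c1b1a191817161514131211100f0e0d0c0b0a09080706050403020100,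
  nat_lit 0xb3b2b1b0fbfaf9f8353437367d7c7f7ea3a2a1a0ebeae9e8252427266d6c6f6e1d1c1f1e555457569b9a9998d3d2d1d00d0c0f0e454447468b8a8988c3c2c1c03130333279787b7ab7b6b5b4fffefdfc2120232269686b6aa7a6a5a4efeeedec9f9e9d9cd7d6d5d419181b1a515053528f8e8d8cc7c6c5c409080b0a41404342f1f0f3f2b9b8bbba777675743f3e3d3ce1e0e3e2a9a8abaa676665642f2e2d2c5f5e5d5c17161514d9d8dbda919093924f4e4d4c07060504c9c8cbca81808382737271703b3a3938f5f4f7f6bdbcbfbe636261602b2a2928e5e4e7e6adacafaedddcdfde959497965b5a595813121110cdcccfce858487864b4a494803020100,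
  nat_lit 0xfffef1f0f7f6f9f8fbfaf5f4f3f2fdfcefeee1e0e7e6e9e8ebeae5e4e3e2edecd3d2dddcdbdad5d4d7d6d9d8dfded1d0c3c2cdcccbcac5c4c7c6c9c8cfcec1c051505f5e5958575655545b5a5d5c535241404f4e4948474645444b4a4d4c43427d7c737275747b7a7978777671707f7e6d6c636265646b6a6968676661606f6e91909f9e9998979695949b9a9d9c939281808f8e8988878685848b8a8d8c8382bdbcb3b2b5b4bbbab9b8b7b6b1b0bfbeadaca3a2a5a4abaaa9a8a7a6a1a0afae3f3e3130373639383b3a353433323d3c2f2e2120272629282b2a252423222d2c13121d1c1b1a1514171619181f1e111003020d0c0b0a0504070609080f0e0100,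
  nat_lit 0x70717273747576777a7b78797e7f7c7d626360616667646568696a6b6c6d6e6fdfdedddcdbdad9d8d5d4d7d6d1d0d3d2cdcccfcec9c8cbcac7c6c5c4c3c2c1c0323330313637343538393a3b3c3d3e3f20212223242526272a2b28292e2f2c2d9d9c9f9e99989b9a97969594939291908f8e8d8c8b8a89888584878681808382f2f3f0f1f6f7f4f5f8f9fafbfcfdfeffe0e1e2e3e4e5e6e7eaebe8e9eeefeced5d5c5f5e59585b5a57565554535251504f4e4d4c4b4a49484544474641404342b0b1b2b3b4b5b6b7babbb8b9bebfbcbda2a3a0a1a6a7a4a5a8a9aaabacadaeaf1f1e1d1c1b1a191815141716111013120d0c0f0e09080b0a0706050403020100,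
  nat_lit 0x61626360656667646b68696a6f6c6d6e71727370757677747b78797a7f7c7d7edfdcdddedbd8d9dad5d6d7d4d1d2d3d0cfcccdcecbc8c9cac5c6c7c4c1c2c3c02320212227242526292a2b282d2e2f2c3330313237343536393a3b383d3e3f3c9d9e9f9c999a9b9897949596939091928d8e8f8c898a8b888784858683808182e3e0e1e2e7e4e5e6e9eaebe8edeeefecf3f0f1f2f7f4f5f6f9fafbf8fdfefffc5d5e5f5c595a5b5857545556535051524d4e4f4c494a4b484744454643404142a1a2a3a0a5a6a7a4aba8a9aaafacadaeb1b2b3b0b5b6b7b4bbb8b9babfbcbdbe1f1c1d1e1b18191a15161714111213100f0c0d0e0b08090a0506070401020300]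
noncomputable def P (k u : ℕ) : ℕ := Nat.land (Nat.shiftRight (nth (nat_lit 0) Pd k) (Nat.mul u (nat_lit 8))) (nat_lit 255)
noncomputable def T0d : List ℕ := [nat_lit 0x88604853b840883408209811678667f6277087d1b704b726a7a6c6e1780637e0776a85d417409734c7b41711c7c18656d7944611c6c645f185a1d5345511e676e4f196f71591e553f57456d1d60656b065ea975425c1543176a70641c41406253421f633d401e691e4844681b506f664c458344203e1f394f3680351d52723d693c4d4e824d145b54561d583e541a2a214c7347684657299e28204b51388c374e4a81498c345b278d2653318f308a2f522e8b2d63228b2b1b3f563b9d3a5a338c325919a0185d17622c50218e20871b8b1e6b148813861fa71058259f245c236d0e44156a1d891c910ba70aa61aa8086c16a807a20c9012a611a805a90fa90da506a909a6049e039d029a01a900,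
  nat_lit 0xa086a1855084a873a8710081a86f397fa86b017da8693c6d387aa866a865a85fa85e3e68a85ca9834261a982a853a980a84f3d7b8e60a97e2c5aa97c3f758a67a979a9784964614c4a5743728d6ca977a9764051a9742e432d6a4a595f3f49629e56a53e9e40a9709048415da250a96e9045904460638b4b8b4a8b498f52673363328f4e8f4d2f5ba342a52a9f545e58a4555d276126a725a724a339922e922da336a335922b664762468c318c308c2f91389137651d9134a441a719a7185c3d603ca63ba63a5f16a814a421a420941ba41e642c8d1c931fa80fa629a628a80e5e23a315a922a5139f0ba809a808a91aa9178807a40c9e12a805a911a910890da704a90aa606a802a903a701a900,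
  nat_lit 0x28605853d84097641740a810d80667f697e097d0c7c4f75787a79790f70696e0a83507b42820b5e5072435c0e780c6f687746687552686b125b0b69476d754b7a6611536f64784c4f544d617748674f0c73515d4471116a104372596f3e474057565d3f50621065766c4e517339665f78388737796376677c318830786077337a327a2e892d0f5a54423e2a48575c556e5875256d245b275f267450774e884d76218920a71f76477b467b4a8949a81c79458a44841da81b3d41581944185a3b5e3a743d6c3ca8145d1675368a35a634a813832ca92fa92b941a572943285a0e5c224515a923a91e870d91119a0a930f59178612a10ca0079b1092099c059f0ba8039d08a802a906a904a601a900,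
  nat_lit 0x38606853f8408833b820b81157c677f6b790a7d14804d75797a6a7e1370616e09764e7b3c740d73535d6b7114781b6f6077506d8150866b125b1f69526882608966196559567a5851544e6183678a5f0e5e5272425c136a164355427963454058643f4152621a5383394f51806c8a4fa7368335713e84488a458444854b803d7c3c8b4a8549175a5659405546576b2a704c7f477b46592941288252a7218520a64e824da81e83256f248c2e862d8c2b8d31873082238d2f6a3f5a3b423a82196d1882336e32812c5b17a6388437a813a93485148e1b8f1c8d1a83276c265c22840e9c15841da91f8f0d90118e10980985168e129d0ca2078f0a970f9a05a10ba30699089c04a4039b02a701a900,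
  nat_lit 0x88609853e840c783e77a86f0380a86b3a7ea869027ca868a86639790d833d820a70496d406ea85aa859a8570b76a9813f7448756b6ca97f2753a97da97b7c58a97a285b9a64a5486c4f7a617a4c5354a843a842a8402965a973a9727b67a9714c56543f545f266a6b526f516d396d62684e6a4d7960733e7e3d7e3ca463a72ea72d7c337c32a95ea95d5141a95c5355724b7d4a7d49562756266c5068386a376f216f2069347b457b44792575248023a647a646a81b7e1da32a54295228553b553a783174307f2f58166e366e35691f71137d2b7714a92c4615a419a41853175722471a761c701ea80a750c8d0d980fa50e8c107411a806a9129209a804a803a90ba802a908a907a905a701a900,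
  nat_lit 0x1486a876a874028339826a818e78697f8e7771738a7c7c727c718a798d808d7ea9854e75a984707d7b7b7b7aa270a852a26ea84e466ca84da84ca84ba84a4367a849a848a8472a55a846a8453950a844a25e535d515ca83fa83ea83d3041a83ca83b2b63a83aa839a96fa8363860a835a96da96ba96aa969a968a966a965a964a962a961a95fa82aa8293158a828a95ba95aa959a957a956a954a9534a319437a951a94f7134a33389264b388f30712f9b2ea0204f22721ea943a942a9408c2788329f25a0184d17502ca421a12d961a732ba812a811a810951fa419a1244e23a80d9e15a80ba80aa91da91ca91b9908a807a916a806a914a9138e099a0fa90ea90ca605a504a603a801a902a900,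
  nat_lit 0xa885a98638841a8347741c7d1c7c6f7f6f7e1d811d803c7b6f7a6f791b786e6e1576447548821b733b5d495c20701e696f77456d3a4e706b196a1f6f3d68274a70661a6537564047515439513c45704f165e3a724a71165b1a5a3942293d4b403664253b52622153443838612536715f3b6ca8343e3321312667a82f422e4163a82c3d60a82b1743385917294c57272723252858a8232455a82223214552a81f2450a81ea94d3f4ca81d204ba81ca9494348a81ba946a94419191641a817263fa816223ea814a93ca93a2239a813a937a935a932a930a92d971a182aa80ea928a9264515a924a9208b0d9011a20a980fa9188a12a30ca207a3108f09a405a30ba403a508a602a506a704a401a900,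
  nat_lit 0x18601852d849a762e7492819280467f467e8d7d8d7c6f7b437a45799c702c6e9b834c752f829c5e495d305c9d78936f2d77706da84d476b875b8e697068a84944669e534d56a84634547051a844374f9d734a723171866a9e434b42a83c32404e64a83a35629f65a8377161a835365fa834a96ca832a830a82fa967a82da82ca963a82ba9609f5a4c59a8283357a826a824a823a958a822a955a820a81fa952a81ea950a94ea81da94ca81ca94ba94aa81ba948a947a945a818a817a941a816a93fa814a93ea93da93ba813a939a938a936a933a931a92e4811a80ea92aa929a927a80ca925a921a412491a9c104609a9198d0da915a00ba50a470f9d08a5079f06a6059e04a603a702a800a901]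
noncomputable def T0 (k u : ℕ) : ℕ := Nat.land (Nat.shiftRight (nth (nat_lit 0) T0d k) (Nat.mul u (nat_lit 16))) (nat_lit 65535)
noncomputable def I0d : List ℕ := [nat_lit 0x1332230108003022802171202020103301c00343253100010201404103009000840074401302212107361a144222200004120414410060001309a60000100055253d21b,
  nat_lit 0x4330040903003000000202020512028122816d02202017103102111214011409400331300187611414500145001007600004014e503000000123c00220300226b20027a,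
  nat_lit 0x111001a1313012282620300200021210716001021110275052102100201310110300332003522302305010900a70038000002090004460030144220200d123000c0441b,
  nat_lit 0x222153232300300738813e7404140240214101123097000000341402a530001131524181000000a2000110001295019060000000b4026106010b7d564023608050245ac,
  nat_lit 0x36503080803004a008a000120072122120610510000622021150411511011309d132212000013011133004340007173000004003501201310900054c60002400202229b,
  nat_lit 0x5002224242422400161000404030000300000070222000000400100011111111111003011111110c11835a573000111303005358b000035703001110010118611264019,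
  nat_lit 0x34100021212218012145010160414124150010020212290027400941002000202040141100002600031000310335000000330033333100337332b0530801102020164a,
  nat_lit 0x933002424242250046400043230833304000000322200000302303000100010010133040001010010110101101110010101110111111001110112340151544222244701]
noncomputable def I0 (k u : ℕ) : ℕ := Nat.land (Nat.shiftRight (nth (nat_lit 0) I0d k) (Nat.mul u (nat_lit 4))) (nat_lit 15)
noncomputable def D0d : ℕ := nat_lit 0x10b9daba5732e25be3796b8d65a6349688cd198b295f2bc5742e15a8b315e29952a9e53aa6f4da9952ea5549e93522a3d46e8d516a2744a8710a2043fa7d4f69e73ca774eb9d539a6fcda9af35a69cd319730e5fcbf16f2ce598af95e2aa534a394526e49c8f91e22e458838ff1fc3dc7b0f31de3b8738e61c437c6f0dc1b431c5f8be16e2d8538a61442844f89e1362684a88d10a1e43b8760e21b43385d0aa150248410800f41c0350680a4140240380680a01202203403800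
noncomputable def D0 (u : ℕ) : ℕ := Nat.land (Nat.shiftRight D0d (Nat.mul u (nat_lit 11))) (nat_lit 2047)
noncomputable def RL0 : List (List Rule) := [[.rel (nat_lit 0) (nat_lit 0) [nat_lit 0], .rel (nat_lit 56) (nat_lit 0) [nat_lit 6, nat_lit 5, nat_lit 3, nat_lit 5, nat_lit 6], .rel (nat_lit 16) (nat_lit 2) [nat_lit 1, nat_lit 0, nat_lit 1], .rel (nat_lit 36) (nat_lit 0) [nat_lit 2, nat_lit 5, nat_lit 3, nat_lit 5, nat_lit 2], .rel (nat_lit 18) (nat_lit 2) [nat_lit 3, nat_lit 0, nat_lit 3], .defn, .rel (nat_lit 16) (nat_lit 0) [nat_lit 1, nat_lit 0, nat_lit 1], .rel (nat_lit 18) (nat_lit 0) [nat_lit 3, nat_lit 0, nat_lit 3], .rel (nat_lit 44) (nat_lit 3) [nat_lit 2, nat_lit 6, nat_lit 0, nat_lit 2, nat_lit 6], .rel (nat_lit 24) (nat_lit 0) [nat_lit 1, nat_lit 2, nat_lit 0, nat_lit 3, nat_lit 1, nat_lit 3, nat_lit 2], .rel (nat_lit 30) (nat_lit 3) [nat_lit 3, nat_lit 4, nat_lit 0, nat_lit 1, nat_lit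 4, nat_lit 0, nat_lit 4, nat_lit 0, nat_lit 1, nat_lit 4], .sub (nat_lit 0) [] [], .rel (nat_lit 38) (nat_lit 0) [nat_lit 2, nat_lit 5, nat_lit 4, nat_lit 3, nat_lit 5, nat_lit 4, nat_lit 5, nat_lit 4, nat_lit 2, nat_lit 5], .rel (nat_lit 58) (nat_lit 2) [nat_lit 3, nat_lit 5, nat_lit 2, nat_lit 6, nat_lit 5, nat_lit 2, nat_lit 7, nat_lit 5, nat_lit 6, nat_lit 2, nat_lit 5, nat_lit 7, nat_lit 0, nat_lit 2]],
  [.rel (nat_lit 2) (nat_lit 0) [nat_lit 1], .rel (nat_lit 48) (nat_lit 2) [nat_lit 7, nat_lit 1, nat_lit 7], .defn, .rel (nat_lit 32) (nat_lit 4) [nat_lit 5, nat_lit 1, nat_lit 5, nat_lit 1, nat_lit 5], .rel (nat_lit 40) (nat_lit 2) [nat_lit 6, nat_lit 1, nat_lit 6], .rel (nat_lit 22) (nat_lit 2) [nat_lit 2, nat_lit 1, nat_lit 2], .rel (nat_lit 40) (nat_lit 0) [nat_lit 6, nat_lit 1, nat_lit 6], .rel (nat_lit 48) (nat_lit 0) [nat_lit 7, nat_lit 1, nat_lit 7], .rel (nat_lit 16) (nat_lit 3) [nat_lit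 0, nat_lit 1, nat_lit 0], .rel (nat_lit 28) (nat_lit 3) [nat_lit 4, nat_lit 1, nat_lit 4, nat_lit 1, nat_lit 2, nat_lit 4], .sub (nat_lit 2) [] [], .rel (nat_lit 22) (nat_lit 0) [nat_lit 2, nat_lit 1, nat_lit 2], .rel (nat_lit 28) (nat_lit 0) [nat_lit 2, nat_lit 4, nat_lit 1, nat_lit 4, nat_lit 1, nat_lit 4], .rel (nat_lit 30) (nat_lit 7) [nat_lit 4, nat_lit 0, nat_lit 4, nat_lit 0, nat_lit 1, nat_lit 4, nat_lit 0, nat_lit 3, nat_lit 4, nat_lit 0], .rel (nat_lit 32) (nat_lit 2) [nat_lit 5, nat_lit 1, nat_lit 5, nat_lit 1, nat_lit 5]],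
  [.rel (nat_lit 4) (nat_lit 0) [nat_lit 2], .rel (nat_lit 26) (nat_lit 0) [nat_lit 3, nat_lit 4, nat_lit 3, nat_lit 4], .rel (nat_lit 22) (nat_lit 3) [nat_lit 1, nat_lit 2, nat_lit 1], .rel (nat_lit 20) (nat_lit 2) [nat_lit 3, nat_lit 2, nat_lit 3], .defn, .rel (nat_lit 20) (nat_lit 0) [nat_lit 3, nat_lit 2, nat_lit 3], .rel (nat_lit 36) (nat_lit 1) [nat_lit 5, nat_lit 3, nat_lit 5, nat_lit 2, nat_lit 0], .rel (nat_lit 38) (nat_lit 9) [nat_lit 5, nat_lit 0, nat_lit 2, nat_lit 5, nat_lit 4, nat_lit 3, nat_lit 5, nat_lit 4, nat_lit 5, nat_lit 4], .rel (nat_lit 36) (nat_lit 5) [nat_lit 0, nat_lit 2, nat_lit 5, nat_lit 3, nat_lit 5], .rel (nat_lit 44) (nat_lit 1) [nat_lit 6, nat_lit 0, nat_lit 2, nat_lit 6, nat_lit 0], .rel (nat_lit 44) (nat_lit 4) [nat_lit 6, nat_lit 0, nat_lit 2, nat_lit 6, nat_lit 0], .sub (nat_lit 4) [] [], .rel (nat_lit 28) (nat_lit 1) [nat_lit 4, nat_lit 1, nat_lit 4, nat_lit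 1, nat_lit 4, nat_lit 1], .rel (nat_lit 38) (nat_lit 1) [nat_lit 5, nat_lit 4, nat_lit 3, nat_lit 5, nat_lit 4, nat_lit 5, nat_lit 4, nat_lit 2, nat_lit 5, nat_lit 0]],
  [.rel (nat_lit 6) (nat_lit 0) [nat_lit 3], .rel (nat_lit 52) (nat_lit 2) [nat_lit 7, nat_lit 3, nat_lit 7], .rel (nat_lit 56) (nat_lit 3) [nat_lit 5, nat_lit 6, nat_lit 0, nat_lit 6, nat_lit 5], .rel (nat_lit 26) (nat_lit 3) [nat_lit 4, nat_lit 2, nat_lit 3, nat_lit 4], .rel (nat_lit 36) (nat_lit 3) [nat_lit 5, nat_lit 2, nat_lit 0, nat_lit 2, nat_lit 5], .rel (nat_lit 20) (nat_lit 3) [nat_lit 2, nat_lit 3, nat_lit 2], .rel (nat_lit 18) (nat_lit 3) [nat_lit 0, nat_lit 3, nat_lit 0], .rel (nat_lit 18) (nat_lit 1) [nat_lit 0, nat_lit 3, nat_lit 0], .rel (nat_lit 26) (nat_lit 1) [nat_lit 4, nat_lit 3, nat_lit 4, nat_lit 2], .rel (nat_lit 20) (nat_lit 1) [nat_lit 2, nat_lit 3, nat_lit 2], .rel (nat_lit 52) (nat_lit 0) [nat_lit 7, nat_lit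 3, nat_lit 7], .defn, .sub (nat_lit 6) [] [], .rel (nat_lit 24) (nat_lit 6) [nat_lit 2, nat_lit 0, nat_lit 1, nat_lit 2, nat_lit 0, nat_lit 3, nat_lit 1], .rel (nat_lit 38) (nat_lit 4) [nat_lit 5, nat_lit 4, nat_lit 5, nat_lit 4, nat_lit 2, nat_lit 5, nat_lit 0, nat_lit 2, nat_lit 5, nat_lit 4]],
  [.rel (nat_lit 8) (nat_lit 0) [nat_lit 4], .rel (nat_lit 50) (nat_lit 2) [nat_lit 7, nat_lit 4, nat_lit 7], .defn, .rel (nat_lit 42) (nat_lit 2) [nat_lit 6, nat_lit 4, nat_lit 6], .rel (nat_lit 26) (nat_lit 2) [nat_lit 3, nat_lit 4, nat_lit 2, nat_lit 3], .rel (nat_lit 34) (nat_lit 2) [nat_lit 5, nat_lit 4, nat_lit 5, nat_lit 4, nat_lit 5], .rel (nat_lit 34) (nat_lit 4) [nat_lit 5, nat_lit 4, nat_lit 5, nat_lit 4, nat_lit 5], .rel (nat_lit 26) (nat_lit 4) [nat_lit 2, nat_lit 3, nat_lit 4, nat_lit 3], .rel (nat_lit 38) (nat_lit 6) [nat_lit 5, nat_lit 4, nat_lit 2, nat_lit 5, nat_lit 0, nat_lit 2, nat_lit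 5, nat_lit 4, nat_lit 3, nat_lit 5], .rel (nat_lit 50) (nat_lit 0) [nat_lit 7, nat_lit 4, nat_lit 7], .rel (nat_lit 28) (nat_lit 2) [nat_lit 1, nat_lit 4, nat_lit 1, nat_lit 4, nat_lit 1, nat_lit 2], .sub (nat_lit 8) [] [], .rel (nat_lit 34) (nat_lit 0) [nat_lit 5, nat_lit 4, nat_lit 5, nat_lit 4, nat_lit 5], .rel (nat_lit 42) (nat_lit 0) [nat_lit 6, nat_lit 4, nat_lit 6]],
  [.rel (nat_lit 10) (nat_lit 0) [nat_lit 5], .defn, .rel (nat_lit 34) (nat_lit 3) [nat_lit 4, nat_lit 5, nat_lit 4, nat_lit 5, nat_lit 4], .rel (nat_lit 54) (nat_lit 4) [nat_lit 7, nat_lit 5, nat_lit 7, nat_lit 5, nat_lit 7], .rel (nat_lit 32) (nat_lit 3) [nat_lit 1, nat_lit 5, nat_lit 1, nat_lit 5, nat_lit 1], .rel (nat_lit 46) (nat_lit 4) [nat_lit 6, nat_lit 5, nat_lit 6, nat_lit 5, nat_lit 6], .rel (nat_lit 38) (nat_lit 10) [nat_lit 0, nat_lit 2, nat_lit 5, nat_lit 4, nat_lit 3, nat_lit 5, nat_lit 4, nat_lit 5, nat_lit 4,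 nat_lit 2], .rel (nat_lit 56) (nat_lit 2) [nat_lit 3, nat_lit 5, nat_lit 6, nat_lit 0, nat_lit 6], .rel (nat_lit 56) (nat_lit 4) [nat_lit 6, nat_lit 0, nat_lit 6, nat_lit 5, nat_lit 3], .sub (nat_lit 10) [] [], .rel (nat_lit 36) (nat_lit 4) [nat_lit 2, nat_lit 0, nat_lit 2, nat_lit 5, nat_lit 3], .rel (nat_lit 38) (nat_lit 2) [nat_lit 4, nat_lit 3, nat_lit 5, nat_lit 4, nat_lit 5, nat_lit 4, nat_lit 2, nat_lit 5, nat_lit 0, nat_lit 2], .rel (nat_lit 46) (nat_lit 2) [nat_lit 6, nat_lit 5, nat_lit 6, nat_lit 5, nat_lit 6]],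
  [.rel (nat_lit 12) (nat_lit 0) [nat_lit 6], .rel (nat_lit 40) (nat_lit 3) [nat_lit 1, nat_lit 6, nat_lit 1], .rel (nat_lit 42) (nat_lit 3) [nat_lit 4, nat_lit 6, nat_lit 4], .defn, .rel (nat_lit 46) (nat_lit 3) [nat_lit 5, nat_lit 6, nat_lit 5, nat_lit 6, nat_lit 5], .rel (nat_lit 56) (nat_lit 1) [nat_lit 5, nat_lit 3, nat_lit 5, nat_lit 6, nat_lit 0], .rel (nat_lit 58) (nat_lit 11) [nat_lit 2, nat_lit 5, nat_lit 7, nat_lit 0, nat_lit 2, nat_lit 0, nat_lit 3, nat_lit 5, nat_lit 2, nat_lit 6, nat_lit 5, nat_lit 2, nat_lit 7, nat_lit 5], .rel (nat_lit 42) (nat_lit 1) [nat_lit 4, nat_lit 6, nat_lit 4], .rel (nat_lit 46) (nat_lit 5) [nat_lit 5, nat_lit 6, nat_lit 5, nat_lit 6, nat_lit 5], .rel (nat_lit 56) (nat_lit 5) [nat_lit 0, nat_lit 6, nat_lit 5, nat_lit 3, nat_lit 5], .sub (nat_lit 12) [] [], .rel (nat_lit 44) (nat_lit 2) [nat_lit 0, nat_lit 2, nat_lit 6, nat_lit 0, nat_lit 2]],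
  [.rel (nat_lit 14) (nat_lit 0) [nat_lit 7], .defn, .rel (nat_lit 50) (nat_lit 3) [nat_lit 4, nat_lit 7, nat_lit 4], .rel (nat_lit 54) (nat_lit 3) [nat_lit 5, nat_lit 7, nat_lit 5, nat_lit 7, nat_lit 5], .rel (nat_lit 48) (nat_lit 3) [nat_lit 1, nat_lit 7, nat_lit 1], .rel (nat_lit 52) (nat_lit 3) [nat_lit 3, nat_lit 7, nat_lit 3], .rel (nat_lit 52) (nat_lit 1) [nat_lit 3, nat_lit 7, nat_lit 3], .rel (nat_lit 54) (nat_lit 5) [nat_lit 5, nat_lit 7, nat_lit 5, nat_lit 7, nat_lit 5], .rel (nat_lit 58) (nat_lit 9) [nat_lit 5, nat_lit 6, nat_lit 2, nat_lit 5, nat_lit 7, nat_lit 0, nat_lit 2, nat_lit 0, nat_lit 3, nat_lit 5, nat_lit 2, nat_lit 6, nat_lit 5, nat_lit 2], .rel (nat_lit 58) (nat_lit 14) [nat_lit 0, nat_lit 2, nat_lit 0, nat_lit 3, nat_lit 5, nat_lit 2, nat_lit 6, nat_lit 5, nat_lit 2, nat_lit 7, nat_lit 5, nat_lit 6, nat_lit 2, nat_lit 5]]]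
noncomputable def c0 : TCert := ⟨135, 8, 255, T0, I0, D0, [[nat_lit 0],
  [nat_lit 1],
  [nat_lit 2],
  [nat_lit 3],
  [nat_lit 4],
  [nat_lit 5],
  [nat_lit 6]], RL0⟩
noncomputable def Pt0d : ℕ := nat_lit 0x1012021c0c16d206c214d0d904c0dece1edb0e18d508dc5acc55384a9258573448529dfc825d3c421ad70a909699f6869ff08050b45f3040b7a470bab9aab07360b3a0949bfa847e787b687d6ebe3b28bdae29ffec3724253f2ced2d767566f3e0f5e6e7e13320a52161aba14bf9eaeb6f0769af834943c36781058741c1cf8509cd0d0b0f0301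
noncomputable def Pt0 (u : ℕ) : ℕ := Nat.land (Nat.shiftRight Pt0d (Nat.mul u (nat_lit 8))) (nat_lit 255)
noncomputable def Q0d : ℕ := nat_lit 0x3300006300411900005825002700005500002c321718000023240000000022260078007075007b005d0072000080007c0877056e00000000000000000f7e097900393600004b4a004e00005245000048133500001c49000000001f4d00001b445600640042005900005a0043006a005b00000000000000000b57074012620d54003f3b003d00003e002a29004700004c163a00000000143c0e28000000001d4651006100006f006968006d0000650053000000001a6b116600000000105f0a4f2e0000603800006c310000672100005000002b2d0000343700002f3000001e2000760083005e00730081007d0085008602740482035c0671157f0c7a01840000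
noncomputable def Q0 (u : ℕ) : ℕ := Nat.land (Nat.shiftRight Q0d (Nat.mul u (nat_lit 8))) (nat_lit 255)
noncomputable def l0 : H16.Lev := ⟨135, 8, D0, Pt0, Q0⟩
noncomputable def T1d : List ℕ := [nat_lit 0x11edee04fe97951a94dd2797fe2bd15c14f6f317362cbdde85365b944922daeb38b5c38e4530e8893a78224b16e85546610ae9a68efc06a23aa94829bf7aea11e2410ad3a4aaadc84dc72ee95719bc42c5af0eb4c8c95c46f0b7cfbe6ce1af933c4981cb0ae837c0,
  nat_lit 0xfe05ec0f21bf09f16e807a0f529bd0d81712718f9a7aa4696704b1dd8a5cf66c972a6ca453228956a972557758497dcb91ad794b4fcd6ad3aa2692dcc7af1f724bc7228682b7e0b69d42ef13788becdf5df8f44ca695e16fa37d07c6dd12f95706bc15f0ee837c0,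
  nat_lit 0x19f0dfc6fa9fb4de17e94723b827b96d956b02d834b3aa14e4705f1238e0e909fbaf34ca16779b878bd72f348584572ebef288568765caef26f26bf45f966b28243c7208172b7e1beec03652354a9879d5e0a4c4ca63d4425935c5a45de0eb11782be35f12e037c0,
  nat_lit 0x15f0bfc870ffc85da5da1f23fd27824ea1eaf6c798b5bdde64b76991e91fbefb4bceb189f4f1a57b4bb863d07ee5ec30a9d4c7d7816de4efd6f9490d496e332ba34103f397aafdcbef45364a31d0ae4be5a22534c903c82ab1f645925ca1ac11684961db0a5037c0,
  nat_lit 0xbdd89f2f6e23ebffcce94f37b0bfe98d95eaaf46f7dd9dad57f86d99a8d8dab5f555b4c59c4e61b995e69bb866433732a5c5071659630797a6da56aa5f998ab69834b9b81832d1b5cede299990cda67db3a120c91bc35f4a893784bc1df2ef057c8be3df16e837c0,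
  nat_lit 0x6be86f9a7f7b4bd9decaf62638bd7debaf597fcbfddfeaff37a4bfbdfda6d37f5575d9aa65aae89b3998163b7f0811d188bae6a6b4fcf656cb792bc8de4273d698310de3682b78bbc55f72fb77daa845e1efad786bea5f4e51354fbe75f32e0b484b81de06f857c0,
  nat_lit 0x53f87f89f0abc55d97d956a53d2b818e95f37abbd45e9af4a5b7bd0de82f3d79dbfa5e72f377f3bcd5fcafe3797bcb5e52fdf7eebc9dfb6fd97eabf4df9e82378ebf25f8ef197e2befda4a8b3390a44df6209b7d5a45db2a99f3c8b63d11ae0b404b81dd0af017c1]
noncomputable def T1 (k u : ℕ) : ℕ := Nat.land (Nat.shiftRight (nth (nat_lit 0) T1d k) (Nat.mul u (nat_lit 13))) (nat_lit 8191)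
noncomputable def I1d : List ℕ := [nat_lit 0x970003111500005014511422220020144000610117ab60000c000332315218,
  nat_lit 0xa31005065401110465113013070500101b304000001247002234002209200258,
  nat_lit 0x64a01115410000473307150cb06000350002260401220333011904100002258,
  nat_lit 0x945111070102400000204100828300010600530354567b2300103049202151a,
  nat_lit 0x400276025541612015110130041000301303211400000539700021002022268,
  nat_lit 0x340000030001111011b142062001220524500002602001110010119a11338017,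
  nat_lit 0x2504400204400004000010010110001101111100110112330121337222233601]
noncomputable def I1 (k u : ℕ) : ℕ := Nat.land (Nat.shiftRight (nth (nat_lit 0) I1d k) (Nat.mul u (nat_lit 4))) (nat_lit 15)
noncomputable def D1d : ℕ := nat_lit 0xd0e230b71b558eb954a751e73338f442130176b99b0d16732986bf5e2e970a7502491c8d45a210e833e1d4d46831980b4522592880391c0d8622f1709046200c85c2410078300c00
noncomputable def D1 (u : ℕ) : ℕ := Nat.land (Nat.shiftRight D1d (Nat.mul u (nat_lit 9))) (nat_lit 511)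
noncomputable def RL1 : List (List Rule) := [[.rel (nat_lit 0) (nat_lit 0) [nat_lit 0], .rel (nat_lit 56) (nat_lit 0) [nat_lit 6, nat_lit 5, nat_lit 3, nat_lit 5, nat_lit 6], .rel (nat_lit 16) (nat_lit 2) [nat_lit 1, nat_lit 0, nat_lit 1], .defn, .rel (nat_lit 18) (nat_lit 2) [nat_lit 3, nat_lit 0, nat_lit 3], .rel (nat_lit 36) (nat_lit 0) [nat_lit 2, nat_lit 5, nat_lit 3, nat_lit 5, nat_lit 2], .rel (nat_lit 16) (nat_lit 0) [nat_lit 1, nat_lit 0, nat_lit 1], .rel (nat_lit 44) (nat_lit 3) [nat_lit 2, nat_lit 6, nat_lit 0, nat_lit 2, nat_lit 6], .sub (nat_lit 0) [] [], .rel (nat_lit 18) (nat_lit 0) [nat_lit 3, nat_lit 0, nat_lit 3], .rel (nat_lit 24) (nat_lit 0) [nat_lit 1, nat_lit 2, nat_lit 0, nat_lit 3, nat_lit 1, nat_lit 3, nat_lit 2], .rel (nat_lit 30) (nat_lit 3) [nat_lit 3, nat_lit 4, nat_lit 0, nat_lit 1, nat_lit 4, nat_lit 0, nat_lit 4, nat_lit 0, nat_lit 1, nat_lit 4], .rel (nat_lit 44)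 (nat_lit 0) [nat_lit 2, nat_lit 6, nat_lit 0, nat_lit 2, nat_lit 6]],
  [.rel (nat_lit 2) (nat_lit 0) [nat_lit 1], .rel (nat_lit 40) (nat_lit 2) [nat_lit 6, nat_lit 1, nat_lit 6], .defn, .rel (nat_lit 22) (nat_lit 2) [nat_lit 2, nat_lit 1, nat_lit 2], .rel (nat_lit 32) (nat_lit 4) [nat_lit 5, nat_lit 1, nat_lit 5, nat_lit 1, nat_lit 5], .rel (nat_lit 40) (nat_lit 0) [nat_lit 6, nat_lit 1, nat_lit 6], .rel (nat_lit 16) (nat_lit 3) [nat_lit 0, nat_lit 1, nat_lit 0], .rel (nat_lit 28) (nat_lit 3) [nat_lit 4, nat_lit 1, nat_lit 4, nat_lit 1, nat_lit 2, nat_lit 4], .sub (nat_lit 2) [] [], .rel (nat_lit 22) (nat_lit 0) [nat_lit 2, nat_lit 1, nat_lit 2], .rel (nat_lit 30) (nat_lit 7) [nat_lit 4, nat_lit 0, nat_lit 4, nat_lit 0, nat_lit 1, nat_lit 4, nat_lit 0, nat_lit 3, nat_lit 4, nat_lit 0], .rel (nat_lit 32) (nat_lit 2) [nat_lit 5, nat_lit 1, nat_lit 5, nat_lit 1, nat_lit 5]],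
  [.rel (nat_lit 4) (nat_lit 0) [nat_lit 2], .rel (nat_lit 26) (nat_lit 0) [nat_lit 3, nat_lit 4, nat_lit 3, nat_lit 4], .defn, .rel (nat_lit 22) (nat_lit 3) [nat_lit 1, nat_lit 2, nat_lit 1], .rel (nat_lit 20) (nat_lit 2) [nat_lit 3, nat_lit 2, nat_lit 3], .rel (nat_lit 44) (nat_lit 1) [nat_lit 6, nat_lit 0, nat_lit 2, nat_lit 6, nat_lit 0], .rel (nat_lit 36) (nat_lit 1) [nat_lit 5, nat_lit 3, nat_lit 5, nat_lit 2, nat_lit 0], .rel (nat_lit 20) (nat_lit 0) [nat_lit 3, nat_lit 2, nat_lit 3], .sub (nat_lit 4) [] [], .rel (nat_lit 28) (nat_lit 1) [nat_lit 4, nat_lit 1, nat_lit 4, nat_lit 1, nat_lit 4, nat_lit 1], .rel (nat_lit 36) (nat_lit 5) [nat_lit 0, nat_lit 2, nat_lit 5, nat_lit 3, nat_lit 5], .rel (nat_lit 38) (nat_lit 9) [nat_lit 5, nat_lit 0, nat_lit 2, nat_lit 5, nat_lit 4, nat_lit 3, nat_lit 5, nat_lit 4, nat_lit 5, nat_lit 4], .rel (nat_lit 44) (nat_lit 4) [nat_lit 6, nat_lit 0, nat_lit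 2, nat_lit 6, nat_lit 0]],
  [.rel (nat_lit 6) (nat_lit 0) [nat_lit 3], .rel (nat_lit 56) (nat_lit 3) [nat_lit 5, nat_lit 6, nat_lit 0, nat_lit 6, nat_lit 5], .rel (nat_lit 20) (nat_lit 3) [nat_lit 2, nat_lit 3, nat_lit 2], .rel (nat_lit 18) (nat_lit 3) [nat_lit 0, nat_lit 3, nat_lit 0], .rel (nat_lit 26) (nat_lit 3) [nat_lit 4, nat_lit 2, nat_lit 3, nat_lit 4], .rel (nat_lit 36) (nat_lit 3) [nat_lit 5, nat_lit 2, nat_lit 0, nat_lit 2, nat_lit 5], .defn, .rel (nat_lit 18) (nat_lit 1) [nat_lit 0, nat_lit 3, nat_lit 0], .rel (nat_lit 20) (nat_lit 1) [nat_lit 2, nat_lit 3, nat_lit 2], .rel (nat_lit 26) (nat_lit 1) [nat_lit 4, nat_lit 3, nat_lit 4, nat_lit 2], .sub (nat_lit 6) [] [], .rel (nat_lit 24) (nat_lit 6) [nat_lit 2, nat_lit 0, nat_lit 1, nat_lit 2, nat_lit 0, nat_lit 3, nat_lit 1]],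
  [.rel (nat_lit 8) (nat_lit 0) [nat_lit 4], .rel (nat_lit 42) (nat_lit 2) [nat_lit 6, nat_lit 4, nat_lit 6], .defn, .rel (nat_lit 26) (nat_lit 2) [nat_lit 3, nat_lit 4, nat_lit 2, nat_lit 3], .rel (nat_lit 26) (nat_lit 4) [nat_lit 2, nat_lit 3, nat_lit 4, nat_lit 3], .rel (nat_lit 34) (nat_lit 2) [nat_lit 5, nat_lit 4, nat_lit 5, nat_lit 4, nat_lit 5], .rel (nat_lit 42) (nat_lit 0) [nat_lit 6, nat_lit 4, nat_lit 6], .rel (nat_lit 34) (nat_lit 4) [nat_lit 5, nat_lit 4, nat_lit 5, nat_lit 4, nat_lit 5], .sub (nat_lit 8) [] [], .rel (nat_lit 38) (nat_lit 6) [nat_lit 5, nat_lit 4, nat_lit 2, nat_lit 5, nat_lit 0, nat_lit 2, nat_lit 5, nat_lit 4, nat_lit 3, nat_lit 5]],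
  [.rel (nat_lit 10) (nat_lit 0) [nat_lit 5], .defn, .rel (nat_lit 46) (nat_lit 4) [nat_lit 6, nat_lit 5, nat_lit 6, nat_lit 5, nat_lit 6], .rel (nat_lit 34) (nat_lit 3) [nat_lit 4, nat_lit 5, nat_lit 4, nat_lit 5, nat_lit 4], .rel (nat_lit 56) (nat_lit 4) [nat_lit 6, nat_lit 0, nat_lit 6, nat_lit 5, nat_lit 3], .rel (nat_lit 34) (nat_lit 1) [nat_lit 4, nat_lit 5, nat_lit 4, nat_lit 5, nat_lit 4], .rel (nat_lit 56) (nat_lit 2) [nat_lit 3, nat_lit 5, nat_lit 6, nat_lit 0, nat_lit 6], .sub (nat_lit 10) [] [], .rel (nat_lit 32) (nat_lit 3) [nat_lit 1, nat_lit 5, nat_lit 1, nat_lit 5, nat_lit 1], .rel (nat_lit 36) (nat_lit 4) [nat_lit 2, nat_lit 0, nat_lit 2, nat_lit 5, nat_lit 3], .rel (nat_lit 38) (nat_lit 10) [nat_lit 0, nat_lit 2, nat_lit 5, nat_lit 4, nat_lit 3, nat_lit 5, nat_lit 4, nat_lit 5, nat_lit 4, nat_lit 2], .rel (nat_lit 46) (nat_lit 2) [nat_lit 6, nat_lit 5, nat_lit 6, nat_lit 5, nat_lit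 6]],
  [.rel (nat_lit 12) (nat_lit 0) [nat_lit 6], .defn, .rel (nat_lit 42) (nat_lit 3) [nat_lit 4, nat_lit 6, nat_lit 4], .rel (nat_lit 40) (nat_lit 3) [nat_lit 1, nat_lit 6, nat_lit 1], .rel (nat_lit 46) (nat_lit 3) [nat_lit 5, nat_lit 6, nat_lit 5, nat_lit 6, nat_lit 5], .rel (nat_lit 42) (nat_lit 1) [nat_lit 4, nat_lit 6, nat_lit 4], .rel (nat_lit 46) (nat_lit 5) [nat_lit 5, nat_lit 6, nat_lit 5, nat_lit 6, nat_lit 5], .rel (nat_lit 56) (nat_lit 1) [nat_lit 5, nat_lit 3, nat_lit 5, nat_lit 6, nat_lit 0]]]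
noncomputable def c1 : TCert := ⟨64, 7, 63, T1, I1, D1, [[nat_lit 0],
  [nat_lit 1],
  [nat_lit 2],
  [nat_lit 3],
  [nat_lit 4],
  [nat_lit 5]], RL1⟩
noncomputable def Pt1d : ℕ := nat_lit 0xd8dad454569c5cd6989e5eb6b872b29a7a7c3abc39fe36353efd3d74f2f4f7f132b53171bbb15bf8fb7f1779bf935953d37791159751d1df9519dd1d1b1f1311
noncomputable def Pt1 (u : ℕ) : ℕ := Nat.land (Nat.shiftRight Pt1d (Nat.mul u (nat_lit 8))) (nat_lit 255)
noncomputable def Q1d : ℕ := nat_lit 0x2a9805c001884002202380000000000000000000000000020014003e03f03803d3c02400000000000000000000000004c002c6c003303478003168000000000000000000000000003603a0300372c01c048034000000000000000000000000058002e02f50038002403270000000000000000000000000003503964044003b03c40028000000000000000000000000002794002dac0029a0001f7400000000000000000000000000801000c0180540300040000000000000000000000000000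
noncomputable def Q1 (u : ℕ) : ℕ := Nat.land (Nat.shiftRight Q1d (Nat.mul u (nat_lit 6))) (nat_lit 63)
noncomputable def l1 : H16.Lev := ⟨64, 7, D1, Pt1, Q1⟩
noncomputable def T2d : List ℕ := [nat_lit 0x9a292121c95f95e09526085795a19389281bd4f0dd00d1d98d8acad49d16d87054d8650ba91d10d84dcedcccc5dc8d43c02bc1dc0,
  nat_lit 0x9dfa614199a2ade254d93a57cda3e0a98a1bd8ed8d21dddcd12b4ad88d87dd6dd58c6b4bb11d84dd0dcf88cd43dc9d05d81dc2dc0,
  nat_lit 0xd5bd98859d97a9ed932d4d22d92820de1ddfb160cd29cddddda90cad0bc9b4e09595154bb86b8fb08c44b4ad82c07d81dc5dc3dc0,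
  nat_lit 0xd9a9df7dda2199e7a0115d92de2893a57a989d615c8cd8d9ddba4ca90a0fc48894a11bcbc06a49c0ecc4bcac45c87d03c82d41dc0,
  nat_lit 0x46275dd976d9d967212d445b4d269f653de0dde15531c61849ad895cb9ccb4ed0d98f590d85dd1b08d83d82dcad81dc7dc6dc4dc0,
  nat_lit 0x4e24e139c51a41e1d5360ad655fd91d90d8fa9b19dd8cd8ad89dd9dd8dd7b87d86dd4d85dd3dd2ac8bcedcddcbd44b83d42d80dc1]
noncomputable def T2 (k u : ℕ) : ℕ := Nat.land (Nat.shiftRight (nth (nat_lit 0) T2d k) (Nat.mul u (nat_lit 12))) (nat_lit 4095)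
noncomputable def I2d : List ℕ := [nat_lit 0x32017032200052016750010300044143618,
  nat_lit 0x22505408203000013700112300110410016,
  nat_lit 0x60907020001134011033802220420000115,
  nat_lit 0x82a000400131114792300153050202116,
  nat_lit 0x42040002502113300052370001200101116,
  nat_lit 0x28306302400000000111001011291174501]
noncomputable def I2 (k u : ℕ) : ℕ := Nat.land (Nat.shiftRight (nth (nat_lit 0) I2d k) (Nat.mul u (nat_lit 4))) (nat_lit 15)
noncomputable def D2d : ℕ := nat_lit 0x9f928e8c8874736f6e6b655f554f4d413b3a312b2a29242322191816100e0a08070500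
noncomputable def D2 (u : ℕ) : ℕ := Nat.land (Nat.shiftRight D2d (Nat.mul u (nat_lit 8))) (nat_lit 255)
noncomputable def RL2 : List (List Rule) := [[.rel (nat_lit 0) (nat_lit 0) [nat_lit 0], .rel (nat_lit 16) (nat_lit 2) [nat_lit 1, nat_lit 0, nat_lit 1], .rel (nat_lit 18) (nat_lit 2) [nat_lit 3, nat_lit 0, nat_lit 3], .rel (nat_lit 36) (nat_lit 0) [nat_lit 2, nat_lit 5, nat_lit 3, nat_lit 5, nat_lit 2], .defn, .rel (nat_lit 16) (nat_lit 0) [nat_lit 1, nat_lit 0, nat_lit 1], .rel (nat_lit 24) (nat_lit 0) [nat_lit 1, nat_lit 2, nat_lit 0, nat_lit 3, nat_lit 1, nat_lit 3, nat_lit 2], .rel (nat_lit 30) (nat_lit 3) [nat_lit 3, nat_lit 4, nat_lit 0, nat_lit 1, nat_lit 4, nat_lit 0, nat_lit 4, nat_lit 0, nat_lit 1, nat_lit 4], .sub (nat_lit 0) [] []],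
  [.rel (nat_lit 2) (nat_lit 0) [nat_lit 1], .defn, .rel (nat_lit 22) (nat_lit 2) [nat_lit 2, nat_lit 1, nat_lit 2], .rel (nat_lit 32) (nat_lit 4) [nat_lit 5, nat_lit 1, nat_lit 5, nat_lit 1, nat_lit 5], .rel (nat_lit 22) (nat_lit 0) [nat_lit 2, nat_lit 1, nat_lit 2], .rel (nat_lit 28) (nat_lit 3) [nat_lit 4, nat_lit 1, nat_lit 4, nat_lit 1, nat_lit 2, nat_lit 4], .sub (nat_lit 2) [] [], .rel (nat_lit 28) (nat_lit 0) [nat_lit 2, nat_lit 4, nat_lit 1, nat_lit 4, nat_lit 1, nat_lit 4], .rel (nat_lit 32) (nat_lit 2) [nat_lit 5, nat_lit 1, nat_lit 5, nat_lit 1, nat_lit 5]],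
  [.rel (nat_lit 4) (nat_lit 0) [nat_lit 2], .defn, .rel (nat_lit 26) (nat_lit 0) [nat_lit 3, nat_lit 4, nat_lit 3, nat_lit 4], .rel (nat_lit 22) (nat_lit 3) [nat_lit 1, nat_lit 2, nat_lit 1], .rel (nat_lit 20) (nat_lit 2) [nat_lit 3, nat_lit 2, nat_lit 3], .sub (nat_lit 4) [] [], .rel (nat_lit 20) (nat_lit 0) [nat_lit 3, nat_lit 2, nat_lit 3], .rel (nat_lit 28) (nat_lit 1) [nat_lit 4, nat_lit 1, nat_lit 4, nat_lit 1, nat_lit 4, nat_lit 1], .rel (nat_lit 36) (nat_lit 1) [nat_lit 5, nat_lit 3, nat_lit 5, nat_lit 2, nat_lit 0], .rel (nat_lit 38) (nat_lit 9) [nat_lit 5, nat_lit 0, nat_lit 2, nat_lit 5, nat_lit 4, nat_lit 3, nat_lit 5, nat_lit 4, nat_lit 5, nat_lit 4]],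
  [.rel (nat_lit 6) (nat_lit 0) [nat_lit 3], .rel (nat_lit 36) (nat_lit 3) [nat_lit 5, nat_lit 2, nat_lit 0, nat_lit 2, nat_lit 5], .rel (nat_lit 20) (nat_lit 3) [nat_lit 2, nat_lit 3, nat_lit 2], .rel (nat_lit 18) (nat_lit 3) [nat_lit 0, nat_lit 3, nat_lit 0], .defn, .rel (nat_lit 26) (nat_lit 3) [nat_lit 4, nat_lit 2, nat_lit 3, nat_lit 4], .sub (nat_lit 6) [] [], .rel (nat_lit 18) (nat_lit 1) [nat_lit 0, nat_lit 3, nat_lit 0], .rel (nat_lit 20) (nat_lit 1) [nat_lit 2, nat_lit 3, nat_lit 2], .rel (nat_lit 24) (nat_lit 6) [nat_lit 2, nat_lit 0, nat_lit 1, nat_lit 2, nat_lit 0, nat_lit 3, nat_lit 1], .rel (nat_lit 26) (nat_lit 1) [nat_lit 4, nat_lit 3, nat_lit 4, nat_lit 2]],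
  [.rel (nat_lit 8) (nat_lit 0) [nat_lit 4], .defn, .rel (nat_lit 26) (nat_lit 2) [nat_lit 3, nat_lit 4, nat_lit 2, nat_lit 3], .rel (nat_lit 34) (nat_lit 0) [nat_lit 5, nat_lit 4, nat_lit 5, nat_lit 4, nat_lit 5], .rel (nat_lit 26) (nat_lit 4) [nat_lit 2, nat_lit 3, nat_lit 4, nat_lit 3], .rel (nat_lit 34) (nat_lit 2) [nat_lit 5, nat_lit 4, nat_lit 5, nat_lit 4, nat_lit 5], .sub (nat_lit 8) [] [], .rel (nat_lit 34) (nat_lit 4) [nat_lit 5, nat_lit 4, nat_lit 5, nat_lit 4, nat_lit 5]],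
  [.rel (nat_lit 10) (nat_lit 0) [nat_lit 5], .defn, .rel (nat_lit 36) (nat_lit 4) [nat_lit 2, nat_lit 0, nat_lit 2, nat_lit 5, nat_lit 3], .rel (nat_lit 32) (nat_lit 1) [nat_lit 1, nat_lit 5, nat_lit 1, nat_lit 5, nat_lit 1], .rel (nat_lit 38) (nat_lit 2) [nat_lit 4, nat_lit 3, nat_lit 5, nat_lit 4, nat_lit 5, nat_lit 4, nat_lit 2, nat_lit 5, nat_lit 0, nat_lit 2], .rel (nat_lit 32) (nat_lit 5) [nat_lit 1, nat_lit 5, nat_lit 1, nat_lit 5, nat_lit 1], .rel (nat_lit 34) (nat_lit 3) [nat_lit 4, nat_lit 5, nat_lit 4, nat_lit 5, nat_lit 4], .rel (nat_lit 34) (nat_lit 5) [nat_lit 4, nat_lit 5, nat_lit 4, nat_lit 5, nat_lit 4], .rel (nat_lit 36) (nat_lit 2) [nat_lit 3, nat_lit 5, nat_lit 2, nat_lit 0, nat_lit 2], .rel (nat_lit 38) (nat_lit 10) [nat_lit 0, nat_lit 2, nat_lit 5, nat_lit 4, nat_lit 3, nat_lit 5, nat_lit 4, nat_lit 5, nat_lit 4, nat_lit 2]]]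
noncomputable def c2 : TCert := ⟨35, 6, 63, T2, I2, D2, [[nat_lit 0],
  [nat_lit 1],
  [nat_lit 2],
  [nat_lit 3],
  [nat_lit 4]], RL2⟩
noncomputable def Pt2d : ℕ := nat_lit 0x3935fd3d17f7f1b53171bbb15bfb7f79bf935953d37791159751d1df9519dd1d1b1f13
noncomputable def Pt2 (u : ℕ) : ℕ := Nat.land (Nat.shiftRight Pt2d (Nat.mul u (nat_lit 8))) (nat_lit 255)
noncomputable def Q2d : ℕ := nat_lit 0x8005400007400000007000000000000000000000000001c01000000000000003802000000000000000000000000004800006000000006c00005c00000000000000000000000000000000000002801804403000000000000000000000000005000000004c03400000006400000000000000000000000000000005804000000003c02400000000000000000000000000007c00008800008400006800000000000000000000000000400c00801407802c0000000000000000000000000000000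
noncomputable def Q2 (u : ℕ) : ℕ := Nat.land (Nat.shiftRight Q2d (Nat.mul u (nat_lit 6))) (nat_lit 63)
noncomputable def l2 : H16.Lev := ⟨35, 6, D2, Pt2, Q2⟩
noncomputable def T3d : List ℕ := [nat_lit 0x1474b03dee0b746dc34582687aa36cdab23c1341d8b60,
  nat_lit 0x1b58b73f49244c65c247dbb259a8ecc2342d0764d8f60,
  nat_lit 0x2b92c7bcd182510a1a2a7b744b1e6bd0b68b8f65c0760,
  nat_lit 0x3c68c83d4e73670b1aca8a644d0eabb9668d9f02c8760,
  nat_lit 0xd31ced29b0d2371d176fd136da9f42daf69b0f66d0361]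
noncomputable def T3 (k u : ℕ) : ℕ := Nat.land (Nat.shiftRight (nth (nat_lit 0) T3d k) (Nat.mul u (nat_lit 10))) (nat_lit 1023)
noncomputable def I3d : List ℕ := [nat_lit 0x38690218c4d00c,
  nat_lit 0x361000aa8004c,
  nat_lit 0x12482c0a0268c,
  nat_lit 0x21e9081272883,
  nat_lit 0x4001041409641]
noncomputable def I3 (k u : ℕ) : ℕ := Nat.land (Nat.shiftRight (nth (nat_lit 0) I3d k) (Nat.mul u (nat_lit 3))) (nat_lit 7)
noncomputable def D3d : ℕ := nat_lit 0x20376cb961e3a64c16243860b0c14200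
noncomputable def D3 (u : ℕ) : ℕ := Nat.land (Nat.shiftRight D3d (Nat.mul u (nat_lit 7))) (nat_lit 127)
noncomputable def RL3 : List (List Rule) := [[.rel (nat_lit 0) (nat_lit 0) [nat_lit 0], .defn, .rel (nat_lit 16) (nat_lit 2) [nat_lit 1, nat_lit 0, nat_lit 1], .rel (nat_lit 30) (nat_lit 3) [nat_lit 3, nat_lit 4, nat_lit 0, nat_lit 1, nat_lit 4, nat_lit 0, nat_lit 4, nat_lit 0, nat_lit 1, nat_lit 4], .sub (nat_lit 0) [] [], .rel (nat_lit 16) (nat_lit 0) [nat_lit 1, nat_lit 0, nat_lit 1], .rel (nat_lit 24) (nat_lit 0) [nat_lit 1, nat_lit 2, nat_lit 0, nat_lit 3, nat_lit 1, nat_lit 3, nat_lit 2], .rel (nat_lit 24) (nat_lit 3) [nat_lit 3, nat_lit 1, nat_lit 3, nat_lit 2, nat_lit 0, nat_lit 1, nat_lit 2]],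
  [.rel (nat_lit 2) (nat_lit 0) [nat_lit 1], .defn, .rel (nat_lit 22) (nat_lit 0) [nat_lit 2, nat_lit 1, nat_lit 2], .rel (nat_lit 28) (nat_lit 0) [nat_lit 2, nat_lit 4, nat_lit 1, nat_lit 4, nat_lit 1, nat_lit 4], .sub (nat_lit 2) [] [], .rel (nat_lit 16) (nat_lit 1) [nat_lit 0, nat_lit 1, nat_lit 0]],
  [.rel (nat_lit 4) (nat_lit 0) [nat_lit 2], .rel (nat_lit 26) (nat_lit 0) [nat_lit 3, nat_lit 4, nat_lit 3, nat_lit 4], .defn, .rel (nat_lit 22) (nat_lit 3) [nat_lit 1, nat_lit 2, nat_lit 1], .sub (nat_lit 4) [] [], .rel (nat_lit 20) (nat_lit 2) [nat_lit 3, nat_lit 2, nat_lit 3]],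
  [.rel (nat_lit 26) (nat_lit 3) [nat_lit 4, nat_lit 2, nat_lit 3, nat_lit 4], .rel (nat_lit 6) (nat_lit 0) [nat_lit 3], .rel (nat_lit 18) (nat_lit 3) [nat_lit 0, nat_lit 3, nat_lit 0], .sub (nat_lit 6) [] [], .defn, .rel (nat_lit 20) (nat_lit 1) [nat_lit 2, nat_lit 3, nat_lit 2], .rel (nat_lit 20) (nat_lit 3) [nat_lit 2, nat_lit 3, nat_lit 2], .rel (nat_lit 30) (nat_lit 4) [nat_lit 4, nat_lit 0, nat_lit 1, nat_lit 4, nat_lit 0, nat_lit 4, nat_lit 0, nat_lit 1, nat_lit 4, nat_lit 0]],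
  [.rel (nat_lit 8) (nat_lit 0) [nat_lit 4], .defn, .rel (nat_lit 26) (nat_lit 2) [nat_lit 3, nat_lit 4, nat_lit 2, nat_lit 3], .rel (nat_lit 28) (nat_lit 2) [nat_lit 1, nat_lit 4, nat_lit 1, nat_lit 4, nat_lit 1, nat_lit 2], .rel (nat_lit 30) (nat_lit 5) [nat_lit 0, nat_lit 1, nat_lit 4, nat_lit 0, nat_lit 4, nat_lit 0, nat_lit 1, nat_lit 4, nat_lit 0, nat_lit 3]]]
noncomputable def c3 : TCert := ⟨18, 5, 31, T3, I3, D3, [[nat_lit 0],
  [nat_lit 1],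
  [nat_lit 2],
  [nat_lit 3]], RL3⟩
noncomputable def Pt3d : ℕ := nat_lit 0x884060a0c86804a0ecec28242ccc0404804
noncomputable def Pt3 (u : ℕ) : ℕ := Nat.land (Nat.shiftRight Pt3d (Nat.mul u (nat_lit 8))) (nat_lit 255)
noncomputable def Q3d : ℕ := nat_lit 0x2004000000000001c030000000000000000000000000000000000000000000000000000000000000000000000030100180b000000000000000000000000000000000000000000000000000000000000000000280100000014020000000000000000000000000000000000000000000000000000000000000240d0381103c0000000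
noncomputable def Q3 (u : ℕ) : ℕ := Nat.land (Nat.shiftRight Q3d (Nat.mul u (nat_lit 5))) (nat_lit 31)
noncomputable def l3 : H16.Lev := ⟨18, 5, D3, Pt3, Q3⟩
noncomputable def T4d : List ℕ := [nat_lit 0x68196af72ca1c0,
  nat_lit 0x2899d0f57158c0,
  nat_lit 0x4aecfb28cb1c41,
  nat_lit 0x76547398ee2242]
noncomputable def T4 (k u : ℕ) : ℕ := Nat.land (Nat.shiftRight (nth (nat_lit 0) T4d k) (Nat.mul u (nat_lit 7))) (nat_lit 127)
noncomputable def I4d : List ℕ := [nat_lit 0x36005a,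
  nat_lit 0x2408ea,
  nat_lit 0x602201,
  nat_lit 0x80209]
noncomputable def I4 (k u : ℕ) : ℕ := Nat.land (Nat.shiftRight (nth (nat_lit 0) I4d k) (Nat.mul u (nat_lit 3))) (nat_lit 7)
noncomputable def D4d : ℕ := nat_lit 0xfe974320
noncomputable def D4 (u : ℕ) : ℕ := Nat.land (Nat.shiftRight D4d (Nat.mul u (nat_lit 4))) (nat_lit 15)
noncomputable def RL4 : List (List Rule) := [[.rel (nat_lit 0) (nat_lit 0) [nat_lit 0], .rel (nat_lit 18) (nat_lit 0) [nat_lit 3, nat_lit 0, nat_lit 3], .sub (nat_lit 0) [] [], .defn, .rel (nat_lit 16) (nat_lit 2) [nat_lit 1, nat_lit 0, nat_lit 1], .rel (nat_lit 18) (nat_lit 2) [nat_lit 3, nat_lit 0, nat_lit 3]],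
  [.rel (nat_lit 2) (nat_lit 0) [nat_lit 1], .rel (nat_lit 22) (nat_lit 2) [nat_lit 2, nat_lit 1, nat_lit 2], .sub (nat_lit 2) [] [], .defn, .rel (nat_lit 16) (nat_lit 3) [nat_lit 0, nat_lit 1, nat_lit 0], .rel (nat_lit 22) (nat_lit 0) [nat_lit 2, nat_lit 1, nat_lit 2]],
  [.rel (nat_lit 4) (nat_lit 0) [nat_lit 2], .defn, .rel (nat_lit 20) (nat_lit 0) [nat_lit 3, nat_lit 2, nat_lit 3], .rel (nat_lit 24) (nat_lit 7) [nat_lit 0, nat_lit 1, nat_lit 2, nat_lit 0, nat_lit 3, nat_lit 1, nat_lit 3]],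
  [.rel (nat_lit 6) (nat_lit 0) [nat_lit 3], .defn, .rel (nat_lit 20) (nat_lit 3) [nat_lit 2, nat_lit 3, nat_lit 2]]]
noncomputable def c4 : TCert := ⟨8, 4, 7, T4, I4, D4, [[nat_lit 0],
  [nat_lit 1]], RL4⟩
noncomputable def Pt4d : ℕ := nat_lit 0xb1353db5bb39bf31
noncomputable def Pt4 (u : ℕ) : ℕ := Nat.land (Nat.shiftRight Pt4d (Nat.mul u (nat_lit 8))) (nat_lit 255)
noncomputable def Q4d : ℕ := nat_lit 0x200600020038000000000000000000000000000000000000000000000000000000000000000000000000000000000000028010030000000000000000000000000000000000000000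
noncomputable def Q4 (u : ℕ) : ℕ := Nat.land (Nat.shiftRight Q4d (Nat.mul u (nat_lit 3))) (nat_lit 7)
noncomputable def l4 : H16.Lev := ⟨8, 4, D4, Pt4, Q4⟩
noncomputable def T5d : List ℕ := [nat_lit 0x638d,
  nat_lit 0x98fe]
noncomputable def T5 (k u : ℕ) : ℕ := Nat.land (Nat.shiftRight (nth (nat_lit 0) T5d k) (Nat.mul u (nat_lit 4))) (nat_lit 15)
noncomputable def I5d : List ℕ := [nat_lit 0x81,
  nat_lit 5]
noncomputable def I5 (k u : ℕ) : ℕ := Nat.land (Nat.shiftRight (nth (nat_lit 0) I5d k) (Nat.mul u (nat_lit 2))) (nat_lit 3)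
noncomputable def D5d : ℕ := nat_lit 0xd0
noncomputable def D5 (u : ℕ) : ℕ := Nat.land (Nat.shiftRight D5d (Nat.mul u (nat_lit 2))) (nat_lit 3)
noncomputable def RL5 : List (List Rule) := [[.rel (nat_lit 0) (nat_lit 0) [nat_lit 0], .defn, .rel (nat_lit 16) (nat_lit 0) [nat_lit 1, nat_lit 0, nat_lit 1]],
  [.rel (nat_lit 2) (nat_lit 0) [nat_lit 1], .defn]]
noncomputable def c5 : TCert := ⟨4, 2, 3, T5, I5, D5, [], RL5⟩
noncomputable def Pt5d : ℕ := nat_lit 0xd0dc5850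
noncomputable def Pt5 (u : ℕ) : ℕ := Nat.land (Nat.shiftRight Pt5d (Nat.mul u (nat_lit 8))) (nat_lit 255)
noncomputable def Q5d : ℕ := nat_lit 0x200000300000000000000000000000000000000000000000000000000000000000100000000000000000000000000000000000000000000
noncomputable def Q5 (u : ℕ) : ℕ := Nat.land (Nat.shiftRight Q5d (Nat.mul u (nat_lit 2))) (nat_lit 3)
noncomputable def l5 : H16.Lev := ⟨4, 2, D5, Pt5, Q5⟩
noncomputable def B : List ℕ := [nat_lit 1, nat_lit 17, nat_lit 19, nat_lit 4, nat_lit 49, nat_lit 80]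
noncomputable def L : List H16.Lev := [l0, l1, l2, l3, l4, l5]

theorem tc0e_a : allZ2 (entryChk T0 (selR RL0 I0) D0 (nat_lit 255) (nat_lit 135) (nat_lit 8)) (nat_lit 8) (nat_lit 135) = true := by decide +kernel
theorem tc0r : rulesChk Rl c0.Sl RL0 (nat_lit 8) = true := by decide +kernel
theorem ivc : ivChk Rl (nat_lit 8) = true := by decide +kernel
theorem lv0e_0 : allZ (l0.ent P) (nat_lit 0) (nat_lit 134) = true := by decide +kernel
theorem lv0b : Nat.blt (Pt0 (nat_lit 0)) (nat_lit 256) = true ∧ Q0 (Pt0 (nat_lit 0)) = 0 ∧ Pt0 (nat_lit 0) = 1 := by decide +kernel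
theorem sb0 : H16.allL (ltAll (nat_lit 7)) c0.Sl = true ∧ fixLetters P (nat_lit 7) (Pt0 (nat_lit 0)) = true := by decide +kernel
theorem tc1e_a : allZ2 (entryChk T1 (selR RL1 I1) D1 (nat_lit 63) (nat_lit 64) (nat_lit 7)) (nat_lit 7) (nat_lit 64) = true := by decide +kernel
theorem tc1r : rulesChk Rl c1.Sl RL1 (nat_lit 7) = true := by decide +kernel
theorem lv1e_0 : allZ (l1.ent P) (nat_lit 0) (nat_lit 63) = true := by decide +kernel
theorem lv1b : Nat.blt (Pt1 (nat_lit 0)) (nat_lit 256) = true ∧ Q1 (Pt1 (nat_lit 0)) = 0 ∧ Pt1 (nat_lit 0) = 17 := by decide +kernel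
theorem sb1 : H16.allL (ltAll (nat_lit 6)) c1.Sl = true ∧ fixLetters P (nat_lit 6) (Pt1 (nat_lit 0)) = true := by decide +kernel
theorem tc2e_a : allZ2 (entryChk T2 (selR RL2 I2) D2 (nat_lit 63) (nat_lit 35) (nat_lit 6)) (nat_lit 6) (nat_lit 35) = true := by decide +kernel
theorem tc2r : rulesChk Rl c2.Sl RL2 (nat_lit 6) = true := by decide +kernel
theorem lv2e_0 : allZ (l2.ent P) (nat_lit 0) (nat_lit 34) = true := by decide +kernel
theorem lv2b : Nat.blt (Pt2 (nat_lit 0)) (nat_lit 256) = true ∧ Q2 (Pt2 (nat_lit 0)) = 0 ∧ Pt2 (nat_lit 0) = 19 := by decide +kernel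
theorem sb2 : H16.allL (ltAll (nat_lit 5)) c2.Sl = true ∧ fixLetters P (nat_lit 5) (Pt2 (nat_lit 0)) = true := by decide +kernel
theorem tc3e_a : allZ2 (entryChk T3 (selR RL3 I3) D3 (nat_lit 31) (nat_lit 18) (nat_lit 5)) (nat_lit 5) (nat_lit 18) = true := by decide +kernel
theorem tc3r : rulesChk Rl c3.Sl RL3 (nat_lit 5) = true := by decide +kernel
theorem lv3e_0 : allZ (l3.ent P) (nat_lit 0) (nat_lit 17) = true := by decide +kernel
theorem lv3b : Nat.blt (Pt3 (nat_lit 0)) (nat_lit 256) = true ∧ Q3 (Pt3 (nat_lit 0)) = 0 ∧ Pt3 (nat_lit 0) = 4 := by decide +kernel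
theorem sb3 : H16.allL (ltAll (nat_lit 4)) c3.Sl = true ∧ fixLetters P (nat_lit 4) (Pt3 (nat_lit 0)) = true := by decide +kernel
theorem tc4e_a : allZ2 (entryChk T4 (selR RL4 I4) D4 (nat_lit 7) (nat_lit 8) (nat_lit 4)) (nat_lit 4) (nat_lit 8) = true := by decide +kernel
theorem tc4r : rulesChk Rl c4.Sl RL4 (nat_lit 4) = true := by decide +kernel
theorem lv4e_0 : allZ (l4.ent P) (nat_lit 0) (nat_lit 7) = true := by decide +kernel
theorem lv4b : Nat.blt (Pt4 (nat_lit 0)) (nat_lit 256) = true ∧ Q4 (Pt4 (nat_lit 0)) = 0 ∧ Pt4 (nat_lit 0) = 49 := by decide +kernel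
theorem sb4 : H16.allL (ltAll (nat_lit 2)) c4.Sl = true ∧ fixLetters P (nat_lit 2) (Pt4 (nat_lit 0)) = true := by decide +kernel
theorem tc5e_a : allZ2 (entryChk T5 (selR RL5 I5) D5 (nat_lit 3) (nat_lit 4) (nat_lit 2)) (nat_lit 2) (nat_lit 4) = true := by decide +kernel
theorem tc5r : rulesChk Rl c5.Sl RL5 (nat_lit 2) = true := by decide +kernel
theorem lv5e_0 : allZ (l5.ent P) (nat_lit 0) (nat_lit 3) = true := by decide +kernel
theorem lv5b : Nat.blt (Pt5 (nat_lit 0)) (nat_lit 256) = true ∧ Q5 (Pt5 (nat_lit 0)) = 0 ∧ Pt5 (nat_lit 0) = 80 := by decide +kernel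
theorem sb5 : H16.allL (ltAll (nat_lit 0)) c5.Sl = true ∧ fixLetters P (nat_lit 0) (Pt5 (nat_lit 0)) = true := by decide +kernel
theorem Blt : ltAll (nat_lit 256) B = 0 := by decide +kernel

theorem tc0e : ∀ k < 8, ∀ i < 135, (entryChk T0 (selR RL0 I0) D0 (nat_lit 255) (nat_lit 135) (nat_lit 8)) k i = 0 := allZ2_sound tc0e_a
theorem tc0 : c0.OK Rl 8 := ⟨by decide, by decide, by decide, ivc, tc0r, tc0e⟩
theorem lv0e : ∀ i < 134, (l0.ent P) i = 0 := allZ_sound0 lv0e_0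
theorem lv0 : l0.OK P 256 := ⟨by decide, by decide, lt_of_blt lv0b.1, lv0b.2.1, lv0e⟩
theorem tc1e : ∀ k < 7, ∀ i < 64, (entryChk T1 (selR RL1 I1) D1 (nat_lit 63) (nat_lit 64) (nat_lit 7)) k i = 0 := allZ2_sound tc1e_a
theorem tc1 : c1.OK Rl 8 := ⟨by decide, by decide, by decide, ivc, tc1r, tc1e⟩
theorem lv1e : ∀ i < 63, (l1.ent P) i = 0 := allZ_sound0 lv1e_0
theorem lv1 : l1.OK P 256 := ⟨by decide, by decide, lt_of_blt lv1b.1, lv1b.2.1, lv1e⟩
theorem tc2e : ∀ k < 6, ∀ i < 35, (entryChk T2 (selR RL2 I2) D2 (nat_lit 63) (nat_lit 35) (nat_lit 6)) k i = 0 := allZ2_sound tc2e_a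
theorem tc2 : c2.OK Rl 8 := ⟨by decide, by decide, by decide, ivc, tc2r, tc2e⟩
theorem lv2e : ∀ i < 34, (l2.ent P) i = 0 := allZ_sound0 lv2e_0
theorem lv2 : l2.OK P 256 := ⟨by decide, by decide, lt_of_blt lv2b.1, lv2b.2.1, lv2e⟩
theorem tc3e : ∀ k < 5, ∀ i < 18, (entryChk T3 (selR RL3 I3) D3 (nat_lit 31) (nat_lit 18) (nat_lit 5)) k i = 0 := allZ2_sound tc3e_a
theorem tc3 : c3.OK Rl 8 := ⟨by decide, by decide, by decide, ivc, tc3r, tc3e⟩
theorem lv3e : ∀ i < 17, (l3.ent P) i = 0 := allZ_sound0 lv3e_0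
theorem lv3 : l3.OK P 256 := ⟨by decide, by decide, lt_of_blt lv3b.1, lv3b.2.1, lv3e⟩
theorem tc4e : ∀ k < 4, ∀ i < 8, (entryChk T4 (selR RL4 I4) D4 (nat_lit 7) (nat_lit 8) (nat_lit 4)) k i = 0 := allZ2_sound tc4e_a
theorem tc4 : c4.OK Rl 8 := ⟨by decide, by decide, by decide, ivc, tc4r, tc4e⟩
theorem lv4e : ∀ i < 7, (l4.ent P) i = 0 := allZ_sound0 lv4e_0
theorem lv4 : l4.OK P 256 := ⟨by decide, by decide, lt_of_blt lv4b.1, lv4b.2.1, lv4e⟩
theorem tc5e : ∀ k < 2, ∀ i < 4, (entryChk T5 (selR RL5 I5) D5 (nat_lit 3) (nat_lit 4) (nat_lit 2)) k i = 0 := allZ2_sound tc5e_a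
theorem tc5 : c5.OK Rl 8 := ⟨by decide, by decide, by decide, ivc, tc5r, tc5e⟩
theorem lv5e : ∀ i < 3, (l5.ent P) i = 0 := allZ_sound0 lv5e_0
theorem lv5 : l5.OK P 256 := ⟨by decide, by decide, lt_of_blt lv5b.1, lv5b.2.1, lv5e⟩
theorem bound5 : Bound Rl 2 4 := Bound.step' (Bound.zero Rl) tc5 sb5.1 (by decide +kernel)
theorem bound4 : Bound Rl 4 32 := Bound.step' (bound5) tc4 sb4.1 (by decide +kernel)
theorem bound3 : Bound Rl 5 576 := Bound.step' (bound4) tc3 sb3.1 (by decide +kernel)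
theorem bound2 : Bound Rl 6 20160 := Bound.step' (bound3) tc2 sb2.1 (by decide +kernel)
theorem bound1 : Bound Rl 7 1290240 := Bound.step' (bound2) tc1 sb1.1 (by decide +kernel)
theorem bound0 : Bound Rl 8 174182400 := Bound.step' (bound1) tc0 sb0.1 (by decide +kernel)
/-- every tuple satisfying `Rl` generates a group of order at most `174182400` -/
theorem bound : Bound Rl 8 174182400 := bound0
theorem chain_of {G Ω : Type*} [Group G] [MulAction G Ω] {g : ℕ → G} {pt : ℕ → Ω}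
    (h : Act g pt P 256 8) (hR : Rels g Rl) : IsChain g pt 256 L :=
  IsChain.cons (L := [l1, l2, l3, l4, l5]) (IsChain.cons (L := [l2, l3, l4, l5]) (IsChain.cons (L := [l3, l4, l5]) (IsChain.cons (L := [l4, l5]) (IsChain.cons (L := [l5]) (IsChain.cons (L := []) (trivial) h hR tc5 lv5 rfl rfl rfl (by decide) sb5.1 sb5.2) h hR tc4 lv4 rfl rfl rfl (by decide) sb4.1 sb4.2) h hR tc3 lv3 rfl rfl rfl (by decide) sb3.1 sb3.2) h hR tc2 lv2 rfl rfl rfl (by decide) sb2.1 sb2.2) h hR tc1 lv1 rfl rfl rfl (by decide) sb1.1 sb1.2) h hR tc0 lv0 rfl rfl rfl (by decide) sb0.1 sb0.2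
theorem base_eq : chainBase L = B := by decide +kernel
open Cfsg H0.TR
def ix : Fin 4 ⊕ Fin 4 → ℕ := Sum.elim (fun i => i) fun i => 4 + i
def iv : List ℕ := [0, 1, 2, 3, 4, 5, 6, 7]
theorem ok0 : MM.mt 2 ix (P 0) * MM.mt 2 ix (P (nth 0 iv 0)) = 1 ∧
    ∀ i < 256, P 0 i < 256 ∧ (MM.mt 2 ix (P 0)).mulVec (MM.vec 2 ix i) = MM.vec 2 ix (P 0 i) := by
  decide +kernel
theorem ok1 : MM.mt 2 ix (P 1) * MM.mt 2 ix (P (nth 0 iv 1)) = 1 ∧
    ∀ i < 256, P 1 i < 256 ∧ (MM.mt 2 ix (P 1)).mulVec (MM.vec 2 ix i) = MM.vec 2 ix (P 1 i) := by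
  decide +kernel
theorem ok2 : MM.mt 2 ix (P 2) * MM.mt 2 ix (P (nth 0 iv 2)) = 1 ∧
    ∀ i < 256, P 2 i < 256 ∧ (MM.mt 2 ix (P 2)).mulVec (MM.vec 2 ix i) = MM.vec 2 ix (P 2 i) := by
  decide +kernel
theorem ok3 : MM.mt 2 ix (P 3) * MM.mt 2 ix (P (nth 0 iv 3)) = 1 ∧
    ∀ i < 256, P 3 i < 256 ∧ (MM.mt 2 ix (P 3)).mulVec (MM.vec 2 ix i) = MM.vec 2 ix (P 3 i) := by
  decide +kernel
theorem ok4 : MM.mt 2 ix (P 4) * MM.mt 2 ix (P (nth 0 iv 4)) = 1 ∧
    ∀ i < 256, P 4 i < 256 ∧ (MM.mt 2 ix (P 4)).mulVec (MM.vec 2 ix i) = MM.vec 2 ix (P 4 i) := by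
  decide +kernel
theorem ok5 : MM.mt 2 ix (P 5) * MM.mt 2 ix (P (nth 0 iv 5)) = 1 ∧
    ∀ i < 256, P 5 i < 256 ∧ (MM.mt 2 ix (P 5)).mulVec (MM.vec 2 ix i) = MM.vec 2 ix (P 5 i) := by
  decide +kernel
theorem ok6 : MM.mt 2 ix (P 6) * MM.mt 2 ix (P (nth 0 iv 6)) = 1 ∧
    ∀ i < 256, P 6 i < 256 ∧ (MM.mt 2 ix (P 6)).mulVec (MM.vec 2 ix i) = MM.vec 2 ix (P 6 i) := by
  decide +kernel
theorem ok7 : MM.mt 2 ix (P 7) * MM.mt 2 ix (P (nth 0 iv 7)) = 1 ∧
    ∀ i < 256, P 7 i < 256 ∧ (MM.mt 2 ix (P 7)).mulVec (MM.vec 2 ix i) = MM.vec 2 ix (P 7 i) := by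
  decide +kernel
theorem ok : MM.OK 2 ix P iv 256 8 :=
  ⟨fun k hk => match k, hk with | 0, _ => ok0 | 1, _ => ok1 | 2, _ => ok2 | 3, _ => ok3 | 4, _ => ok4 | 5, _ => ok5 | 6, _ => ok6 | 7, _ => ok7, by decide +kernel⟩
theorem rf : H16.allL (fixRange P 8 0 256) Rl = true := by decide +kernel
/-- the letters -/
noncomputable def g : ℕ → GL (Fin 4 ⊕ Fin 4) (ZMod 2) := MM.gl 2 ix P iv
theorem mem : ∀ k < 8, g k ∈ isometryGroup (ZMod 2) (quadFormPlus 4 (ZMod 2)) := fun k hk =>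
  ok.mem_iso (by decide +kernel) hk
theorem cardH : Nat.card (isometryGroup (ZMod 2) (quadFormPlus 4 (ZMod 2))) = 2 * 174182400 := by
  have := H11.card_O_plus (F := ZMod 2) 3
  generalize Nat.card _ = a at this ⊢
  simpa [Finset.prod_range_succ] using this
theorem cardC : Nat.card (commutator (isometryGroup (ZMod 2) (quadFormPlus 4 (ZMod 2)))) = 174182400 := by
  have := H11.card_omegaPlus_mul (F := ZMod 2) (m := 3) (by simp)
  generalize Nat.card _ = a at this ⊢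
  simpa [Finset.prod_range_succ] using this
theorem md : ∃ (_ : MulAction (commutator (isometryGroup (ZMod 2) (quadFormPlus 4 (ZMod 2)))) (Fin 4 ⊕ Fin 4 → ZMod 2)) (h : ℕ → commutator (isometryGroup (ZMod 2) (quadFormPlus 4 (ZMod 2)))),
    Md h (MM.vec 2 ix) P 256 8 B 174182400 ∧ ∀ k < 8, ((h k : isometryGroup (ZMod 2) (quadFormPlus 4 (ZMod 2))) : GL (Fin 4 ⊕ Fin 4) (ZMod 2)) = g k :=
  MM.md_comm ok.act ok.inj (ok.rels rf) mem (fun _ => chain_of) cardH cardC (by decide +kernel)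
theorem pom : Nonempty (POmega (ZMod 2) (quadFormPlus 4 (ZMod 2)) ≃* Omega (ZMod 2) (quadFormPlus 4 (ZMod 2))) :=
  MM.quot_bot ((H11.card_center_omegaPlus (by simp) (by simp)).trans (by simp))
theorem simple : IsSimpleGroup (Omega (ZMod 2) (quadFormPlus 4 (ZMod 2))) :=
  have := H11.pomegaPlus_simple (F := ZMod 2) (m := 4) (by simp)
  pom.some.symm.isSimpleGroup

end H15.XW8p
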