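import Cfsg.Agent.H15.Mathieu
import Cfsg.Agent.H16.Facts

/-! Generated by tools/h16 and py/gen_models.py. -/

set_option maxRecDepth 100000
set_option maxHeartbeats 0

namespace H15.MM12

open H16
open scoped Pointwise

noncomputable def Rl : List (List ℕ) := [[nat_lit 0, nat_lit 1],
  [nat_lit 1, nat_lit 0],
  [nat_lit 2, nat_lit 3],
  [nat_lit 3, nat_lit 2],
  [nat_lit 4, nat_lit 4],
  [nat_lit 5, nat_lit 5],
  [nat_lit 6, nat_lit 6],
  [nat_lit 7, nat_lit 7],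
  [nat_lit 0, nat_lit 0, nat_lit 2, nat_lit 2],
  [nat_lit 0, nat_lit 2, nat_lit 0, nat_lit 3],
  [nat_lit 0, nat_lit 2, nat_lit 4, nat_lit 2, nat_lit 4, nat_lit 1, nat_lit 4],
  [nat_lit 0, nat_lit 2, nat_lit 5, nat_lit 0, nat_lit 5, nat_lit 2, nat_lit 5],
  [nat_lit 0, nat_lit 4, nat_lit 2, nat_lit 5, nat_lit 1, nat_lit 4, nat_lit 5],
  [nat_lit 5, nat_lit 6, nat_lit 5, nat_lit 6],
  [nat_lit 0, nat_lit 2, nat_lit 6, nat_lit 1, nat_lit 6, nat_lit 3, nat_lit 6],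
  [nat_lit 0, nat_lit 6, nat_lit 3, nat_lit 4, nat_lit 6, nat_lit 2, nat_lit 4],
  [nat_lit 0, nat_lit 7, nat_lit 0, nat_lit 7],
  [nat_lit 2, nat_lit 7, nat_lit 2, nat_lit 7],
  [nat_lit 5, nat_lit 7, nat_lit 6, nat_lit 7],
  [nat_lit 4, nat_lit 5, nat_lit 6, nat_lit 4, nat_lit 7, nat_lit 4, nat_lit 5, nat_lit 6, nat_lit 7, nat_lit 4, nat_lit 7]]
noncomputable def Pd : List ℕ := [nat_lit 0x752cb3a4a455cd0acdac7ca2818820,
  nat_lit 0x75576518ac3dd28a3e449b63018820,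
  nat_lit 0x89df3ac2eda150655992591c918820,
  nat_lit 0x8aa6fa22f2a96093ac8db31c618820,
  nat_lit 0xbaeae9c1522d18db4464399e848820,
  nat_lit 0x3d8b47a5709b98d8aa42b92a61a020,
  nat_lit 0xabaf479a219d98d5a8882c8e918a00,
  nat_lit 0x2aeb47c9c89c5acb28d03a6e400443]
noncomputable def P (k u : ℕ) : ℕ := Nat.land (Nat.shiftRight (nth (nat_lit 0) Pd k) (Nat.mul u (nat_lit 5))) (nat_lit 31)
noncomputable def T0d : List ℕ := [nat_lit 0x4dbaa4d051246233322bd0e4340,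
  nat_lit 0x45b6a0b0621c65f017995122340,
  nat_lit 0x759ea6724234c8eef9a45164340,
  nat_lit 0x7d9aa0933328de6518a4d1a2340,
  nat_lit 0x459aa08c603b6147195acc68540,
  nat_lit 0x6dce1d34a0b09d06f24ac124340,
  nat_lit 0x9caea96c8723c946f74ac1a4340,
  nat_lit 0x5526d90b9990d90ad451d1e6141]
noncomputable def T0 (k u : ℕ) : ℕ := Nat.land (Nat.shiftRight (nth (nat_lit 0) T0d k) (Nat.mul u (nat_lit 9))) (nat_lit 511)
noncomputable def I0d : List ℕ := [nat_lit 0x760100125483,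
  nat_lit 0x201,
  nat_lit 0x50340701162,
  nat_lit 0x403000001102,
  nat_lit 0x710061054032,
  nat_lit 0x605402001123,
  nat_lit 0x43100160152,
  nat_lit 0x302004532101]
noncomputable def I0 (k u : ℕ) : ℕ := Nat.land (Nat.shiftRight (nth (nat_lit 0) I0d k) (Nat.mul u (nat_lit 4))) (nat_lit 15)
noncomputable def D0d : ℕ := nat_lit 0x9d14d9a2e4c9112030380
noncomputable def D0 (u : ℕ) : ℕ := Nat.land (Nat.shiftRight D0d (Nat.mul u (nat_lit 7))) (nat_lit 127)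
noncomputable def RL0 : List (List Rule) := [[.rel (nat_lit 18) (nat_lit 0) [nat_lit 2, nat_lit 0, nat_lit 3], .rel (nat_lit 16) (nat_lit 0) [nat_lit 0, nat_lit 2, nat_lit 2], .rel (nat_lit 0) (nat_lit 0) [nat_lit 1], .sub (nat_lit 0) [] [], .defn, .rel (nat_lit 18) (nat_lit 2) [nat_lit 3, nat_lit 0, nat_lit 2], .rel (nat_lit 22) (nat_lit 3) [nat_lit 5, nat_lit 2, nat_lit 5, nat_lit 0, nat_lit 2, nat_lit 5], .rel (nat_lit 28) (nat_lit 0) [nat_lit 2, nat_lit 6, nat_lit 1, nat_lit 6, nat_lit 3, nat_lit 6], .rel (nat_lit 32) (nat_lit 0) [nat_lit 7, nat_lit 0, nat_lit 7]],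
  [.rel (nat_lit 2) (nat_lit 0) [nat_lit 0], .sub (nat_lit 2) [] [], .defn],
  [.rel (nat_lit 4) (nat_lit 0) [nat_lit 3], .defn, .sub (nat_lit 4) [] [], .rel (nat_lit 16) (nat_lit 3) [nat_lit 0, nat_lit 0, nat_lit 2], .rel (nat_lit 18) (nat_lit 1) [nat_lit 0, nat_lit 3, nat_lit 0], .rel (nat_lit 22) (nat_lit 1) [nat_lit 5, nat_lit 0, nat_lit 5, nat_lit 2, nat_lit 5, nat_lit 0], .rel (nat_lit 34) (nat_lit 0) [nat_lit 7, nat_lit 2, nat_lit 7], .rel (nat_lit 34) (nat_lit 2) [nat_lit 7, nat_lit 2, nat_lit 7]],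
  [.rel (nat_lit 6) (nat_lit 0) [nat_lit 2], .defn, .sub (nat_lit 6) [] [], .rel (nat_lit 18) (nat_lit 3) [nat_lit 0, nat_lit 2, nat_lit 0], .rel (nat_lit 28) (nat_lit 5) [nat_lit 6, nat_lit 0, nat_lit 2, nat_lit 6, nat_lit 1, nat_lit 6]],
  [.rel (nat_lit 8) (nat_lit 0) [nat_lit 4], .rel (nat_lit 24) (nat_lit 1) [nat_lit 2, nat_lit 5, nat_lit 1, nat_lit 4, nat_lit 5, nat_lit 0], .sub (nat_lit 8) [] [], .defn, .rel (nat_lit 20) (nat_lit 4) [nat_lit 1, nat_lit 4, nat_lit 0, nat_lit 2, nat_lit 4, nat_lit 2], .rel (nat_lit 20) (nat_lit 6) [nat_lit 0, nat_lit 2, nat_lit 4, nat_lit 2, nat_lit 4, nat_lit 1], .rel (nat_lit 24) (nat_lit 5) [nat_lit 5, nat_lit 0, nat_lit 4, nat_lit 2, nat_lit 5, nat_lit 1], .rel (nat_lit 30) (nat_lit 6) [nat_lit 0, nat_lit 6, nat_lit 3, nat_lit 4, nat_lit 6, nat_lit 2]],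
  [.rel (nat_lit 10) (nat_lit 0) [nat_lit 5], .rel (nat_lit 24) (nat_lit 6) [nat_lit 0, nat_lit 4, nat_lit 2, nat_lit 5, nat_lit 1, nat_lit 4], .rel (nat_lit 36) (nat_lit 0) [nat_lit 7, nat_lit 6, nat_lit 7], .sub (nat_lit 10) [] [], .defn, .rel (nat_lit 22) (nat_lit 6) [nat_lit 0, nat_lit 2, nat_lit 5, nat_lit 0, nat_lit 5, nat_lit 2], .rel (nat_lit 26) (nat_lit 2) [nat_lit 6, nat_lit 5, nat_lit 6]],
  [.rel (nat_lit 12) (nat_lit 0) [nat_lit 6], .rel (nat_lit 30) (nat_lit 4) [nat_lit 2, nat_lit 4, nat_lit 0, nat_lit 6, nat_lit 3, nat_lit 4], .sub (nat_lit 12) [] [], .defn, .rel (nat_lit 26) (nat_lit 3) [nat_lit 5, nat_lit 6, nat_lit 5], .rel (nat_lit 36) (nat_lit 2) [nat_lit 7, nat_lit 5, nat_lit 7], .rel (nat_lit 38) (nat_lit 7) [nat_lit 7, nat_lit 4, nat_lit 7, nat_lit 4, nat_lit 5, nat_lit 6, nat_lit 4, nat_lit 7, nat_lit 4, nat_lit 5]],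
  [.rel (nat_lit 14) (nat_lit 0) [nat_lit 7], .defn, .rel (nat_lit 34) (nat_lit 3) [nat_lit 2, nat_lit 7, nat_lit 2], .rel (nat_lit 36) (nat_lit 3) [nat_lit 5, nat_lit 7, nat_lit 6], .rel (nat_lit 34) (nat_lit 1) [nat_lit 2, nat_lit 7, nat_lit 2], .rel (nat_lit 36) (nat_lit 1) [nat_lit 6, nat_lit 7, nat_lit 5]]]
noncomputable def c0 : TCert := ⟨12, 8, 15, T0, I0, D0, [[nat_lit 0],
  [nat_lit 1],
  [nat_lit 2],
  [nat_lit 3],
  [nat_lit 4],
  [nat_lit 5],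
  [nat_lit 6]], RL0⟩
noncomputable def Pt0d : ℕ := nat_lit 0x8a08311926a460
noncomputable def Pt0 (u : ℕ) : ℕ := Nat.land (Nat.shiftRight Pt0d (Nat.mul u (nat_lit 5))) (nat_lit 31)
noncomputable def Q0d : ℕ := nat_lit 0x4090035002807061ab0
noncomputable def Q0 (u : ℕ) : ℕ := Nat.land (Nat.shiftRight Q0d (Nat.mul u (nat_lit 4))) (nat_lit 15)
noncomputable def l0 : H16.Lev := ⟨12, 8, D0, Pt0, Q0⟩
noncomputable def T1d : List ℕ := [nat_lit 0x1a853354a3cd8f28a0d5aa550,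
  nat_lit 0x16833145ad0a508773506a750,
  nat_lit 0x228b34259b5682e68455ea950,
  nat_lit 0x1e89313a1351cd4153d62ab50,
  nat_lit 0x51c12f8ad3092333922d94b50,
  nat_lit 0x12a8c623ad650e431a1626350,
  nat_lit 0x1e993153935a50e36a21e8151]
noncomputable def T1 (k u : ℕ) : ℕ := Nat.land (Nat.shiftRight (nth (nat_lit 0) T1d k) (Nat.mul u (nat_lit 9))) (nat_lit 511)
noncomputable def I1d : List ℕ := [nat_lit 0x87115642003,
  nat_lit 0x21,
  nat_lit 0x56040030112,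
  nat_lit 0x200200113,
  nat_lit 0x5431010062,
  nat_lit 0x10503110042,
  nat_lit 0x24001120503]
noncomputable def I1 (k u : ℕ) : ℕ := Nat.land (Nat.shiftRight (nth (nat_lit 0) I1d k) (Nat.mul u (nat_lit 4))) (nat_lit 15)
noncomputable def D1d : ℕ := nat_lit 0x35bd140e289207180
noncomputable def D1 (u : ℕ) : ℕ := Nat.land (Nat.shiftRight D1d (Nat.mul u (nat_lit 6))) (nat_lit 63)
noncomputable def RL1 : List (List Rule) := [[.defn, .rel (nat_lit 18) (nat_lit 0) [nat_lit 2, nat_lit 0, nat_lit 3], .rel (nat_lit 0) (nat_lit 0) [nat_lit 1], .sub (nat_lit 0) [] [], .rel (nat_lit 16) (nat_lit 0) [nat_lit 0, nat_lit 2, nat_lit 2], .rel (nat_lit 16) (nat_lit 1) [nat_lit 2, nat_lit 2, nat_lit 0], .rel (nat_lit 18) (nat_lit 2) [nat_lit 3, nat_lit 0, nat_lit 2], .rel (nat_lit 22) (nat_lit 0) [nat_lit 2, nat_lit 5, nat_lit 0, nat_lit 5, nat_lit 2, nat_lit 5], .rel (nat_lit 30) (nat_lit 0) [nat_lit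 6, nat_lit 3, nat_lit 4, nat_lit 6, nat_lit 2, nat_lit 4]],
  [.rel (nat_lit 2) (nat_lit 0) [nat_lit 0], .sub (nat_lit 2) [] [], .defn],
  [.rel (nat_lit 4) (nat_lit 0) [nat_lit 3], .defn, .sub (nat_lit 4) [] [], .rel (nat_lit 16) (nat_lit 3) [nat_lit 0, nat_lit 0, nat_lit 2], .rel (nat_lit 18) (nat_lit 1) [nat_lit 0, nat_lit 3, nat_lit 0], .rel (nat_lit 20) (nat_lit 3) [nat_lit 4, nat_lit 1, nat_lit 4, nat_lit 0, nat_lit 2, nat_lit 4], .rel (nat_lit 22) (nat_lit 5) [nat_lit 5, nat_lit 0, nat_lit 2, nat_lit 5, nat_lit 0, nat_lit 5]],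
  [.rel (nat_lit 6) (nat_lit 0) [nat_lit 2], .defn, .rel (nat_lit 18) (nat_lit 3) [nat_lit 0, nat_lit 2, nat_lit 0], .sub (nat_lit 6) [] []],
  [.rel (nat_lit 8) (nat_lit 0) [nat_lit 4], .rel (nat_lit 30) (nat_lit 6) [nat_lit 0, nat_lit 6, nat_lit 3, nat_lit 4, nat_lit 6, nat_lit 2], .sub (nat_lit 8) [] [], .defn, .rel (nat_lit 20) (nat_lit 4) [nat_lit 1, nat_lit 4, nat_lit 0, nat_lit 2, nat_lit 4, nat_lit 2], .rel (nat_lit 24) (nat_lit 5) [nat_lit 5, nat_lit 0, nat_lit 4, nat_lit 2, nat_lit 5, nat_lit 1], .rel (nat_lit 30) (nat_lit 3) [nat_lit 6, nat_lit 2, nat_lit 4, nat_lit 0, nat_lit 6, nat_lit 3]],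
  [.rel (nat_lit 10) (nat_lit 0) [nat_lit 5], .rel (nat_lit 24) (nat_lit 3) [nat_lit 1, nat_lit 4, nat_lit 5, nat_lit 0, nat_lit 4, nat_lit 2], .sub (nat_lit 10) [] [], .defn, .rel (nat_lit 26) (nat_lit 0) [nat_lit 6, nat_lit 5, nat_lit 6], .rel (nat_lit 26) (nat_lit 2) [nat_lit 6, nat_lit 5, nat_lit 6]],
  [.rel (nat_lit 12) (nat_lit 0) [nat_lit 6], .rel (nat_lit 28) (nat_lit 6) [nat_lit 0, nat_lit 2, nat_lit 6, nat_lit 1, nat_lit 6, nat_lit 3], .rel (nat_lit 30) (nat_lit 4) [nat_lit 2, nat_lit 4, nat_lit 0, nat_lit 6, nat_lit 3, nat_lit 4], .defn, .rel (nat_lit 26) (nat_lit 3) [nat_lit 5, nat_lit 6, nat_lit 5], .rel (nat_lit 30) (nat_lit 1) [nat_lit 3, nat_lit 4, nat_lit 6, nat_lit 2, nat_lit 4, nat_lit 0]]]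
noncomputable def c1 : TCert := ⟨11, 7, 15, T1, I1, D1, [[nat_lit 0],
  [nat_lit 1],
  [nat_lit 2],
  [nat_lit 3],
  [nat_lit 4],
  [nat_lit 5]], RL1⟩
noncomputable def Pt1d : ℕ := nat_lit 0xc464a24d61201
noncomputable def Pt1 (u : ℕ) : ℕ := Nat.land (Nat.shiftRight Pt1d (Nat.mul u (nat_lit 5))) (nat_lit 31)
noncomputable def Q1d : ℕ := nat_lit 0x501004300760802a900
noncomputable def Q1 (u : ℕ) : ℕ := Nat.land (Nat.shiftRight Q1d (Nat.mul u (nat_lit 4))) (nat_lit 15)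
noncomputable def l1 : H16.Lev := ⟨11, 7, D1, Pt1, Q1⟩
noncomputable def T2d : List ℕ := [nat_lit 0x53555a44dcf48b0ddae570,
  nat_lit 0x33346ad8a90a783586e770,
  nat_lit 0x736269bd6c306945dee970,
  nat_lit 0x5333b13d20d6163de2eb70,
  nat_lit 0x2d179639528446a8d568770,
  nat_lit 0x133449bd8c548439d6c171]
noncomputable def T2 (k u : ℕ) : ℕ := Nat.land (Nat.shiftRight (nth (nat_lit 0) T2d k) (Nat.mul u (nat_lit 9))) (nat_lit 511)
noncomputable def I2d : List ℕ := [nat_lit 0x39374403,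
  nat_lit 0x11,
  nat_lit 0x2880304a,
  nat_lit 0x201004b,
  nat_lit 0x3840a42,
  nat_lit 0x20441083]
noncomputable def I2 (k u : ℕ) : ℕ := Nat.land (Nat.shiftRight (nth (nat_lit 0) I2d k) (Nat.mul u (nat_lit 3))) (nat_lit 7)
noncomputable def D2d : ℕ := nat_lit 0xd0f38c2481c6140
noncomputable def D2 (u : ℕ) : ℕ := Nat.land (Nat.shiftRight D2d (Nat.mul u (nat_lit 6))) (nat_lit 63)
noncomputable def RL2 : List (List Rule) := [[.defn, .rel (nat_lit 18) (nat_lit 0) [nat_lit 2, nat_lit 0, nat_lit 3], .rel (nat_lit 0) (nat_lit 0) [nat_lit 1], .sub (nat_lit 0) [] [], .rel (nat_lit 16) (nat_lit 0) [nat_lit 0, nat_lit 2, nat_lit 2], .rel (nat_lit 16) (nat_lit 1) [nat_lit 2, nat_lit 2, nat_lit 0], .rel (nat_lit 18) (nat_lit 2) [nat_lit 3, nat_lit 0, nat_lit 2], .rel (nat_lit 20) (nat_lit 0) [nat_lit 2, nat_lit 4, nat_lit 2, nat_lit 4, nat_lit 1, nat_lit 4]],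
  [.rel (nat_lit 2) (nat_lit 0) [nat_lit 0], .sub (nat_lit 2) [] [], .defn],
  [.rel (nat_lit 4) (nat_lit 0) [nat_lit 3], .defn, .sub (nat_lit 4) [] [], .rel (nat_lit 16) (nat_lit 3) [nat_lit 0, nat_lit 0, nat_lit 2], .rel (nat_lit 18) (nat_lit 1) [nat_lit 0, nat_lit 3, nat_lit 0], .rel (nat_lit 20) (nat_lit 3) [nat_lit 4, nat_lit 1, nat_lit 4, nat_lit 0, nat_lit 2, nat_lit 4]],
  [.rel (nat_lit 6) (nat_lit 0) [nat_lit 2], .defn, .rel (nat_lit 18) (nat_lit 3) [nat_lit 0, nat_lit 2, nat_lit 0], .sub (nat_lit 6) [] []],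
  [.rel (nat_lit 8) (nat_lit 0) [nat_lit 4], .rel (nat_lit 24) (nat_lit 1) [nat_lit 2, nat_lit 5, nat_lit 1, nat_lit 4, nat_lit 5, nat_lit 0], .sub (nat_lit 8) [] [], .defn, .rel (nat_lit 20) (nat_lit 4) [nat_lit 1, nat_lit 4, nat_lit 0, nat_lit 2, nat_lit 4, nat_lit 2], .rel (nat_lit 24) (nat_lit 5) [nat_lit 5, nat_lit 0, nat_lit 4, nat_lit 2, nat_lit 5, nat_lit 1]],
  [.rel (nat_lit 10) (nat_lit 0) [nat_lit 5], .rel (nat_lit 22) (nat_lit 6) [nat_lit 0, nat_lit 2, nat_lit 5, nat_lit 0, nat_lit 5, nat_lit 2], .rel (nat_lit 24) (nat_lit 6) [nat_lit 0, nat_lit 4, nat_lit 2, nat_lit 5, nat_lit 1, nat_lit 4], .defn, .rel (nat_lit 24) (nat_lit 3) [nat_lit 1, nat_lit 4, nat_lit 5, nat_lit 0, nat_lit 4, nat_lit 2]]]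
noncomputable def c2 : TCert := ⟨10, 6, 15, T2, I2, D2, [[nat_lit 0],
  [nat_lit 1],
  [nat_lit 2],
  [nat_lit 3],
  [nat_lit 4]], RL2⟩
noncomputable def Pt2d : ℕ := nat_lit 0x69341b223102
noncomputable def Pt2 (u : ℕ) : ℕ := Nat.land (Nat.shiftRight Pt2d (Nat.mul u (nat_lit 5))) (nat_lit 31)
noncomputable def Q2d : ℕ := nat_lit 0x4060052008107039000
noncomputable def Q2 (u : ℕ) : ℕ := Nat.land (Nat.shiftRight Q2d (Nat.mul u (nat_lit 4))) (nat_lit 15)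
noncomputable def l2 : H16.Lev := ⟨10, 6, D2, Pt2, Q2⟩
noncomputable def T3d : List ℕ := [nat_lit 0xb5147347a8c1d6d2d0,
  nat_lit 0x9435c2a80766c1d3d0,
  nat_lit 0xc23355c16688d7d4d0,
  nat_lit 0x93c25466c127d8d5d0,
  nat_lit 0x93b556a722a814c0d1]
noncomputable def T3 (k u : ℕ) : ℕ := Nat.land (Nat.shiftRight (nth (nat_lit 0) T3d k) (Nat.mul u (nat_lit 8))) (nat_lit 255)
noncomputable def I3d : List ℕ := [nat_lit 0x1374403,
  nat_lit 0x11,
  nat_lit 0x80304a,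
  nat_lit 0x201004b,
  nat_lit 0x641202]
noncomputable def I3 (k u : ℕ) : ℕ := Nat.land (Nat.shiftRight (nth (nat_lit 0) I3d k) (Nat.mul u (nat_lit 3))) (nat_lit 7)
noncomputable def D3d : ℕ := nat_lit 0xdca876540
noncomputable def D3 (u : ℕ) : ℕ := Nat.land (Nat.shiftRight D3d (Nat.mul u (nat_lit 4))) (nat_lit 15)
noncomputable def RL3 : List (List Rule) := [[.defn, .rel (nat_lit 18) (nat_lit 0) [nat_lit 2, nat_lit 0, nat_lit 3], .rel (nat_lit 0) (nat_lit 0) [nat_lit 1], .sub (nat_lit 0) [] [], .rel (nat_lit 16) (nat_lit 0) [nat_lit 0, nat_lit 2, nat_lit 2], .rel (nat_lit 16) (nat_lit 1) [nat_lit 2, nat_lit 2, nat_lit 0], .rel (nat_lit 18) (nat_lit 2) [nat_lit 3, nat_lit 0, nat_lit 2]],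
  [.rel (nat_lit 2) (nat_lit 0) [nat_lit 0], .sub (nat_lit 2) [] [], .defn],
  [.rel (nat_lit 4) (nat_lit 0) [nat_lit 3], .defn, .sub (nat_lit 4) [] [], .rel (nat_lit 16) (nat_lit 3) [nat_lit 0, nat_lit 0, nat_lit 2], .rel (nat_lit 18) (nat_lit 1) [nat_lit 0, nat_lit 3, nat_lit 0]],
  [.rel (nat_lit 6) (nat_lit 0) [nat_lit 2], .defn, .rel (nat_lit 18) (nat_lit 3) [nat_lit 0, nat_lit 2, nat_lit 0], .sub (nat_lit 6) [] []],
  [.rel (nat_lit 8) (nat_lit 0) [nat_lit 4], .rel (nat_lit 20) (nat_lit 6) [nat_lit 0, nat_lit 2, nat_lit 4, nat_lit 2, nat_lit 4, nat_lit 1], .defn, .rel (nat_lit 20) (nat_lit 2) [nat_lit 2, nat_lit 4, nat_lit 1, nat_lit 4, nat_lit 0, nat_lit 2]]]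
noncomputable def c3 : TCert := ⟨9, 5, 15, T3, I3, D3, [[nat_lit 0],
  [nat_lit 1],
  [nat_lit 2],
  [nat_lit 3]], RL3⟩
noncomputable def Pt3d : ℕ := nat_lit 0x104188c93523
noncomputable def Pt3 (u : ℕ) : ℕ := Nat.land (Nat.shiftRight Pt3d (Nat.mul u (nat_lit 5))) (nat_lit 31)
noncomputable def Q3d : ℕ := nat_lit 0x3080024001706050000
noncomputable def Q3 (u : ℕ) : ℕ := Nat.land (Nat.shiftRight Q3d (Nat.mul u (nat_lit 4))) (nat_lit 15)
noncomputable def l3 : H16.Lev := ⟨9, 5, D3, Pt3, Q3⟩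
noncomputable def T4d : List ℕ := [nat_lit 0xb82dd26af836e9,
  nat_lit 0x96730d70cd706a,
  nat_lit 0xc2696606b1f76b,
  nat_lit 0x95855b5c05b7ec]
noncomputable def T4 (k u : ℕ) : ℕ := Nat.land (Nat.shiftRight (nth (nat_lit 0) T4d k) (Nat.mul u (nat_lit 7))) (nat_lit 127)
noncomputable def I4d : List ℕ := [nat_lit 0x265680,
  nat_lit 1,
  nat_lit 0xc0409,
  nat_lit 0x402009]
noncomputable def I4 (k u : ℕ) : ℕ := Nat.land (Nat.shiftRight (nth (nat_lit 0) I4d k) (Nat.mul u (nat_lit 3))) (nat_lit 7)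
noncomputable def D4d : ℕ := nat_lit 0xfa3440
noncomputable def D4 (u : ℕ) : ℕ := Nat.land (Nat.shiftRight D4d (Nat.mul u (nat_lit 3))) (nat_lit 7)
noncomputable def RL4 : List (List Rule) := [[.defn, .rel (nat_lit 18) (nat_lit 0) [nat_lit 2, nat_lit 0, nat_lit 3], .rel (nat_lit 0) (nat_lit 0) [nat_lit 1], .rel (nat_lit 16) (nat_lit 0) [nat_lit 0, nat_lit 2, nat_lit 2], .rel (nat_lit 16) (nat_lit 1) [nat_lit 2, nat_lit 2, nat_lit 0], .rel (nat_lit 18) (nat_lit 2) [nat_lit 3, nat_lit 0, nat_lit 2]],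
  [.rel (nat_lit 2) (nat_lit 0) [nat_lit 0], .defn],
  [.rel (nat_lit 4) (nat_lit 0) [nat_lit 3], .defn, .rel (nat_lit 16) (nat_lit 3) [nat_lit 0, nat_lit 0, nat_lit 2], .rel (nat_lit 18) (nat_lit 1) [nat_lit 0, nat_lit 3, nat_lit 0]],
  [.rel (nat_lit 6) (nat_lit 0) [nat_lit 2], .defn, .rel (nat_lit 18) (nat_lit 3) [nat_lit 0, nat_lit 2, nat_lit 0]]]
noncomputable def c4 : TCert := ⟨8, 4, 7, T4, I4, D4, [], RL4⟩
noncomputable def Pt4d : ℕ := nat_lit 0x6c9864c104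
noncomputable def Pt4 (u : ℕ) : ℕ := Nat.land (Nat.shiftRight Pt4d (Nat.mul u (nat_lit 5))) (nat_lit 31)
noncomputable def Q4d : ℕ := nat_lit 0x18203d019100000
noncomputable def Q4 (u : ℕ) : ℕ := Nat.land (Nat.shiftRight Q4d (Nat.mul u (nat_lit 3))) (nat_lit 7)
noncomputable def l4 : H16.Lev := ⟨8, 4, D4, Pt4, Q4⟩
noncomputable def B : List ℕ := [nat_lit 0, nat_lit 1, nat_lit 2, nat_lit 3, nat_lit 4]
noncomputable def L : List H16.Lev := [l0, l1, l2, l3, l4]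
noncomputable def Cs : List ℕ := [nat_lit 0x752cb3a4a455cd0acdac7ca2818820, nat_lit 0x75576518ac3dd28a3e449b63018820, nat_lit 0x89df3ac2eda150655992591c918820, nat_lit 0x8aa6fa22f2a96093ac8db31c618820, nat_lit 0xbaeae9c1522d18db4464399e848820, nat_lit 0x3d8b47a5709b98d8aa42b92a61a020, nat_lit 0xabaf479a219d98d5a8882c8e918a00, nat_lit 0x2aeb47c9c89c5acb28d03a6e400443]

theorem tc0e_a : allZ2 (entryChk T0 (selR RL0 I0) D0 (nat_lit 15) (nat_lit 12) (nat_lit 8)) (nat_lit 8) (nat_lit 12) = true := by decide +kernel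
theorem tc0r : rulesChk Rl c0.Sl RL0 (nat_lit 8) = true := by decide +kernel
theorem ivc : ivChk Rl (nat_lit 8) = true := by decide +kernel
theorem lv0e_0 : allZ (l0.ent P) (nat_lit 0) (nat_lit 11) = true := by decide +kernel
theorem lv0b : Nat.blt (Pt0 (nat_lit 0)) (nat_lit 24) = true ∧ Q0 (Pt0 (nat_lit 0)) = 0 ∧ Pt0 (nat_lit 0) = 0 := by decide +kernel
theorem sb0 : H16.allL (ltAll (nat_lit 7)) c0.Sl = true ∧ fixLetters P (nat_lit 7) (Pt0 (nat_lit 0)) = true := by decide +kernel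
theorem tc1e_a : allZ2 (entryChk T1 (selR RL1 I1) D1 (nat_lit 15) (nat_lit 11) (nat_lit 7)) (nat_lit 7) (nat_lit 11) = true := by decide +kernel
theorem tc1r : rulesChk Rl c1.Sl RL1 (nat_lit 7) = true := by decide +kernel
theorem lv1e_0 : allZ (l1.ent P) (nat_lit 0) (nat_lit 10) = true := by decide +kernel
theorem lv1b : Nat.blt (Pt1 (nat_lit 0)) (nat_lit 24) = true ∧ Q1 (Pt1 (nat_lit 0)) = 0 ∧ Pt1 (nat_lit 0) = 1 := by decide +kernel
theorem sb1 : H16.allL (ltAll (nat_lit 6)) c1.Sl = true ∧ fixLetters P (nat_lit 6) (Pt1 (nat_lit 0)) = true := by decide +kernel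
theorem tc2e_a : allZ2 (entryChk T2 (selR RL2 I2) D2 (nat_lit 15) (nat_lit 10) (nat_lit 6)) (nat_lit 6) (nat_lit 10) = true := by decide +kernel
theorem tc2r : rulesChk Rl c2.Sl RL2 (nat_lit 6) = true := by decide +kernel
theorem lv2e_0 : allZ (l2.ent P) (nat_lit 0) (nat_lit 9) = true := by decide +kernel
theorem lv2b : Nat.blt (Pt2 (nat_lit 0)) (nat_lit 24) = true ∧ Q2 (Pt2 (nat_lit 0)) = 0 ∧ Pt2 (nat_lit 0) = 2 := by decide +kernel
theorem sb2 : H16.allL (ltAll (nat_lit 5)) c2.Sl = true ∧ fixLetters P (nat_lit 5) (Pt2 (nat_lit 0)) = true := by decide +kernel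
theorem tc3e_a : allZ2 (entryChk T3 (selR RL3 I3) D3 (nat_lit 15) (nat_lit 9) (nat_lit 5)) (nat_lit 5) (nat_lit 9) = true := by decide +kernel
theorem tc3r : rulesChk Rl c3.Sl RL3 (nat_lit 5) = true := by decide +kernel
theorem lv3e_0 : allZ (l3.ent P) (nat_lit 0) (nat_lit 8) = true := by decide +kernel
theorem lv3b : Nat.blt (Pt3 (nat_lit 0)) (nat_lit 24) = true ∧ Q3 (Pt3 (nat_lit 0)) = 0 ∧ Pt3 (nat_lit 0) = 3 := by decide +kernel
theorem sb3 : H16.allL (ltAll (nat_lit 4)) c3.Sl = true ∧ fixLetters P (nat_lit 4) (Pt3 (nat_lit 0)) = true := by decide +kernel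
theorem tc4e_a : allZ2 (entryChk T4 (selR RL4 I4) D4 (nat_lit 7) (nat_lit 8) (nat_lit 4)) (nat_lit 4) (nat_lit 8) = true := by decide +kernel
theorem tc4r : rulesChk Rl c4.Sl RL4 (nat_lit 4) = true := by decide +kernel
theorem lv4e_0 : allZ (l4.ent P) (nat_lit 0) (nat_lit 7) = true := by decide +kernel
theorem lv4b : Nat.blt (Pt4 (nat_lit 0)) (nat_lit 24) = true ∧ Q4 (Pt4 (nat_lit 0)) = 0 ∧ Pt4 (nat_lit 0) = 4 := by decide +kernel
theorem sb4 : H16.allL (ltAll (nat_lit 0)) c4.Sl = true ∧ fixLetters P (nat_lit 0) (Pt4 (nat_lit 0)) = true := by decide +kernel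
theorem Blt : ltAll (nat_lit 24) B = 0 := by decide +kernel
theorem ivk : ivLt Rl (nat_lit 8) = true := by decide +kernel
theorem csc : ∀ k < 8, isM (nth 0 Cs k) = true ∧ (∀ i < 24, ap (nth 0 Cs k) i = P k i) ∧ H15.act (nth 0 Cs k) 340831 = 340831 := by decide +kernel
theorem rf : H16.allL (fixRange P (nat_lit 8) (nat_lit 0) (nat_lit 24)) Rl = true := by decide +kernel

theorem tc0e : ∀ k < 8, ∀ i < 12, (entryChk T0 (selR RL0 I0) D0 (nat_lit 15) (nat_lit 12) (nat_lit 8)) k i = 0 := allZ2_sound tc0e_a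
theorem tc0 : c0.OK Rl 8 := ⟨by decide, by decide, by decide, ivc, tc0r, tc0e⟩
theorem lv0e : ∀ i < 11, (l0.ent P) i = 0 := allZ_sound0 lv0e_0
theorem lv0 : l0.OK P 24 := ⟨by decide, by decide, lt_of_blt lv0b.1, lv0b.2.1, lv0e⟩
theorem tc1e : ∀ k < 7, ∀ i < 11, (entryChk T1 (selR RL1 I1) D1 (nat_lit 15) (nat_lit 11) (nat_lit 7)) k i = 0 := allZ2_sound tc1e_a
theorem tc1 : c1.OK Rl 8 := ⟨by decide, by decide, by decide, ivc, tc1r, tc1e⟩
theorem lv1e : ∀ i < 10, (l1.ent P) i = 0 := allZ_sound0 lv1e_0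
theorem lv1 : l1.OK P 24 := ⟨by decide, by decide, lt_of_blt lv1b.1, lv1b.2.1, lv1e⟩
theorem tc2e : ∀ k < 6, ∀ i < 10, (entryChk T2 (selR RL2 I2) D2 (nat_lit 15) (nat_lit 10) (nat_lit 6)) k i = 0 := allZ2_sound tc2e_a
theorem tc2 : c2.OK Rl 8 := ⟨by decide, by decide, by decide, ivc, tc2r, tc2e⟩
theorem lv2e : ∀ i < 9, (l2.ent P) i = 0 := allZ_sound0 lv2e_0
theorem lv2 : l2.OK P 24 := ⟨by decide, by decide, lt_of_blt lv2b.1, lv2b.2.1, lv2e⟩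
theorem tc3e : ∀ k < 5, ∀ i < 9, (entryChk T3 (selR RL3 I3) D3 (nat_lit 15) (nat_lit 9) (nat_lit 5)) k i = 0 := allZ2_sound tc3e_a
theorem tc3 : c3.OK Rl 8 := ⟨by decide, by decide, by decide, ivc, tc3r, tc3e⟩
theorem lv3e : ∀ i < 8, (l3.ent P) i = 0 := allZ_sound0 lv3e_0
theorem lv3 : l3.OK P 24 := ⟨by decide, by decide, lt_of_blt lv3b.1, lv3b.2.1, lv3e⟩
theorem tc4e : ∀ k < 4, ∀ i < 8, (entryChk T4 (selR RL4 I4) D4 (nat_lit 7) (nat_lit 8) (nat_lit 4)) k i = 0 := allZ2_sound tc4e_a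
theorem tc4 : c4.OK Rl 8 := ⟨by decide, by decide, by decide, ivc, tc4r, tc4e⟩
theorem lv4e : ∀ i < 7, (l4.ent P) i = 0 := allZ_sound0 lv4e_0
theorem lv4 : l4.OK P 24 := ⟨by decide, by decide, lt_of_blt lv4b.1, lv4b.2.1, lv4e⟩
theorem bound4 : Bound Rl 4 8 := Bound.step' (Bound.zero Rl) tc4 sb4.1 (by decide +kernel)
theorem bound3 : Bound Rl 5 72 := Bound.step' (bound4) tc3 sb3.1 (by decide +kernel)
theorem bound2 : Bound Rl 6 720 := Bound.step' (bound3) tc2 sb2.1 (by decide +kernel)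
theorem bound1 : Bound Rl 7 7920 := Bound.step' (bound2) tc1 sb1.1 (by decide +kernel)
theorem bound0 : Bound Rl 8 95040 := Bound.step' (bound1) tc0 sb0.1 (by decide +kernel)
/-- every tuple satisfying `Rl` generates a group of order at most `95040` -/
theorem bound : Bound Rl 8 95040 := bound0
theorem chain_of {G Ω : Type*} [Group G] [MulAction G Ω] {g : ℕ → G} {pt : ℕ → Ω}
    (h : Act g pt P 24 8) (hR : Rels g Rl) : IsChain g pt 24 L :=
  IsChain.cons (L := [l1, l2, l3, l4]) (IsChain.cons (L := [l2, l3, l4]) (IsChain.cons (L := [l3, l4]) (IsChain.cons (L := [l4]) (IsChain.cons (L := []) (trivial) h hR tc4 lv4 rfl rfl rfl (by decide) sb4.1 sb4.2) h hR tc3 lv3 rfl rfl rfl (by decide) sb3.1 sb3.2) h hR tc2 lv2 rfl rfl rfl (by decide) sb2.1 sb2.2) h hR tc1 lv1 rfl rfl rfl (by decide) sb1.1 sb1.2) h hR tc0 lv0 rfl rfl rfl (by decide) sb0.1 sb0.2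
theorem base_eq : chainBase L = B := by decide +kernel
/-- the letters -/
noncomputable def g (k : ℕ) : Equiv.Perm Cfsg.GolayPt := H15.P (nth 0 Cs k)
theorem act : Act g pt P 24 8 := fun k hk i hi => (csc k hk).2.1 i hi ▸ isM_rep (csc k hk).1 i hi
theorem inj : PtInj pt 24 := fun _ hi _ hj e => pt_inj hi hj e
theorem rels : Rels g Rl := rels_of_all act (fun a _ h => Equiv.ext fun p => by
  obtain ⟨i, hi, rfl⟩ := exists_pt p
  exact h i hi) (FixUpTo.first rf)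
theorem chain : IsChain g pt 24 L := chain_of act rels
theorem card : Nat.card (gen g 8) = 95040 := chain.card' inj (by decide +kernel)
theorem isBase : IsBase (gen g 8) pt B := base_eq ▸ chain.isBase inj
theorem gen_eq : gen g 8 = Cfsg.Spor.M12 :=
  Subgroup.eq_of_le_of_card_ge (gen_le.2 fun k hk => mem_M12.2 ⟨isM_mem (csc k hk).1, (isM_rep (csc k hk).1).smul_S_eq (csc k hk).2.2⟩) (card_M12.trans card.symm).le

end H15.MM12
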