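import Cfsg.Agent.H15.Mathieu
import Cfsg.Agent.H16.Facts

/-! Generated by tools/h16 and py/gen_models.py. -/

set_option maxRecDepth 100000
set_option maxHeartbeats 0

namespace H15.MM22

open H16
open scoped Pointwise

noncomputable def Rl : List (List ℕ) := [[nat_lit 0, nat_lit 0],
  [nat_lit 1, nat_lit 1],
  [nat_lit 2, nat_lit 2],
  [nat_lit 3, nat_lit 3],
  [nat_lit 4, nat_lit 5],
  [nat_lit 5, nat_lit 4],
  [nat_lit 6, nat_lit 6],
  [nat_lit 7, nat_lit 7],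
  [nat_lit 8, nat_lit 8],
  [nat_lit 2, nat_lit 3, nat_lit 2, nat_lit 3],
  [nat_lit 1, nat_lit 2, nat_lit 1, nat_lit 2],
  [nat_lit 1, nat_lit 3, nat_lit 1, nat_lit 3],
  [nat_lit 0, nat_lit 1, nat_lit 0, nat_lit 1],
  [nat_lit 0, nat_lit 2, nat_lit 0, nat_lit 2],
  [nat_lit 0, nat_lit 3, nat_lit 0, nat_lit 3],
  [nat_lit 4, nat_lit 4, nat_lit 4],
  [nat_lit 1, nat_lit 5, nat_lit 2, nat_lit 4],
  [nat_lit 1, nat_lit 2, nat_lit 4, nat_lit 2, nat_lit 5],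
  [nat_lit 0, nat_lit 5, nat_lit 1, nat_lit 3, nat_lit 4],
  [nat_lit 0, nat_lit 1, nat_lit 3, nat_lit 5, nat_lit 0, nat_lit 4],
  [nat_lit 4, nat_lit 6, nat_lit 4, nat_lit 6, nat_lit 4, nat_lit 6],
  [nat_lit 1, nat_lit 6, nat_lit 2, nat_lit 6, nat_lit 3, nat_lit 5, nat_lit 6],
  [nat_lit 0, nat_lit 1, nat_lit 6, nat_lit 4, nat_lit 2, nat_lit 6, nat_lit 2, nat_lit 5, nat_lit 6],
  [nat_lit 2, nat_lit 3, nat_lit 7, nat_lit 3, nat_lit 7],
  [nat_lit 4, nat_lit 7, nat_lit 6, nat_lit 4, nat_lit 7, nat_lit 6, nat_lit 7, nat_lit 5, nat_lit 6],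
  [nat_lit 7, nat_lit 8, nat_lit 7, nat_lit 8, nat_lit 7, nat_lit 8],
  [nat_lit 0, nat_lit 2, nat_lit 8, nat_lit 0, nat_lit 8],
  [nat_lit 0, nat_lit 4, nat_lit 8, nat_lit 0, nat_lit 6, nat_lit 2, nat_lit 8, nat_lit 6]]
noncomputable def Pd : List ℕ := [nat_lit 0xba91094e346b9e63d8955b0a918820,
  nat_lit 0xb9e086be3593a6952d94b10a618820,
  nat_lit 0xba1474922b3398d85676a3cb218820,
  nat_lit 0xbb4c93ae2453ac893e8c9d4b018820,
  nat_lit 0xbd58a410b37c4f66a6905c9c618820,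
  nat_lit 0xbb2c9819c8795753d1536923218820,
  nat_lit 0xbc654656c5790733a9265a20e68820,
  nat_lit 0xba54c410b07b8f45d6d369a3210c20,
  nat_lit 0xbacea991c87c58db5130a98b218440]
noncomputable def P (k u : ℕ) : ℕ := Nat.land (Nat.shiftRight (nth (nat_lit 0) Pd k) (Nat.mul u (nat_lit 5))) (nat_lit 31)
noncomputable def T0d : List ℕ := [nat_lit 0x63519482d13252f48e55147081386786686534832984c84b84a8838a47228618a0,
  nat_lit 0x17565486b1b25ae82f8105d180636985388438c6a76c87ed8838aa8a57427c18a0,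
  nat_lit 0x1d519488a63256844c8496678854308848b386f59168e8838ad8ab8a67628418a0,
  nat_lit 0x1556944ef1d25ed4cb5136266118844b02e930a66588364e6888ac8a77827a18a0,
  nat_lit 0x8926b520b6d43cc88688586f5913ed26a2338838696d06e78ae2a48a87828018a0,
  nat_lit 0x6946b224a8b556d6a784e88540c3b11f328b8488837068b08af2c48a97627e18a0,
  nat_lit 0x1f388f2158871d122a8b452b62d1ec54e2507487698b27257462048828a38218a0,
  nat_lit 0x1503204a0548860ac00f62556709006b0330697c354d8b164e0647a88818a28a0,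
  nat_lit 0x1120741aa0f514c0e810e12f1ed17122b1d30870d00a92631852842468628808a1]
noncomputable def T0 (k u : ℕ) : ℕ := Nat.land (Nat.shiftRight (nth (nat_lit 0) T0d k) (Nat.mul u (nat_lit 12))) (nat_lit 4095)
noncomputable def I0d : List ℕ := [nat_lit 0x11710910086450000031a2,
  nat_lit 0x1841070560001010022113,
  nat_lit 0x7602050000012420111893,
  nat_lit 0x8404023090003006211a75,
  nat_lit 0x116200250000210303784,
  nat_lit 0x41000020020061151003,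
  nat_lit 0x20501036720210330184,
  nat_lit 0x4016042010208703210035,
  nat_lit 0x3300020144210011230605]
noncomputable def I0 (k u : ℕ) : ℕ := Nat.land (Nat.shiftRight (nth (nat_lit 0) I0d k) (Nat.mul u (nat_lit 4))) (nat_lit 15)
noncomputable def D0d : ℕ := nat_lit 0xa78d5c453d3b32312f272625201f1e1d1c1b18100800
noncomputable def D0 (u : ℕ) : ℕ := Nat.land (Nat.shiftRight D0d (Nat.mul u (nat_lit 8))) (nat_lit 255)
noncomputable def RL0 : List (List Rule) := [[.rel (nat_lit 0) (nat_lit 0) [nat_lit 0], .rel (nat_lit 36) (nat_lit 0) [nat_lit 5, nat_lit 1, nat_lit 3, nat_lit 4], .sub (nat_lit 0) [] [], .defn, .rel (nat_lit 24) (nat_lit 0) [nat_lit 1, nat_lit 0, nat_lit 1], .rel (nat_lit 24) (nat_lit 2) [nat_lit 1, nat_lit 0, nat_lit 1], .rel (nat_lit 26) (nat_lit 0) [nat_lit 2, nat_lit 0, nat_lit 2], .rel (nat_lit 26) (nat_lit 2) [nat_lit 2, nat_lit 0, nat_lit 2], .rel (nat_lit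 28) (nat_lit 0) [nat_lit 3, nat_lit 0, nat_lit 3], .rel (nat_lit 28) (nat_lit 2) [nat_lit 3, nat_lit 0, nat_lit 3], .rel (nat_lit 52) (nat_lit 3) [nat_lit 8, nat_lit 0, nat_lit 2, nat_lit 8]],
  [.rel (nat_lit 2) (nat_lit 0) [nat_lit 1], .rel (nat_lit 32) (nat_lit 0) [nat_lit 5, nat_lit 2, nat_lit 4], .defn, .sub (nat_lit 2) [] [], .rel (nat_lit 20) (nat_lit 0) [nat_lit 2, nat_lit 1, nat_lit 2], .rel (nat_lit 22) (nat_lit 0) [nat_lit 3, nat_lit 1, nat_lit 3], .rel (nat_lit 24) (nat_lit 3) [nat_lit 0, nat_lit 1, nat_lit 0], .rel (nat_lit 34) (nat_lit 0) [nat_lit 2, nat_lit 4, nat_lit 2, nat_lit 5], .rel (nat_lit 42) (nat_lit 0) [nat_lit 6, nat_lit 2, nat_lit 6, nat_lit 3, nat_lit 5, nat_lit 6]],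
  [.rel (nat_lit 4) (nat_lit 0) [nat_lit 2], .defn, .rel (nat_lit 32) (nat_lit 2) [nat_lit 4, nat_lit 1, nat_lit 5], .sub (nat_lit 4) [] [], .rel (nat_lit 20) (nat_lit 3) [nat_lit 1, nat_lit 2, nat_lit 1], .rel (nat_lit 26) (nat_lit 1) [nat_lit 0, nat_lit 2, nat_lit 0], .rel (nat_lit 34) (nat_lit 3) [nat_lit 5, nat_lit 1, nat_lit 2, nat_lit 4], .rel (nat_lit 42) (nat_lit 2) [nat_lit 6, nat_lit 3, nat_lit 5, nat_lit 6, nat_lit 1, nat_lit 6], .rel (nat_lit 46) (nat_lit 0) [nat_lit 3, nat_lit 7, nat_lit 3, nat_lit 7], .rel (nat_lit 52) (nat_lit 1) [nat_lit 8, nat_lit 0, nat_lit 8, nat_lit 0]],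
  [.rel (nat_lit 6) (nat_lit 0) [nat_lit 3], .defn, .rel (nat_lit 22) (nat_lit 3) [nat_lit 1, nat_lit 3, nat_lit 1], .rel (nat_lit 28) (nat_lit 1) [nat_lit 0, nat_lit 3, nat_lit 0], .rel (nat_lit 42) (nat_lit 4) [nat_lit 5, nat_lit 6, nat_lit 1, nat_lit 6, nat_lit 2, nat_lit 6], .sub (nat_lit 6) [] [], .rel (nat_lit 18) (nat_lit 3) [nat_lit 2, nat_lit 3, nat_lit 2], .rel (nat_lit 36) (nat_lit 3) [nat_lit 4, nat_lit 0, nat_lit 5, nat_lit 1], .rel (nat_lit 38) (nat_lit 2) [nat_lit 5, nat_lit 0, nat_lit 4, nat_lit 0, nat_lit 1], .rel (nat_lit 46) (nat_lit 1) [nat_lit 7, nat_lit 3, nat_lit 7, nat_lit 2], .rel (nat_lit 46) (nat_lit 3) [nat_lit 7, nat_lit 2, nat_lit 3, nat_lit 7]],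
  [.rel (nat_lit 8) (nat_lit 0) [nat_lit 5], .rel (nat_lit 30) (nat_lit 1) [nat_lit 4, nat_lit 4], .rel (nat_lit 30) (nat_lit 2) [nat_lit 4, nat_lit 4], .defn, .sub (nat_lit 8) [] [], .rel (nat_lit 32) (nat_lit 3) [nat_lit 1, nat_lit 5, nat_lit 2], .rel (nat_lit 40) (nat_lit 2) [nat_lit 6, nat_lit 4, nat_lit 6, nat_lit 4, nat_lit 6], .rel (nat_lit 48) (nat_lit 0) [nat_lit 7, nat_lit 6, nat_lit 4, nat_lit 7, nat_lit 6, nat_lit 7, nat_lit 5, nat_lit 6], .rel (nat_lit 54) (nat_lit 1) [nat_lit 8, nat_lit 0, nat_lit 6, nat_lit 2, nat_lit 8, nat_lit 6, nat_lit 0]],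
  [.rel (nat_lit 10) (nat_lit 0) [nat_lit 4], .defn, .rel (nat_lit 32) (nat_lit 1) [nat_lit 2, nat_lit 4, nat_lit 1], .sub (nat_lit 10) [] [], .rel (nat_lit 34) (nat_lit 4) [nat_lit 1, nat_lit 2, nat_lit 4, nat_lit 2], .rel (nat_lit 36) (nat_lit 1) [nat_lit 1, nat_lit 3, nat_lit 4, nat_lit 0], .rel (nat_lit 42) (nat_lit 5) [nat_lit 6, nat_lit 1, nat_lit 6, nat_lit 2, nat_lit 6, nat_lit 3]],
  [.rel (nat_lit 12) (nat_lit 0) [nat_lit 6], .defn, .rel (nat_lit 40) (nat_lit 3) [nat_lit 4, nat_lit 6, nat_lit 4, nat_lit 6, nat_lit 4], .rel (nat_lit 42) (nat_lit 1) [nat_lit 2, nat_lit 6, nat_lit 3, nat_lit 5, nat_lit 6, nat_lit 1], .sub (nat_lit 12) [] [], .rel (nat_lit 40) (nat_lit 5) [nat_lit 4, nat_lit 6, nat_lit 4, nat_lit 6, nat_lit 4], .rel (nat_lit 42) (nat_lit 3) [nat_lit 3, nat_lit 5, nat_lit 6, nat_lit 1, nat_lit 6, nat_lit 2], .rel (nat_lit 44) (nat_lit 2) [nat_lit 4, nat_lit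 2, nat_lit 6, nat_lit 2, nat_lit 5, nat_lit 6, nat_lit 0, nat_lit 1], .rel (nat_lit 54) (nat_lit 4) [nat_lit 2, nat_lit 8, nat_lit 6, nat_lit 0, nat_lit 4, nat_lit 8, nat_lit 0]],
  [.rel (nat_lit 14) (nat_lit 0) [nat_lit 7], .rel (nat_lit 46) (nat_lit 2) [nat_lit 3, nat_lit 7, nat_lit 2, nat_lit 3], .rel (nat_lit 46) (nat_lit 4) [nat_lit 2, nat_lit 3, nat_lit 7, nat_lit 3], .defn, .rel (nat_lit 50) (nat_lit 2) [nat_lit 8, nat_lit 7, nat_lit 8, nat_lit 7, nat_lit 8], .sub (nat_lit 14) [] [], .rel (nat_lit 48) (nat_lit 1) [nat_lit 6, nat_lit 4, nat_lit 7, nat_lit 6, nat_lit 7, nat_lit 5, nat_lit 6, nat_lit 4], .rel (nat_lit 48) (nat_lit 4) [nat_lit 6, nat_lit 7, nat_lit 5, nat_lit 6, nat_lit 4, nat_lit 7, nat_lit 6, nat_lit 4], .rel (nat_lit 50) (nat_lit 0) [nat_lit 8, nat_lit 7, nat_lit 8, nat_lit 7, nat_lit 8]],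
  [.rel (nat_lit 16) (nat_lit 0) [nat_lit 8], .rel (nat_lit 52) (nat_lit 2) [nat_lit 0, nat_lit 8, nat_lit 0, nat_lit 2], .rel (nat_lit 52) (nat_lit 4) [nat_lit 0, nat_lit 2, nat_lit 8, nat_lit 0], .rel (nat_lit 54) (nat_lit 2) [nat_lit 0, nat_lit 6, nat_lit 2, nat_lit 8, nat_lit 6, nat_lit 0, nat_lit 4], .rel (nat_lit 54) (nat_lit 6) [nat_lit 6, nat_lit 0, nat_lit 4, nat_lit 8, nat_lit 0, nat_lit 6, nat_lit 2], .defn, .rel (nat_lit 50) (nat_lit 5) [nat_lit 7, nat_lit 8, nat_lit 7, nat_lit 8, nat_lit 7]]]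
noncomputable def c0 : TCert := ⟨22, 9, 31, T0, I0, D0, [[nat_lit 0],
  [nat_lit 1],
  [nat_lit 2],
  [nat_lit 3],
  [nat_lit 4],
  [nat_lit 5],
  [nat_lit 6],
  [nat_lit 7]], RL0⟩
noncomputable def Pt0d : ℕ := nat_lit 0x1c5246958212a34967b326f68c41
noncomputable def Pt0 (u : ℕ) : ℕ := Nat.land (Nat.shiftRight Pt0d (Nat.mul u (nat_lit 5))) (nat_lit 31)
noncomputable def Q0d : ℕ := nat_lit 0x1e112aa4f254664b1ae42e9310400
noncomputable def Q0 (u : ℕ) : ℕ := Nat.land (Nat.shiftRight Q0d (Nat.mul u (nat_lit 5))) (nat_lit 31)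
noncomputable def l0 : H16.Lev := ⟨22, 9, D0, Pt0, Q0⟩
noncomputable def T1d : List ℕ := [nat_lit 0x5941e7bb048c8e7db2c1e7ed2e4dc97922a7511c2f85709e85d8f40f60,
  nat_lit 0xd4b67ca888d0ddddb3e986c5591c4ba1aebc0d89f56742ed3d9350f60,
  nat_lit 0x1341e7d26c8cc7757c22e374471fd0fb972e9e17b7a176ced5d9780f60,
  nat_lit 0xb4be713898d4c8551cac2d70e8703d24269b89d0ad6de7ed7d9b90f60,
  nat_lit 0x751c285ab19b2be8bd13974f0698724c9742e518bf2376d407d9f70f60,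
  nat_lit 0x5f3c226a7ba4ccc0dc37a236b620548f5707e85997b7f6e447da360f60,
  nat_lit 0x152e9c5d3a3130313dce4558c2972b4d7ea7d91dc7426a52c7d07b1760,
  nat_lit 0x5412242459f4505633ac24c609e1a8790c8e452b3b85ad007c1fa0761]
noncomputable def T1 (k u : ℕ) : ℕ := Nat.land (Nat.shiftRight (nth (nat_lit 0) T1d k) (Nat.mul u (nat_lit 11))) (nat_lit 2047)
noncomputable def I1d : List ℕ := [nat_lit 0x117109100864500000312,
  nat_lit 0x184107056000101002213,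
  nat_lit 0x760205000001242011183,
  nat_lit 0x740402308000300621195,
  nat_lit 0x11620025000021030374,
  nat_lit 0x4100002002006115103,
  nat_lit 0x2050103672021033014,
  nat_lit 0x303500201130150422004]
noncomputable def I1 (k u : ℕ) : ℕ := Nat.land (Nat.shiftRight (nth (nat_lit 0) I1d k) (Nat.mul u (nat_lit 4))) (nat_lit 15)
noncomputable def D1d : ℕ := nat_lit 0x8d764a362f2d2524221b1a191514131211100e0700
noncomputable def D1 (u : ℕ) : ℕ := Nat.land (Nat.shiftRight D1d (Nat.mul u (nat_lit 8))) (nat_lit 255)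
noncomputable def RL1 : List (List Rule) := [[.rel (nat_lit 0) (nat_lit 0) [nat_lit 0], .rel (nat_lit 36) (nat_lit 0) [nat_lit 5, nat_lit 1, nat_lit 3, nat_lit 4], .sub (nat_lit 0) [] [], .defn, .rel (nat_lit 24) (nat_lit 0) [nat_lit 1, nat_lit 0, nat_lit 1], .rel (nat_lit 24) (nat_lit 2) [nat_lit 1, nat_lit 0, nat_lit 1], .rel (nat_lit 26) (nat_lit 0) [nat_lit 2, nat_lit 0, nat_lit 2], .rel (nat_lit 26) (nat_lit 2) [nat_lit 2, nat_lit 0, nat_lit 2], .rel (nat_lit 28) (nat_lit 0) [nat_lit 3, nat_lit 0, nat_lit 3], .rel (nat_lit 28) (nat_lit 2) [nat_lit 3, nat_lit 0, nat_lit 3]],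
  [.rel (nat_lit 2) (nat_lit 0) [nat_lit 1], .rel (nat_lit 32) (nat_lit 0) [nat_lit 5, nat_lit 2, nat_lit 4], .defn, .sub (nat_lit 2) [] [], .rel (nat_lit 20) (nat_lit 0) [nat_lit 2, nat_lit 1, nat_lit 2], .rel (nat_lit 22) (nat_lit 0) [nat_lit 3, nat_lit 1, nat_lit 3], .rel (nat_lit 24) (nat_lit 3) [nat_lit 0, nat_lit 1, nat_lit 0], .rel (nat_lit 34) (nat_lit 0) [nat_lit 2, nat_lit 4, nat_lit 2, nat_lit 5], .rel (nat_lit 42) (nat_lit 0) [nat_lit 6, nat_lit 2, nat_lit 6, nat_lit 3, nat_lit 5, nat_lit 6]],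
  [.rel (nat_lit 4) (nat_lit 0) [nat_lit 2], .defn, .rel (nat_lit 32) (nat_lit 2) [nat_lit 4, nat_lit 1, nat_lit 5], .sub (nat_lit 4) [] [], .rel (nat_lit 20) (nat_lit 3) [nat_lit 1, nat_lit 2, nat_lit 1], .rel (nat_lit 26) (nat_lit 1) [nat_lit 0, nat_lit 2, nat_lit 0], .rel (nat_lit 34) (nat_lit 3) [nat_lit 5, nat_lit 1, nat_lit 2, nat_lit 4], .rel (nat_lit 42) (nat_lit 2) [nat_lit 6, nat_lit 3, nat_lit 5, nat_lit 6, nat_lit 1, nat_lit 6], .rel (nat_lit 46) (nat_lit 0) [nat_lit 3, nat_lit 7, nat_lit 3, nat_lit 7]],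
  [.rel (nat_lit 6) (nat_lit 0) [nat_lit 3], .defn, .rel (nat_lit 22) (nat_lit 3) [nat_lit 1, nat_lit 3, nat_lit 1], .rel (nat_lit 28) (nat_lit 1) [nat_lit 0, nat_lit 3, nat_lit 0], .rel (nat_lit 42) (nat_lit 4) [nat_lit 5, nat_lit 6, nat_lit 1, nat_lit 6, nat_lit 2, nat_lit 6], .sub (nat_lit 6) [] [], .rel (nat_lit 18) (nat_lit 3) [nat_lit 2, nat_lit 3, nat_lit 2], .rel (nat_lit 38) (nat_lit 2) [nat_lit 5, nat_lit 0, nat_lit 4, nat_lit 0, nat_lit 1], .rel (nat_lit 46) (nat_lit 1) [nat_lit 7, nat_lit 3, nat_lit 7, nat_lit 2], .rel (nat_lit 46) (nat_lit 3) [nat_lit 7, nat_lit 2, nat_lit 3, nat_lit 7]],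
  [.rel (nat_lit 8) (nat_lit 0) [nat_lit 5], .rel (nat_lit 30) (nat_lit 1) [nat_lit 4, nat_lit 4], .rel (nat_lit 30) (nat_lit 2) [nat_lit 4, nat_lit 4], .defn, .sub (nat_lit 8) [] [], .rel (nat_lit 32) (nat_lit 3) [nat_lit 1, nat_lit 5, nat_lit 2], .rel (nat_lit 40) (nat_lit 2) [nat_lit 6, nat_lit 4, nat_lit 6, nat_lit 4, nat_lit 6], .rel (nat_lit 48) (nat_lit 0) [nat_lit 7, nat_lit 6, nat_lit 4, nat_lit 7, nat_lit 6, nat_lit 7, nat_lit 5, nat_lit 6]],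
  [.rel (nat_lit 10) (nat_lit 0) [nat_lit 4], .defn, .rel (nat_lit 32) (nat_lit 1) [nat_lit 2, nat_lit 4, nat_lit 1], .sub (nat_lit 10) [] [], .rel (nat_lit 34) (nat_lit 4) [nat_lit 1, nat_lit 2, nat_lit 4, nat_lit 2], .rel (nat_lit 36) (nat_lit 1) [nat_lit 1, nat_lit 3, nat_lit 4, nat_lit 0], .rel (nat_lit 42) (nat_lit 5) [nat_lit 6, nat_lit 1, nat_lit 6, nat_lit 2, nat_lit 6, nat_lit 3]],
  [.rel (nat_lit 12) (nat_lit 0) [nat_lit 6], .defn, .rel (nat_lit 40) (nat_lit 3) [nat_lit 4, nat_lit 6, nat_lit 4, nat_lit 6, nat_lit 4], .rel (nat_lit 42) (nat_lit 1) [nat_lit 2, nat_lit 6, nat_lit 3, nat_lit 5, nat_lit 6, nat_lit 1], .sub (nat_lit 12) [] [], .rel (nat_lit 40) (nat_lit 5) [nat_lit 4, nat_lit 6, nat_lit 4, nat_lit 6, nat_lit 4], .rel (nat_lit 42) (nat_lit 3) [nat_lit 3, nat_lit 5, nat_lit 6, nat_lit 1, nat_lit 6, nat_lit 2], .rel (nat_lit 44) (nat_lit 2) [nat_lit 4, nat_lit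 2, nat_lit 6, nat_lit 2, nat_lit 5, nat_lit 6, nat_lit 0, nat_lit 1]],
  [.rel (nat_lit 14) (nat_lit 0) [nat_lit 7], .rel (nat_lit 46) (nat_lit 2) [nat_lit 3, nat_lit 7, nat_lit 2, nat_lit 3], .rel (nat_lit 46) (nat_lit 4) [nat_lit 2, nat_lit 3, nat_lit 7, nat_lit 3], .rel (nat_lit 48) (nat_lit 1) [nat_lit 6, nat_lit 4, nat_lit 7, nat_lit 6, nat_lit 7, nat_lit 5, nat_lit 6, nat_lit 4], .defn, .rel (nat_lit 48) (nat_lit 4) [nat_lit 6, nat_lit 7, nat_lit 5, nat_lit 6, nat_lit 4, nat_lit 7, nat_lit 6, nat_lit 4]]]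
noncomputable def c1 : TCert := ⟨21, 8, 31, T1, I1, D1, [[nat_lit 0],
  [nat_lit 1],
  [nat_lit 2],
  [nat_lit 3],
  [nat_lit 4],
  [nat_lit 5],
  [nat_lit 6]], RL1⟩
noncomputable def Pt1d : ℕ := nat_lit 0xe29234ac10951a4b3d9937b462
noncomputable def Pt1 (u : ℕ) : ℕ := Nat.land (Nat.shiftRight Pt1d (Nat.mul u (nat_lit 5))) (nat_lit 31)
noncomputable def Q1d : ℕ := nat_lit 0x19f02262e1d04542d8d3aa7208000
noncomputable def Q1 (u : ℕ) : ℕ := Nat.land (Nat.shiftRight Q1d (Nat.mul u (nat_lit 5))) (nat_lit 31)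
noncomputable def l1 : H16.Lev := ⟨21, 8, D1, Pt1, Q1⟩
noncomputable def T2d : List ℕ := [nat_lit 0x9261caf5aad01ed314836eba38971262348c99f05609c1190731660,
  nat_lit 0xa72cb14d6c11f7b6e7550b8879f08e42395416935abc839a331e60,
  nat_lit 0x1661cb2464691ee2b03d45c86ebb21671c5b9c2b6641cd79a732660,
  nat_lit 0x6744976c8b11ec2568c449619099722741130f20c6c9cd9ab32e60,
  nat_lit 0xc9f64c84c0ab6591321e2db20facb4131c8389ed75c5cd868b33660,
  nat_lit 0xae563c845abce7617066437950c078949c0d906f266ecda60b33e60,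
  nat_lit 0x8e393629890c8a423390c98961a8560eec0d89f37e03c4810b20661]
noncomputable def T2 (k u : ℕ) : ℕ := Nat.land (Nat.shiftRight (nth (nat_lit 0) T2d k) (Nat.mul u (nat_lit 11))) (nat_lit 2047)
noncomputable def I2d : List ℕ := [nat_lit 0x11341002042703000065,
  nat_lit 0x19411800760000500223,
  nat_lit 0x54002000020121201113,
  nat_lit 0x74104000603300011225,
  nat_lit 0x1108003015603102724,
  nat_lit 0x31000040000511012,
  nat_lit 0x60030212340002103501]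
noncomputable def I2 (k u : ℕ) : ℕ := Nat.land (Nat.shiftRight (nth (nat_lit 0) I2d k) (Nat.mul u (nat_lit 4))) (nat_lit 15)
noncomputable def D2d : ℕ := nat_lit 0xdd85d2c5284d192e4480f182c509101c300
noncomputable def D2 (u : ℕ) : ℕ := Nat.land (Nat.shiftRight D2d (Nat.mul u (nat_lit 7))) (nat_lit 127)
noncomputable def RL2 : List (List Rule) := [[.rel (nat_lit 0) (nat_lit 0) [nat_lit 0], .rel (nat_lit 36) (nat_lit 0) [nat_lit 5, nat_lit 1, nat_lit 3, nat_lit 4], .rel (nat_lit 26) (nat_lit 0) [nat_lit 2, nat_lit 0, nat_lit 2], .rel (nat_lit 26) (nat_lit 2) [nat_lit 2, nat_lit 0, nat_lit 2], .rel (nat_lit 28) (nat_lit 0) [nat_lit 3, nat_lit 0, nat_lit 3], .sub (nat_lit 0) [] [], .defn, .rel (nat_lit 24) (nat_lit 0) [nat_lit 1, nat_lit 0, nat_lit 1]],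
  [.rel (nat_lit 2) (nat_lit 0) [nat_lit 1], .rel (nat_lit 32) (nat_lit 0) [nat_lit 5, nat_lit 2, nat_lit 4], .defn, .sub (nat_lit 2) [] [], .rel (nat_lit 20) (nat_lit 0) [nat_lit 2, nat_lit 1, nat_lit 2], .rel (nat_lit 20) (nat_lit 2) [nat_lit 2, nat_lit 1, nat_lit 2], .rel (nat_lit 22) (nat_lit 0) [nat_lit 3, nat_lit 1, nat_lit 3], .rel (nat_lit 24) (nat_lit 3) [nat_lit 0, nat_lit 1, nat_lit 0], .rel (nat_lit 34) (nat_lit 0) [nat_lit 2, nat_lit 4, nat_lit 2, nat_lit 5], .rel (nat_lit 42) (nat_lit 0) [nat_lit 6, nat_lit 2, nat_lit 6, nat_lit 3, nat_lit 5, nat_lit 6]],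
  [.rel (nat_lit 4) (nat_lit 0) [nat_lit 2], .defn, .rel (nat_lit 32) (nat_lit 2) [nat_lit 4, nat_lit 1, nat_lit 5], .sub (nat_lit 4) [] [], .rel (nat_lit 34) (nat_lit 3) [nat_lit 5, nat_lit 1, nat_lit 2, nat_lit 4], .rel (nat_lit 42) (nat_lit 2) [nat_lit 6, nat_lit 3, nat_lit 5, nat_lit 6, nat_lit 1, nat_lit 6]],
  [.rel (nat_lit 6) (nat_lit 0) [nat_lit 3], .rel (nat_lit 22) (nat_lit 3) [nat_lit 1, nat_lit 3, nat_lit 1], .defn, .rel (nat_lit 28) (nat_lit 3) [nat_lit 0, nat_lit 3, nat_lit 0], .rel (nat_lit 42) (nat_lit 4) [nat_lit 5, nat_lit 6, nat_lit 1, nat_lit 6, nat_lit 2, nat_lit 6], .sub (nat_lit 6) [] [], .rel (nat_lit 18) (nat_lit 3) [nat_lit 2, nat_lit 3, nat_lit 2], .rel (nat_lit 38) (nat_lit 2) [nat_lit 5, nat_lit 0, nat_lit 4, nat_lit 0, nat_lit 1]],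
  [.rel (nat_lit 8) (nat_lit 0) [nat_lit 5], .rel (nat_lit 30) (nat_lit 1) [nat_lit 4, nat_lit 4], .defn, .rel (nat_lit 30) (nat_lit 2) [nat_lit 4, nat_lit 4], .sub (nat_lit 8) [] [], .rel (nat_lit 32) (nat_lit 3) [nat_lit 1, nat_lit 5, nat_lit 2], .rel (nat_lit 34) (nat_lit 2) [nat_lit 2, nat_lit 5, nat_lit 1, nat_lit 2], .rel (nat_lit 36) (nat_lit 4) [nat_lit 0, nat_lit 5, nat_lit 1, nat_lit 3], .rel (nat_lit 40) (nat_lit 2) [nat_lit 6, nat_lit 4, nat_lit 6, nat_lit 4, nat_lit 6]],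
  [.rel (nat_lit 10) (nat_lit 0) [nat_lit 4], .defn, .sub (nat_lit 10) [] [], .rel (nat_lit 34) (nat_lit 4) [nat_lit 1, nat_lit 2, nat_lit 4, nat_lit 2], .rel (nat_lit 36) (nat_lit 1) [nat_lit 1, nat_lit 3, nat_lit 4, nat_lit 0], .rel (nat_lit 42) (nat_lit 5) [nat_lit 6, nat_lit 1, nat_lit 6, nat_lit 2, nat_lit 6, nat_lit 3]],
  [.rel (nat_lit 12) (nat_lit 0) [nat_lit 6], .defn, .rel (nat_lit 40) (nat_lit 5) [nat_lit 4, nat_lit 6, nat_lit 4, nat_lit 6, nat_lit 4], .rel (nat_lit 42) (nat_lit 1) [nat_lit 2, nat_lit 6, nat_lit 3, nat_lit 5, nat_lit 6, nat_lit 1], .rel (nat_lit 40) (nat_lit 3) [nat_lit 4, nat_lit 6, nat_lit 4, nat_lit 6, nat_lit 4], .rel (nat_lit 42) (nat_lit 6) [nat_lit 1, nat_lit 6, nat_lit 2, nat_lit 6, nat_lit 3, nat_lit 5], .rel (nat_lit 44) (nat_lit 8) [nat_lit 0, nat_lit 1, nat_lit 6, nat_lit 4, nat_lit 2, nat_lit 6, nat_lit 2, nat_lit 5]]]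
noncomputable def c2 : TCert := ⟨20, 7, 31, T2, I2, D2, [[nat_lit 0],
  [nat_lit 1],
  [nat_lit 2],
  [nat_lit 3],
  [nat_lit 4],
  [nat_lit 5]], RL2⟩
noncomputable def Pt2d : ℕ := nat_lit 0x714948d6084a8d259ecc9bda3
noncomputable def Pt2 (u : ℕ) : ℕ := Nat.land (Nat.shiftRight Pt2d (Nat.mul u (nat_lit 5))) (nat_lit 31)
noncomputable def Q2d : ℕ := nat_lit 0x15d01a1ed14c243a96c3265100000
noncomputable def Q2 (u : ℕ) : ℕ := Nat.land (Nat.shiftRight Q2d (Nat.mul u (nat_lit 5))) (nat_lit 31)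
noncomputable def l2 : H16.Lev := ⟨20, 7, D2, Pt2, Q2⟩
noncomputable def T3d : List ℕ := [nat_lit 0x6660,
  nat_lit 0xe660,
  nat_lit 0x1a460,
  nat_lit 0xa060,
  nat_lit 0x1c6a1,
  nat_lit 0x15722]
noncomputable def T3 (k u : ℕ) : ℕ := Nat.land (Nat.shiftRight (nth (nat_lit 0) T3d k) (Nat.mul u (nat_lit 6))) (nat_lit 63)
noncomputable def I3d : List ℕ := [nat_lit 0x24,
  nat_lit 1,
  nat_lit 0x18,
  nat_lit 1,
  nat_lit 9,
  nat_lit 1]
noncomputable def I3 (k u : ℕ) : ℕ := Nat.land (Nat.shiftRight (nth (nat_lit 0) I3d k) (Nat.mul u (nat_lit 2))) (nat_lit 3)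
noncomputable def D3d : ℕ := nat_lit 0x160
noncomputable def D3 (u : ℕ) : ℕ := Nat.land (Nat.shiftRight D3d (Nat.mul u (nat_lit 3))) (nat_lit 7)
noncomputable def RL3 : List (List Rule) := [[.sub (nat_lit 0) [] [], .rel (nat_lit 36) (nat_lit 0) [nat_lit 5, nat_lit 1, nat_lit 3, nat_lit 4], .rel (nat_lit 38) (nat_lit 0) [nat_lit 1, nat_lit 3, nat_lit 5, nat_lit 0, nat_lit 4]],
  [.rel (nat_lit 32) (nat_lit 0) [nat_lit 5, nat_lit 2, nat_lit 4], .sub (nat_lit 2) [] []],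
  [.sub (nat_lit 4) [] [], .rel (nat_lit 32) (nat_lit 2) [nat_lit 4, nat_lit 1, nat_lit 5], .rel (nat_lit 34) (nat_lit 1) [nat_lit 4, nat_lit 2, nat_lit 5, nat_lit 1]],
  [.rel (nat_lit 36) (nat_lit 3) [nat_lit 4, nat_lit 0, nat_lit 5, nat_lit 1], .sub (nat_lit 6) [] []],
  [.rel (nat_lit 8) (nat_lit 0) [nat_lit 5], .defn, .rel (nat_lit 30) (nat_lit 2) [nat_lit 4, nat_lit 4]],
  [.rel (nat_lit 10) (nat_lit 0) [nat_lit 4], .defn]]
noncomputable def c3 : TCert := ⟨3, 6, 3, T3, I3, D3, [[nat_lit 0],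
  [nat_lit 1],
  [nat_lit 2],
  [nat_lit 3]], RL3⟩
noncomputable def Pt3d : ℕ := nat_lit 0x45c5
noncomputable def Pt3 (u : ℕ) : ℕ := Nat.land (Nat.shiftRight Pt3d (Nat.mul u (nat_lit 5))) (nat_lit 31)
noncomputable def Q3d : ℕ := nat_lit 0x810000000
noncomputable def Q3 (u : ℕ) : ℕ := Nat.land (Nat.shiftRight Q3d (Nat.mul u (nat_lit 2))) (nat_lit 3)
noncomputable def l3 : H16.Lev := ⟨3, 6, D3, Pt3, Q3⟩
noncomputable def T4d : List ℕ := [nat_lit 0x6e5f8a89887d7c7ba4a3a2979695b0c1,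
  nat_lit 0x3d5a2fa7a64e74739c9bb16968b0c5c2,
  nat_lit 0xac59179fb5344eb20db1cb2ab0c8c6c3,
  nat_lit 0xbbb8b6b5cfb3b2ceb1cdccb0cac9c7c4]
noncomputable def T4 (k u : ℕ) : ℕ := Nat.land (Nat.shiftRight (nth (nat_lit 0) T4d k) (Nat.mul u (nat_lit 8))) (nat_lit 255)
noncomputable def I4d : List ℕ := [nat_lit 0x209a00d18002,
  nat_lit 0x344609000012,
  nat_lit 0x690100008049,
  nat_lit 0x201048249]
noncomputable def I4 (k u : ℕ) : ℕ := Nat.land (Nat.shiftRight (nth (nat_lit 0) I4d k) (Nat.mul u (nat_lit 3))) (nat_lit 7)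
noncomputable def D4d : ℕ := nat_lit 0xbe36d758f2ca1c6143081000
noncomputable def D4 (u : ℕ) : ℕ := Nat.land (Nat.shiftRight D4d (Nat.mul u (nat_lit 6))) (nat_lit 63)
noncomputable def RL4 : List (List Rule) := [[.rel (nat_lit 0) (nat_lit 0) [nat_lit 0], .rel (nat_lit 28) (nat_lit 2) [nat_lit 3, nat_lit 0, nat_lit 3], .defn, .rel (nat_lit 24) (nat_lit 0) [nat_lit 1, nat_lit 0, nat_lit 1], .rel (nat_lit 26) (nat_lit 0) [nat_lit 2, nat_lit 0, nat_lit 2], .rel (nat_lit 26) (nat_lit 2) [nat_lit 2, nat_lit 0, nat_lit 2], .rel (nat_lit 28) (nat_lit 0) [nat_lit 3, nat_lit 0, nat_lit 3]],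
  [.rel (nat_lit 2) (nat_lit 0) [nat_lit 1], .rel (nat_lit 24) (nat_lit 3) [nat_lit 0, nat_lit 1, nat_lit 0], .defn, .rel (nat_lit 20) (nat_lit 0) [nat_lit 2, nat_lit 1, nat_lit 2], .rel (nat_lit 22) (nat_lit 0) [nat_lit 3, nat_lit 1, nat_lit 3], .rel (nat_lit 22) (nat_lit 2) [nat_lit 3, nat_lit 1, nat_lit 3]],
  [.rel (nat_lit 4) (nat_lit 0) [nat_lit 2], .defn, .rel (nat_lit 26) (nat_lit 3) [nat_lit 0, nat_lit 2, nat_lit 0], .rel (nat_lit 18) (nat_lit 0) [nat_lit 3, nat_lit 2, nat_lit 3], .rel (nat_lit 20) (nat_lit 3) [nat_lit 1, nat_lit 2, nat_lit 1]],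
  [.rel (nat_lit 6) (nat_lit 0) [nat_lit 3], .defn]]
noncomputable def c4 : TCert := ⟨16, 4, 15, T4, I4, D4, [], RL4⟩
noncomputable def Pt4d : ℕ := nat_lit 0xb28e86aeafa4d9091924
noncomputable def Pt4 (u : ℕ) : ℕ := Nat.land (Nat.shiftRight Pt4d (Nat.mul u (nat_lit 5))) (nat_lit 31)
noncomputable def Q4d : ℕ := nat_lit 0xf97630480b5ae1cd2000000
noncomputable def Q4 (u : ℕ) : ℕ := Nat.land (Nat.shiftRight Q4d (Nat.mul u (nat_lit 4))) (nat_lit 15)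
noncomputable def l4 : H16.Lev := ⟨16, 4, D4, Pt4, Q4⟩
noncomputable def B : List ℕ := [nat_lit 1, nat_lit 2, nat_lit 3, nat_lit 5, nat_lit 4]
noncomputable def L : List H16.Lev := [l0, l1, l2, l3, l4]
noncomputable def Cs : List ℕ := [nat_lit 0xba91094e346b9e63d8955b0a918820, nat_lit 0xb9e086be3593a6952d94b10a618820, nat_lit 0xba1474922b3398d85676a3cb218820, nat_lit 0xbb4c93ae2453ac893e8c9d4b018820, nat_lit 0xbd58a410b37c4f66a6905c9c618820, nat_lit 0xbb2c9819c8795753d1536923218820, nat_lit 0xbc654656c5790733a9265a20e68820, nat_lit 0xba54c410b07b8f45d6d369a3210c20, nat_lit 0xbacea991c87c58db5130a98b218440]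

theorem tc0e_a : allZ2 (entryChk T0 (selR RL0 I0) D0 (nat_lit 31) (nat_lit 22) (nat_lit 9)) (nat_lit 9) (nat_lit 22) = true := by decide +kernel
theorem tc0r : rulesChk Rl c0.Sl RL0 (nat_lit 9) = true := by decide +kernel
theorem ivc : ivChk Rl (nat_lit 9) = true := by decide +kernel
theorem lv0e_0 : allZ (l0.ent P) (nat_lit 0) (nat_lit 21) = true := by decide +kernel
theorem lv0b : Nat.blt (Pt0 (nat_lit 0)) (nat_lit 24) = true ∧ Q0 (Pt0 (nat_lit 0)) = 0 ∧ Pt0 (nat_lit 0) = 1 := by decide +kernel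
theorem sb0 : H16.allL (ltAll (nat_lit 8)) c0.Sl = true ∧ fixLetters P (nat_lit 8) (Pt0 (nat_lit 0)) = true := by decide +kernel
theorem tc1e_a : allZ2 (entryChk T1 (selR RL1 I1) D1 (nat_lit 31) (nat_lit 21) (nat_lit 8)) (nat_lit 8) (nat_lit 21) = true := by decide +kernel
theorem tc1r : rulesChk Rl c1.Sl RL1 (nat_lit 8) = true := by decide +kernel
theorem lv1e_0 : allZ (l1.ent P) (nat_lit 0) (nat_lit 20) = true := by decide +kernel
theorem lv1b : Nat.blt (Pt1 (nat_lit 0)) (nat_lit 24) = true ∧ Q1 (Pt1 (nat_lit 0)) = 0 ∧ Pt1 (nat_lit 0) = 2 := by decide +kernel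
theorem sb1 : H16.allL (ltAll (nat_lit 7)) c1.Sl = true ∧ fixLetters P (nat_lit 7) (Pt1 (nat_lit 0)) = true := by decide +kernel
theorem tc2e_a : allZ2 (entryChk T2 (selR RL2 I2) D2 (nat_lit 31) (nat_lit 20) (nat_lit 7)) (nat_lit 7) (nat_lit 20) = true := by decide +kernel
theorem tc2r : rulesChk Rl c2.Sl RL2 (nat_lit 7) = true := by decide +kernel
theorem lv2e_0 : allZ (l2.ent P) (nat_lit 0) (nat_lit 19) = true := by decide +kernel
theorem lv2b : Nat.blt (Pt2 (nat_lit 0)) (nat_lit 24) = true ∧ Q2 (Pt2 (nat_lit 0)) = 0 ∧ Pt2 (nat_lit 0) = 3 := by decide +kernel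
theorem sb2 : H16.allL (ltAll (nat_lit 6)) c2.Sl = true ∧ fixLetters P (nat_lit 6) (Pt2 (nat_lit 0)) = true := by decide +kernel
theorem tc3e_a : allZ2 (entryChk T3 (selR RL3 I3) D3 (nat_lit 3) (nat_lit 3) (nat_lit 6)) (nat_lit 6) (nat_lit 3) = true := by decide +kernel
theorem tc3r : rulesChk Rl c3.Sl RL3 (nat_lit 6) = true := by decide +kernel
theorem lv3e_0 : allZ (l3.ent P) (nat_lit 0) (nat_lit 2) = true := by decide +kernel
theorem lv3b : Nat.blt (Pt3 (nat_lit 0)) (nat_lit 24) = true ∧ Q3 (Pt3 (nat_lit 0)) = 0 ∧ Pt3 (nat_lit 0) = 5 := by decide +kernel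
theorem sb3 : H16.allL (ltAll (nat_lit 4)) c3.Sl = true ∧ fixLetters P (nat_lit 4) (Pt3 (nat_lit 0)) = true := by decide +kernel
theorem tc4e_a : allZ2 (entryChk T4 (selR RL4 I4) D4 (nat_lit 15) (nat_lit 16) (nat_lit 4)) (nat_lit 4) (nat_lit 16) = true := by decide +kernel
theorem tc4r : rulesChk Rl c4.Sl RL4 (nat_lit 4) = true := by decide +kernel
theorem lv4e_0 : allZ (l4.ent P) (nat_lit 0) (nat_lit 15) = true := by decide +kernel
theorem lv4b : Nat.blt (Pt4 (nat_lit 0)) (nat_lit 24) = true ∧ Q4 (Pt4 (nat_lit 0)) = 0 ∧ Pt4 (nat_lit 0) = 4 := by decide +kernel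
theorem sb4 : H16.allL (ltAll (nat_lit 0)) c4.Sl = true ∧ fixLetters P (nat_lit 0) (Pt4 (nat_lit 0)) = true := by decide +kernel
theorem Blt : ltAll (nat_lit 24) B = 0 := by decide +kernel
theorem ivk : ivLt Rl (nat_lit 9) = true := by decide +kernel
theorem csc : ∀ k < 9, isM (nth 0 Cs k) = true ∧ (∀ i < 24, ap (nth 0 Cs k) i = P k i) ∧ P k 23 = 23 ∧ P k 0 = 0 := by decide +kernel
theorem rf : H16.allL (fixRange P (nat_lit 9) (nat_lit 0) (nat_lit 24)) Rl = true := by decide +kernel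

theorem tc0e : ∀ k < 9, ∀ i < 22, (entryChk T0 (selR RL0 I0) D0 (nat_lit 31) (nat_lit 22) (nat_lit 9)) k i = 0 := allZ2_sound tc0e_a
theorem tc0 : c0.OK Rl 9 := ⟨by decide, by decide, by decide, ivc, tc0r, tc0e⟩
theorem lv0e : ∀ i < 21, (l0.ent P) i = 0 := allZ_sound0 lv0e_0
theorem lv0 : l0.OK P 24 := ⟨by decide, by decide, lt_of_blt lv0b.1, lv0b.2.1, lv0e⟩
theorem tc1e : ∀ k < 8, ∀ i < 21, (entryChk T1 (selR RL1 I1) D1 (nat_lit 31) (nat_lit 21) (nat_lit 8)) k i = 0 := allZ2_sound tc1e_a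
theorem tc1 : c1.OK Rl 9 := ⟨by decide, by decide, by decide, ivc, tc1r, tc1e⟩
theorem lv1e : ∀ i < 20, (l1.ent P) i = 0 := allZ_sound0 lv1e_0
theorem lv1 : l1.OK P 24 := ⟨by decide, by decide, lt_of_blt lv1b.1, lv1b.2.1, lv1e⟩
theorem tc2e : ∀ k < 7, ∀ i < 20, (entryChk T2 (selR RL2 I2) D2 (nat_lit 31) (nat_lit 20) (nat_lit 7)) k i = 0 := allZ2_sound tc2e_a
theorem tc2 : c2.OK Rl 9 := ⟨by decide, by decide, by decide, ivc, tc2r, tc2e⟩
theorem lv2e : ∀ i < 19, (l2.ent P) i = 0 := allZ_sound0 lv2e_0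
theorem lv2 : l2.OK P 24 := ⟨by decide, by decide, lt_of_blt lv2b.1, lv2b.2.1, lv2e⟩
theorem tc3e : ∀ k < 6, ∀ i < 3, (entryChk T3 (selR RL3 I3) D3 (nat_lit 3) (nat_lit 3) (nat_lit 6)) k i = 0 := allZ2_sound tc3e_a
theorem tc3 : c3.OK Rl 9 := ⟨by decide, by decide, by decide, ivc, tc3r, tc3e⟩
theorem lv3e : ∀ i < 2, (l3.ent P) i = 0 := allZ_sound0 lv3e_0
theorem lv3 : l3.OK P 24 := ⟨by decide, by decide, lt_of_blt lv3b.1, lv3b.2.1, lv3e⟩
theorem tc4e : ∀ k < 4, ∀ i < 16, (entryChk T4 (selR RL4 I4) D4 (nat_lit 15) (nat_lit 16) (nat_lit 4)) k i = 0 := allZ2_sound tc4e_a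
theorem tc4 : c4.OK Rl 9 := ⟨by decide, by decide, by decide, ivc, tc4r, tc4e⟩
theorem lv4e : ∀ i < 15, (l4.ent P) i = 0 := allZ_sound0 lv4e_0
theorem lv4 : l4.OK P 24 := ⟨by decide, by decide, lt_of_blt lv4b.1, lv4b.2.1, lv4e⟩
theorem bound4 : Bound Rl 4 16 := Bound.step' (Bound.zero Rl) tc4 sb4.1 (by decide +kernel)
theorem bound3 : Bound Rl 6 48 := Bound.step' (bound4) tc3 sb3.1 (by decide +kernel)
theorem bound2 : Bound Rl 7 960 := Bound.step' (bound3) tc2 sb2.1 (by decide +kernel)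
theorem bound1 : Bound Rl 8 20160 := Bound.step' (bound2) tc1 sb1.1 (by decide +kernel)
theorem bound0 : Bound Rl 9 443520 := Bound.step' (bound1) tc0 sb0.1 (by decide +kernel)
/-- every tuple satisfying `Rl` generates a group of order at most `443520` -/
theorem bound : Bound Rl 9 443520 := bound0
theorem chain_of {G Ω : Type*} [Group G] [MulAction G Ω] {g : ℕ → G} {pt : ℕ → Ω}
    (h : Act g pt P 24 9) (hR : Rels g Rl) : IsChain g pt 24 L :=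
  IsChain.cons (L := [l1, l2, l3, l4]) (IsChain.cons (L := [l2, l3, l4]) (IsChain.cons (L := [l3, l4]) (IsChain.cons (L := [l4]) (IsChain.cons (L := []) (trivial) h hR tc4 lv4 rfl rfl rfl (by decide) sb4.1 sb4.2) h hR tc3 lv3 rfl rfl rfl (by decide) sb3.1 sb3.2) h hR tc2 lv2 rfl rfl rfl (by decide) sb2.1 sb2.2) h hR tc1 lv1 rfl rfl rfl (by decide) sb1.1 sb1.2) h hR tc0 lv0 rfl rfl rfl (by decide) sb0.1 sb0.2
theorem base_eq : chainBase L = B := by decide +kernel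
/-- the letters -/
noncomputable def g (k : ℕ) : Equiv.Perm Cfsg.GolayPt := H15.P (nth 0 Cs k)
theorem act : Act g pt P 24 9 := fun k hk i hi => (csc k hk).2.1 i hi ▸ isM_rep (csc k hk).1 i hi
theorem inj : PtInj pt 24 := fun _ hi _ hj e => pt_inj hi hj e
theorem rels : Rels g Rl := rels_of_all act (fun a _ h => Equiv.ext fun p => by
  obtain ⟨i, hi, rfl⟩ := exists_pt p
  exact h i hi) (FixUpTo.first rf)
theorem chain : IsChain g pt 24 L := chain_of act rels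
theorem card : Nat.card (gen g 9) = 443520 := chain.card' inj (by decide +kernel)
theorem isBase : IsBase (gen g 9) pt B := base_eq ▸ chain.isBase inj
theorem gen_eq : gen g 9 = Cfsg.Spor.M22 :=
  Subgroup.eq_of_le_of_card_ge (gen_le.2 fun k hk => mem_M22.2 ⟨⟨isM_mem (csc k hk).1, (act k hk 23 (by norm_num)).2.trans (congrArg pt (csc k hk).2.2.1)⟩, (act k hk 0 (by norm_num)).2.trans (congrArg pt (csc k hk).2.2.2)⟩) (card_M22.trans card.symm).le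

end H15.MM22
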