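import Cfsg.Agent.H15.Mathieu
import Cfsg.Agent.H16.Facts

/-! Generated by tools/h16 and py/gen_models.py. -/

set_option maxRecDepth 100000
set_option maxHeartbeats 0

namespace H15.MM11

open H16
open scoped Pointwise

noncomputable def Rl : List (List ℕ) := [[nat_lit 0, nat_lit 1],
  [nat_lit 1, nat_lit 0],
  [nat_lit 2, nat_lit 3],
  [nat_lit 3, nat_lit 2],
  [nat_lit 4, nat_lit 4],
  [nat_lit 5, nat_lit 5],
  [nat_lit 6, nat_lit 6],
  [nat_lit 0, nat_lit 0, nat_lit 2, nat_lit 2],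
  [nat_lit 0, nat_lit 2, nat_lit 0, nat_lit 3],
  [nat_lit 0, nat_lit 2, nat_lit 4, nat_lit 1, nat_lit 4, nat_lit 3, nat_lit 4],
  [nat_lit 0, nat_lit 2, nat_lit 5, nat_lit 3, nat_lit 5, nat_lit 0, nat_lit 5],
  [nat_lit 0, nat_lit 4, nat_lit 5, nat_lit 1, nat_lit 4, nat_lit 2, nat_lit 5],
  [nat_lit 4, nat_lit 6, nat_lit 4, nat_lit 6],
  [nat_lit 0, nat_lit 2, nat_lit 6, nat_lit 0, nat_lit 6, nat_lit 2, nat_lit 6],
  [nat_lit 0, nat_lit 5, nat_lit 2, nat_lit 6, nat_lit 5, nat_lit 3, nat_lit 6]]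
noncomputable def Pd : List ℕ := [nat_lit 0x2bd47b11c65c5929d209aa2ed18820,
  nat_lit 0x2ccea5b1c9b448d7d506a42f218820,
  nat_lit 0x89df3ac2eda150655992591c918820,
  nat_lit 0x8aa6fa22f2a96093ac8db31c618820,
  nat_lit 0x5daae7b0e39d132ba9a8890a680820,
  nat_lit 0xbc4b49a2c673d2259db2542a41b020,
  nat_lit 0xa5ab7792309ad26715a13b15218900]
noncomputable def P (k u : ℕ) : ℕ := Nat.land (Nat.shiftRight (nth (nat_lit 0) Pd k) (Nat.mul u (nat_lit 5))) (nat_lit 31)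
noncomputable def T0d : List ℕ := [nat_lit 0x1a853656248def58b8e1b0580,
  nat_lit 0x168334472dcab0b78b5c70780,
  nat_lit 0x228737271c16e3169c61f0980,
  nat_lit 0x2689343b94122d716be230b80,
  nat_lit 0x12aec53426248477340d6c380,
  nat_lit 0x5dc12f8c52cea4a1635952980,
  nat_lit 0x1e9f34441c19a5583bb96e181]
noncomputable def T0 (k u : ℕ) : ℕ := Nat.land (Nat.shiftRight (nth (nat_lit 0) T0d k) (Nat.mul u (nat_lit 9))) (nat_lit 511)
noncomputable def I0d : List ℕ := [nat_lit 0x87115642003,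
  nat_lit 0x21,
  nat_lit 0x40030112,
  nat_lit 0x54200200113,
  nat_lit 0x10013406052,
  nat_lit 0x5430061102,
  nat_lit 0x24051010203]
noncomputable def I0 (k u : ℕ) : ℕ := Nat.land (Nat.shiftRight (nth (nat_lit 0) I0d k) (Nat.mul u (nat_lit 4))) (nat_lit 15)
noncomputable def D0d : ℕ := nat_lit 0x36b9140e289207180
noncomputable def D0 (u : ℕ) : ℕ := Nat.land (Nat.shiftRight D0d (Nat.mul u (nat_lit 6))) (nat_lit 63)
noncomputable def RL0 : List (List Rule) := [[.defn, .rel (nat_lit 16) (nat_lit 0) [nat_lit 2, nat_lit 0, nat_lit 3], .rel (nat_lit 0) (nat_lit 0) [nat_lit 1], .sub (nat_lit 0) [] [], .rel (nat_lit 14) (nat_lit 0) [nat_lit 0, nat_lit 2, nat_lit 2], .rel (nat_lit 14) (nat_lit 1) [nat_lit 2, nat_lit 2, nat_lit 0], .rel (nat_lit 16) (nat_lit 2) [nat_lit 3, nat_lit 0, nat_lit 2], .rel (nat_lit 18) (nat_lit 0) [nat_lit 2, nat_lit 4, nat_lit 1, nat_lit 4, nat_lit 3, nat_lit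 4], .rel (nat_lit 28) (nat_lit 0) [nat_lit 5, nat_lit 2, nat_lit 6, nat_lit 5, nat_lit 3, nat_lit 6]],
  [.rel (nat_lit 2) (nat_lit 0) [nat_lit 0], .sub (nat_lit 2) [] [], .defn],
  [.rel (nat_lit 4) (nat_lit 0) [nat_lit 3], .defn, .sub (nat_lit 4) [] [], .rel (nat_lit 14) (nat_lit 3) [nat_lit 0, nat_lit 0, nat_lit 2], .rel (nat_lit 16) (nat_lit 1) [nat_lit 0, nat_lit 3, nat_lit 0]],
  [.rel (nat_lit 6) (nat_lit 0) [nat_lit 2], .defn, .rel (nat_lit 16) (nat_lit 3) [nat_lit 0, nat_lit 2, nat_lit 0], .sub (nat_lit 6) [] [], .rel (nat_lit 18) (nat_lit 5) [nat_lit 4, nat_lit 0, nat_lit 2, nat_lit 4, nat_lit 1, nat_lit 4], .rel (nat_lit 20) (nat_lit 3) [nat_lit 5, nat_lit 0, nat_lit 5, nat_lit 0, nat_lit 2, nat_lit 5]],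
  [.rel (nat_lit 8) (nat_lit 0) [nat_lit 4], .rel (nat_lit 22) (nat_lit 4) [nat_lit 2, nat_lit 5, nat_lit 0, nat_lit 4, nat_lit 5, nat_lit 1], .sub (nat_lit 8) [] [], .defn, .rel (nat_lit 22) (nat_lit 1) [nat_lit 5, nat_lit 1, nat_lit 4, nat_lit 2, nat_lit 5, nat_lit 0], .rel (nat_lit 24) (nat_lit 0) [nat_lit 6, nat_lit 4, nat_lit 6], .rel (nat_lit 24) (nat_lit 2) [nat_lit 6, nat_lit 4, nat_lit 6]],
  [.rel (nat_lit 10) (nat_lit 0) [nat_lit 5], .rel (nat_lit 28) (nat_lit 1) [nat_lit 2, nat_lit 6, nat_lit 5, nat_lit 3, nat_lit 6, nat_lit 0], .sub (nat_lit 10) [] [], .defn, .rel (nat_lit 20) (nat_lit 4) [nat_lit 0, nat_lit 5, nat_lit 0, nat_lit 2, nat_lit 5, nat_lit 3], .rel (nat_lit 22) (nat_lit 2) [nat_lit 1, nat_lit 4, nat_lit 2, nat_lit 5, nat_lit 0, nat_lit 4], .rel (nat_lit 28) (nat_lit 4) [nat_lit 3, nat_lit 6, nat_lit 0, nat_lit 5, nat_lit 2, nat_lit 6]],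
  [.rel (nat_lit 12) (nat_lit 0) [nat_lit 6], .rel (nat_lit 26) (nat_lit 6) [nat_lit 0, nat_lit 2, nat_lit 6, nat_lit 0, nat_lit 6, nat_lit 2], .rel (nat_lit 28) (nat_lit 3) [nat_lit 5, nat_lit 3, nat_lit 6, nat_lit 0, nat_lit 5, nat_lit 2], .defn, .rel (nat_lit 24) (nat_lit 3) [nat_lit 4, nat_lit 6, nat_lit 4], .rel (nat_lit 28) (nat_lit 6) [nat_lit 0, nat_lit 5, nat_lit 2, nat_lit 6, nat_lit 5, nat_lit 3]]]
noncomputable def c0 : TCert := ⟨11, 7, 15, T0, I0, D0, [[nat_lit 0],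
  [nat_lit 1],
  [nat_lit 2],
  [nat_lit 3],
  [nat_lit 4],
  [nat_lit 5]], RL0⟩
noncomputable def Pt0d : ℕ := nat_lit 0x864641b232501
noncomputable def Pt0 (u : ℕ) : ℕ := Nat.land (Nat.shiftRight Pt0d (Nat.mul u (nat_lit 5))) (nat_lit 31)
noncomputable def Q0d : ℕ := nat_lit 0x4060057002103089a00
noncomputable def Q0 (u : ℕ) : ℕ := Nat.land (Nat.shiftRight Q0d (Nat.mul u (nat_lit 4))) (nat_lit 15)
noncomputable def l0 : H16.Lev := ⟨11, 7, D0, Pt0, Q0⟩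
noncomputable def T1d : List ℕ := [nat_lit 0x53153a34d4f0890cda6530,
  nat_lit 0x32f44ac8a1067634866730,
  nat_lit 0x732249ad642c6744de6930,
  nat_lit 0x92f3912d18d2143ce26b30,
  nat_lit 0x24ef89c95086661ac460530,
  nat_lit 0x12f27231846d70ac224131]
noncomputable def T1 (k u : ℕ) : ℕ := Nat.land (Nat.shiftRight (nth (nat_lit 0) T1d k) (Nat.mul u (nat_lit 9))) (nat_lit 511)
noncomputable def I1d : List ℕ := [nat_lit 0x39374403,
  nat_lit 0x11,
  nat_lit 0x80304a,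
  nat_lit 0x2201004b,
  nat_lit 0x4629042,
  nat_lit 0x10850043]
noncomputable def I1 (k u : ℕ) : ℕ := Nat.land (Nat.shiftRight (nth (nat_lit 0) I1d k) (Nat.mul u (nat_lit 3))) (nat_lit 7)
noncomputable def D1d : ℕ := nat_lit 0xb8f38c2481c6140
noncomputable def D1 (u : ℕ) : ℕ := Nat.land (Nat.shiftRight D1d (Nat.mul u (nat_lit 6))) (nat_lit 63)
noncomputable def RL1 : List (List Rule) := [[.defn, .rel (nat_lit 16) (nat_lit 0) [nat_lit 2, nat_lit 0, nat_lit 3], .rel (nat_lit 0) (nat_lit 0) [nat_lit 1], .sub (nat_lit 0) [] [], .rel (nat_lit 14) (nat_lit 0) [nat_lit 0, nat_lit 2, nat_lit 2], .rel (nat_lit 14) (nat_lit 1) [nat_lit 2, nat_lit 2, nat_lit 0], .rel (nat_lit 16) (nat_lit 2) [nat_lit 3, nat_lit 0, nat_lit 2], .rel (nat_lit 18) (nat_lit 0) [nat_lit 2, nat_lit 4, nat_lit 1, nat_lit 4, nat_lit 3, nat_lit 4]],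
  [.rel (nat_lit 2) (nat_lit 0) [nat_lit 0], .sub (nat_lit 2) [] [], .defn],
  [.rel (nat_lit 4) (nat_lit 0) [nat_lit 3], .defn, .sub (nat_lit 4) [] [], .rel (nat_lit 14) (nat_lit 3) [nat_lit 0, nat_lit 0, nat_lit 2], .rel (nat_lit 16) (nat_lit 1) [nat_lit 0, nat_lit 3, nat_lit 0]],
  [.rel (nat_lit 6) (nat_lit 0) [nat_lit 2], .defn, .rel (nat_lit 16) (nat_lit 3) [nat_lit 0, nat_lit 2, nat_lit 0], .sub (nat_lit 6) [] [], .rel (nat_lit 18) (nat_lit 5) [nat_lit 4, nat_lit 0, nat_lit 2, nat_lit 4, nat_lit 1, nat_lit 4]],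
  [.rel (nat_lit 8) (nat_lit 0) [nat_lit 4], .rel (nat_lit 22) (nat_lit 1) [nat_lit 5, nat_lit 1, nat_lit 4, nat_lit 2, nat_lit 5, nat_lit 0], .sub (nat_lit 8) [] [], .defn, .rel (nat_lit 18) (nat_lit 6) [nat_lit 0, nat_lit 2, nat_lit 4, nat_lit 1, nat_lit 4, nat_lit 3], .rel (nat_lit 22) (nat_lit 4) [nat_lit 2, nat_lit 5, nat_lit 0, nat_lit 4, nat_lit 5, nat_lit 1]],
  [.rel (nat_lit 10) (nat_lit 0) [nat_lit 5], .rel (nat_lit 20) (nat_lit 6) [nat_lit 0, nat_lit 2, nat_lit 5, nat_lit 3, nat_lit 5, nat_lit 0], .rel (nat_lit 22) (nat_lit 2) [nat_lit 1, nat_lit 4, nat_lit 2, nat_lit 5, nat_lit 0, nat_lit 4], .defn, .rel (nat_lit 22) (nat_lit 6) [nat_lit 0, nat_lit 4, nat_lit 5, nat_lit 1, nat_lit 4, nat_lit 2]]]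
noncomputable def c1 : TCert := ⟨10, 6, 15, T1, I1, D1, [[nat_lit 0],
  [nat_lit 1],
  [nat_lit 2],
  [nat_lit 3],
  [nat_lit 4]], RL1⟩
noncomputable def Pt1d : ℕ := nat_lit 0x68811266c982
noncomputable def Pt1 (u : ℕ) : ℕ := Nat.land (Nat.shiftRight Pt1d (Nat.mul u (nat_lit 5))) (nat_lit 31)
noncomputable def Q1d : ℕ := nat_lit 0x2070031005804069000
noncomputable def Q1 (u : ℕ) : ℕ := Nat.land (Nat.shiftRight Q1d (Nat.mul u (nat_lit 4))) (nat_lit 15)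
noncomputable def l1 : H16.Lev := ⟨10, 6, D1, Pt1, Q1⟩
noncomputable def T2d : List ℕ := [nat_lit 0xb5147347a8c1d6d2d0,
  nat_lit 0x9435c2a80766c1d3d0,
  nat_lit 0xc23355c16688d7d4d0,
  nat_lit 0x93c25466c127d8d5d0,
  nat_lit 0x95b256a81324a7c0d1]
noncomputable def T2 (k u : ℕ) : ℕ := Nat.land (Nat.shiftRight (nth (nat_lit 0) T2d k) (Nat.mul u (nat_lit 8))) (nat_lit 255)
noncomputable def I2d : List ℕ := [nat_lit 0x1374403,
  nat_lit 0x11,
  nat_lit 0x80304a,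
  nat_lit 0x201004b,
  nat_lit 0x648202]
noncomputable def I2 (k u : ℕ) : ℕ := Nat.land (Nat.shiftRight (nth (nat_lit 0) I2d k) (Nat.mul u (nat_lit 3))) (nat_lit 7)
noncomputable def D2d : ℕ := nat_lit 0xdca876540
noncomputable def D2 (u : ℕ) : ℕ := Nat.land (Nat.shiftRight D2d (Nat.mul u (nat_lit 4))) (nat_lit 15)
noncomputable def RL2 : List (List Rule) := [[.defn, .rel (nat_lit 16) (nat_lit 0) [nat_lit 2, nat_lit 0, nat_lit 3], .rel (nat_lit 0) (nat_lit 0) [nat_lit 1], .sub (nat_lit 0) [] [], .rel (nat_lit 14) (nat_lit 0) [nat_lit 0, nat_lit 2, nat_lit 2], .rel (nat_lit 14) (nat_lit 1) [nat_lit 2, nat_lit 2, nat_lit 0], .rel (nat_lit 16) (nat_lit 2) [nat_lit 3, nat_lit 0, nat_lit 2]],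
  [.rel (nat_lit 2) (nat_lit 0) [nat_lit 0], .sub (nat_lit 2) [] [], .defn],
  [.rel (nat_lit 4) (nat_lit 0) [nat_lit 3], .defn, .sub (nat_lit 4) [] [], .rel (nat_lit 14) (nat_lit 3) [nat_lit 0, nat_lit 0, nat_lit 2], .rel (nat_lit 16) (nat_lit 1) [nat_lit 0, nat_lit 3, nat_lit 0]],
  [.rel (nat_lit 6) (nat_lit 0) [nat_lit 2], .defn, .rel (nat_lit 16) (nat_lit 3) [nat_lit 0, nat_lit 2, nat_lit 0], .sub (nat_lit 6) [] []],
  [.rel (nat_lit 8) (nat_lit 0) [nat_lit 4], .rel (nat_lit 18) (nat_lit 6) [nat_lit 0, nat_lit 2, nat_lit 4, nat_lit 1, nat_lit 4, nat_lit 3], .defn, .rel (nat_lit 18) (nat_lit 2) [nat_lit 1, nat_lit 4, nat_lit 3, nat_lit 4, nat_lit 0, nat_lit 2]]]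
noncomputable def c2 : TCert := ⟨9, 5, 15, T2, I2, D2, [[nat_lit 0],
  [nat_lit 1],
  [nat_lit 2],
  [nat_lit 3]], RL2⟩
noncomputable def Pt2d : ℕ := nat_lit 0xc2224d49a03
noncomputable def Pt2 (u : ℕ) : ℕ := Nat.land (Nat.shiftRight Pt2d (Nat.mul u (nat_lit 5))) (nat_lit 31)
noncomputable def Q2d : ℕ := nat_lit 0x5010048003602070000
noncomputable def Q2 (u : ℕ) : ℕ := Nat.land (Nat.shiftRight Q2d (Nat.mul u (nat_lit 4))) (nat_lit 15)
noncomputable def l2 : H16.Lev := ⟨9, 5, D2, Pt2, Q2⟩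
noncomputable def T3d : List ℕ := [nat_lit 0xb82dd26af836e9,
  nat_lit 0x96730d70cd706a,
  nat_lit 0xc2696606b1f76b,
  nat_lit 0x95855b5c05b7ec]
noncomputable def T3 (k u : ℕ) : ℕ := Nat.land (Nat.shiftRight (nth (nat_lit 0) T3d k) (Nat.mul u (nat_lit 7))) (nat_lit 127)
noncomputable def I3d : List ℕ := [nat_lit 0x265680,
  nat_lit 1,
  nat_lit 0xc0409,
  nat_lit 0x402009]
noncomputable def I3 (k u : ℕ) : ℕ := Nat.land (Nat.shiftRight (nth (nat_lit 0) I3d k) (Nat.mul u (nat_lit 3))) (nat_lit 7)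
noncomputable def D3d : ℕ := nat_lit 0xfa3440
noncomputable def D3 (u : ℕ) : ℕ := Nat.land (Nat.shiftRight D3d (Nat.mul u (nat_lit 3))) (nat_lit 7)
noncomputable def RL3 : List (List Rule) := [[.defn, .rel (nat_lit 16) (nat_lit 0) [nat_lit 2, nat_lit 0, nat_lit 3], .rel (nat_lit 0) (nat_lit 0) [nat_lit 1], .rel (nat_lit 14) (nat_lit 0) [nat_lit 0, nat_lit 2, nat_lit 2], .rel (nat_lit 14) (nat_lit 1) [nat_lit 2, nat_lit 2, nat_lit 0], .rel (nat_lit 16) (nat_lit 2) [nat_lit 3, nat_lit 0, nat_lit 2]],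
  [.rel (nat_lit 2) (nat_lit 0) [nat_lit 0], .defn],
  [.rel (nat_lit 4) (nat_lit 0) [nat_lit 3], .defn, .rel (nat_lit 14) (nat_lit 3) [nat_lit 0, nat_lit 0, nat_lit 2], .rel (nat_lit 16) (nat_lit 1) [nat_lit 0, nat_lit 3, nat_lit 0]],
  [.rel (nat_lit 6) (nat_lit 0) [nat_lit 2], .defn, .rel (nat_lit 16) (nat_lit 3) [nat_lit 0, nat_lit 2, nat_lit 0]]]
noncomputable def c3 : TCert := ⟨8, 4, 7, T3, I3, D3, [], RL3⟩
noncomputable def Pt3d : ℕ := nat_lit 0x821864c9a4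
noncomputable def Pt3 (u : ℕ) : ℕ := Nat.land (Nat.shiftRight Pt3d (Nat.mul u (nat_lit 5))) (nat_lit 31)
noncomputable def Q3d : ℕ := nat_lit 0x8700d01e100000
noncomputable def Q3 (u : ℕ) : ℕ := Nat.land (Nat.shiftRight Q3d (Nat.mul u (nat_lit 3))) (nat_lit 7)
noncomputable def l3 : H16.Lev := ⟨8, 4, D3, Pt3, Q3⟩
noncomputable def B : List ℕ := [nat_lit 1, nat_lit 2, nat_lit 3, nat_lit 4]
noncomputable def L : List H16.Lev := [l0, l1, l2, l3]
noncomputable def Cs : List ℕ := [nat_lit 0x2bd47b11c65c5929d209aa2ed18820, nat_lit 0x2ccea5b1c9b448d7d506a42f218820, nat_lit 0x89df3ac2eda150655992591c918820, nat_lit 0x8aa6fa22f2a96093ac8db31c618820, nat_lit 0x5daae7b0e39d132ba9a8890a680820, nat_lit 0xbc4b49a2c673d2259db2542a41b020, nat_lit 0xa5ab7792309ad26715a13b15218900]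

theorem tc0e_a : allZ2 (entryChk T0 (selR RL0 I0) D0 (nat_lit 15) (nat_lit 11) (nat_lit 7)) (nat_lit 7) (nat_lit 11) = true := by decide +kernel
theorem tc0r : rulesChk Rl c0.Sl RL0 (nat_lit 7) = true := by decide +kernel
theorem ivc : ivChk Rl (nat_lit 7) = true := by decide +kernel
theorem lv0e_0 : allZ (l0.ent P) (nat_lit 0) (nat_lit 10) = true := by decide +kernel
theorem lv0b : Nat.blt (Pt0 (nat_lit 0)) (nat_lit 24) = true ∧ Q0 (Pt0 (nat_lit 0)) = 0 ∧ Pt0 (nat_lit 0) = 1 := by decide +kernel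
theorem sb0 : H16.allL (ltAll (nat_lit 6)) c0.Sl = true ∧ fixLetters P (nat_lit 6) (Pt0 (nat_lit 0)) = true := by decide +kernel
theorem tc1e_a : allZ2 (entryChk T1 (selR RL1 I1) D1 (nat_lit 15) (nat_lit 10) (nat_lit 6)) (nat_lit 6) (nat_lit 10) = true := by decide +kernel
theorem tc1r : rulesChk Rl c1.Sl RL1 (nat_lit 6) = true := by decide +kernel
theorem lv1e_0 : allZ (l1.ent P) (nat_lit 0) (nat_lit 9) = true := by decide +kernel
theorem lv1b : Nat.blt (Pt1 (nat_lit 0)) (nat_lit 24) = true ∧ Q1 (Pt1 (nat_lit 0)) = 0 ∧ Pt1 (nat_lit 0) = 2 := by decide +kernel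
theorem sb1 : H16.allL (ltAll (nat_lit 5)) c1.Sl = true ∧ fixLetters P (nat_lit 5) (Pt1 (nat_lit 0)) = true := by decide +kernel
theorem tc2e_a : allZ2 (entryChk T2 (selR RL2 I2) D2 (nat_lit 15) (nat_lit 9) (nat_lit 5)) (nat_lit 5) (nat_lit 9) = true := by decide +kernel
theorem tc2r : rulesChk Rl c2.Sl RL2 (nat_lit 5) = true := by decide +kernel
theorem lv2e_0 : allZ (l2.ent P) (nat_lit 0) (nat_lit 8) = true := by decide +kernel
theorem lv2b : Nat.blt (Pt2 (nat_lit 0)) (nat_lit 24) = true ∧ Q2 (Pt2 (nat_lit 0)) = 0 ∧ Pt2 (nat_lit 0) = 3 := by decide +kernel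
theorem sb2 : H16.allL (ltAll (nat_lit 4)) c2.Sl = true ∧ fixLetters P (nat_lit 4) (Pt2 (nat_lit 0)) = true := by decide +kernel
theorem tc3e_a : allZ2 (entryChk T3 (selR RL3 I3) D3 (nat_lit 7) (nat_lit 8) (nat_lit 4)) (nat_lit 4) (nat_lit 8) = true := by decide +kernel
theorem tc3r : rulesChk Rl c3.Sl RL3 (nat_lit 4) = true := by decide +kernel
theorem lv3e_0 : allZ (l3.ent P) (nat_lit 0) (nat_lit 7) = true := by decide +kernel
theorem lv3b : Nat.blt (Pt3 (nat_lit 0)) (nat_lit 24) = true ∧ Q3 (Pt3 (nat_lit 0)) = 0 ∧ Pt3 (nat_lit 0) = 4 := by decide +kernel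
theorem sb3 : H16.allL (ltAll (nat_lit 0)) c3.Sl = true ∧ fixLetters P (nat_lit 0) (Pt3 (nat_lit 0)) = true := by decide +kernel
theorem Blt : ltAll (nat_lit 24) B = 0 := by decide +kernel
theorem ivk : ivLt Rl (nat_lit 7) = true := by decide +kernel
theorem csc : ∀ k < 7, isM (nth 0 Cs k) = true ∧ (∀ i < 24, ap (nth 0 Cs k) i = P k i) ∧ H15.act (nth 0 Cs k) 340831 = 340831 ∧ P k 0 = 0 := by decide +kernel
theorem rf : H16.allL (fixRange P (nat_lit 7) (nat_lit 0) (nat_lit 24)) Rl = true := by decide +kernel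

theorem tc0e : ∀ k < 7, ∀ i < 11, (entryChk T0 (selR RL0 I0) D0 (nat_lit 15) (nat_lit 11) (nat_lit 7)) k i = 0 := allZ2_sound tc0e_a
theorem tc0 : c0.OK Rl 7 := ⟨by decide, by decide, by decide, ivc, tc0r, tc0e⟩
theorem lv0e : ∀ i < 10, (l0.ent P) i = 0 := allZ_sound0 lv0e_0
theorem lv0 : l0.OK P 24 := ⟨by decide, by decide, lt_of_blt lv0b.1, lv0b.2.1, lv0e⟩
theorem tc1e : ∀ k < 6, ∀ i < 10, (entryChk T1 (selR RL1 I1) D1 (nat_lit 15) (nat_lit 10) (nat_lit 6)) k i = 0 := allZ2_sound tc1e_a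
theorem tc1 : c1.OK Rl 7 := ⟨by decide, by decide, by decide, ivc, tc1r, tc1e⟩
theorem lv1e : ∀ i < 9, (l1.ent P) i = 0 := allZ_sound0 lv1e_0
theorem lv1 : l1.OK P 24 := ⟨by decide, by decide, lt_of_blt lv1b.1, lv1b.2.1, lv1e⟩
theorem tc2e : ∀ k < 5, ∀ i < 9, (entryChk T2 (selR RL2 I2) D2 (nat_lit 15) (nat_lit 9) (nat_lit 5)) k i = 0 := allZ2_sound tc2e_a
theorem tc2 : c2.OK Rl 7 := ⟨by decide, by decide, by decide, ivc, tc2r, tc2e⟩
theorem lv2e : ∀ i < 8, (l2.ent P) i = 0 := allZ_sound0 lv2e_0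
theorem lv2 : l2.OK P 24 := ⟨by decide, by decide, lt_of_blt lv2b.1, lv2b.2.1, lv2e⟩
theorem tc3e : ∀ k < 4, ∀ i < 8, (entryChk T3 (selR RL3 I3) D3 (nat_lit 7) (nat_lit 8) (nat_lit 4)) k i = 0 := allZ2_sound tc3e_a
theorem tc3 : c3.OK Rl 7 := ⟨by decide, by decide, by decide, ivc, tc3r, tc3e⟩
theorem lv3e : ∀ i < 7, (l3.ent P) i = 0 := allZ_sound0 lv3e_0
theorem lv3 : l3.OK P 24 := ⟨by decide, by decide, lt_of_blt lv3b.1, lv3b.2.1, lv3e⟩
theorem bound3 : Bound Rl 4 8 := Bound.step' (Bound.zero Rl) tc3 sb3.1 (by decide +kernel)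
theorem bound2 : Bound Rl 5 72 := Bound.step' (bound3) tc2 sb2.1 (by decide +kernel)
theorem bound1 : Bound Rl 6 720 := Bound.step' (bound2) tc1 sb1.1 (by decide +kernel)
theorem bound0 : Bound Rl 7 7920 := Bound.step' (bound1) tc0 sb0.1 (by decide +kernel)
/-- every tuple satisfying `Rl` generates a group of order at most `7920` -/
theorem bound : Bound Rl 7 7920 := bound0
theorem chain_of {G Ω : Type*} [Group G] [MulAction G Ω] {g : ℕ → G} {pt : ℕ → Ω}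
    (h : Act g pt P 24 7) (hR : Rels g Rl) : IsChain g pt 24 L :=
  IsChain.cons (L := [l1, l2, l3]) (IsChain.cons (L := [l2, l3]) (IsChain.cons (L := [l3]) (IsChain.cons (L := []) (trivial) h hR tc3 lv3 rfl rfl rfl (by decide) sb3.1 sb3.2) h hR tc2 lv2 rfl rfl rfl (by decide) sb2.1 sb2.2) h hR tc1 lv1 rfl rfl rfl (by decide) sb1.1 sb1.2) h hR tc0 lv0 rfl rfl rfl (by decide) sb0.1 sb0.2
theorem base_eq : chainBase L = B := by decide +kernel
/-- the letters -/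
noncomputable def g (k : ℕ) : Equiv.Perm Cfsg.GolayPt := H15.P (nth 0 Cs k)
theorem act : Act g pt P 24 7 := fun k hk i hi => (csc k hk).2.1 i hi ▸ isM_rep (csc k hk).1 i hi
theorem inj : PtInj pt 24 := fun _ hi _ hj e => pt_inj hi hj e
theorem rels : Rels g Rl := rels_of_all act (fun a _ h => Equiv.ext fun p => by
  obtain ⟨i, hi, rfl⟩ := exists_pt p
  exact h i hi) (FixUpTo.first rf)
theorem chain : IsChain g pt 24 L := chain_of act rels
theorem card : Nat.card (gen g 7) = 7920 := chain.card' inj (by decide +kernel)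
theorem isBase : IsBase (gen g 7) pt B := base_eq ▸ chain.isBase inj
theorem gen_eq : gen g 7 = Cfsg.Spor.M11 :=
  Subgroup.eq_of_le_of_card_ge (gen_le.2 fun k hk => mem_M11.2 ⟨⟨isM_mem (csc k hk).1, (isM_rep (csc k hk).1).smul_S_eq (csc k hk).2.2.1⟩, (act k hk 0 (by norm_num)).2.trans (congrArg pt (csc k hk).2.2.2)⟩) (card_M11.trans card.symm).le

end H15.MM11
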