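import Cfsg.Agent.H15.Mathieu
import Cfsg.Agent.H16.Facts

/-! Generated by tools/h16 and py/gen_models.py. -/

set_option maxRecDepth 100000
set_option maxHeartbeats 0

namespace H15.MM23

open H16
open scoped Pointwise

noncomputable def Rl : List (List ℕ) := [[nat_lit 0, nat_lit 0],
  [nat_lit 1, nat_lit 1],
  [nat_lit 2, nat_lit 2],
  [nat_lit 3, nat_lit 3],
  [nat_lit 4, nat_lit 5],
  [nat_lit 5, nat_lit 4],
  [nat_lit 6, nat_lit 6],
  [nat_lit 7, nat_lit 7],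
  [nat_lit 8, nat_lit 8],
  [nat_lit 9, nat_lit 9],
  [nat_lit 2, nat_lit 3, nat_lit 2, nat_lit 3],
  [nat_lit 1, nat_lit 2, nat_lit 1, nat_lit 2],
  [nat_lit 1, nat_lit 3, nat_lit 1, nat_lit 3],
  [nat_lit 0, nat_lit 1, nat_lit 0, nat_lit 1],
  [nat_lit 0, nat_lit 2, nat_lit 0, nat_lit 2],
  [nat_lit 0, nat_lit 3, nat_lit 0, nat_lit 3],
  [nat_lit 4, nat_lit 4, nat_lit 4],
  [nat_lit 0, nat_lit 4, nat_lit 1, nat_lit 5],
  [nat_lit 0, nat_lit 1, nat_lit 4, nat_lit 0, nat_lit 5],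
  [nat_lit 2, nat_lit 4, nat_lit 3, nat_lit 5],
  [nat_lit 2, nat_lit 3, nat_lit 4, nat_lit 2, nat_lit 5],
  [nat_lit 4, nat_lit 6, nat_lit 4, nat_lit 6],
  [nat_lit 1, nat_lit 6, nat_lit 1, nat_lit 6, nat_lit 1, nat_lit 6],
  [nat_lit 3, nat_lit 6, nat_lit 3, nat_lit 6, nat_lit 3, nat_lit 6],
  [nat_lit 0, nat_lit 1, nat_lit 3, nat_lit 6, nat_lit 1, nat_lit 2, nat_lit 4, nat_lit 6, nat_lit 2, nat_lit 1, nat_lit 6],
  [nat_lit 4, nat_lit 7, nat_lit 4, nat_lit 7],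
  [nat_lit 6, nat_lit 7, nat_lit 6, nat_lit 7, nat_lit 6, nat_lit 7],
  [nat_lit 0, nat_lit 2, nat_lit 7, nat_lit 0, nat_lit 7],
  [nat_lit 7, nat_lit 8, nat_lit 7, nat_lit 8, nat_lit 7, nat_lit 8],
  [nat_lit 4, nat_lit 6, nat_lit 8, nat_lit 6, nat_lit 8],
  [nat_lit 0, nat_lit 3, nat_lit 8, nat_lit 1, nat_lit 8],
  [nat_lit 0, nat_lit 9, nat_lit 0, nat_lit 9],
  [nat_lit 7, nat_lit 9, nat_lit 7, nat_lit 9],
  [nat_lit 8, nat_lit 9, nat_lit 8, nat_lit 9, nat_lit 8, nat_lit 9],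
  [nat_lit 4, nat_lit 6, nat_lit 9, nat_lit 6, nat_lit 9]]
noncomputable def Pd : List ℕ := [nat_lit 0xbbd8459e29b39559b606920b418820,
  nat_lit 0xbb1f3a4232ab916218ed4a8ab18820,
  nat_lit 0xba64d4562f83a87312d362caa18820,
  nat_lit 0xbae957b6289ba44b1cd0524ac18820,
  nat_lit 0xbcd69958b5a44c4829ed621c718820,
  nat_lit 0xbca0fb4dcb49507aaa862362c18820,
  nat_lit 0xbcaa59d92b73d0480e2d39a8c50820,
  nat_lit 0xbceadb48ab33a878290963e2410c20,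
  nat_lit 0xbb56941a30796c7aaa93649c418440,
  nat_lit 0xbc2545d4b64b9a79a9e66222418801]
noncomputable def P (k u : ℕ) : ℕ := Nat.land (Nat.shiftRight (nth (nat_lit 0) Pd k) (Nat.mul u (nat_lit 5))) (nat_lit 31)
noncomputable def T0d : List ℕ := [nat_lit 0xb594a934ca193b26e334198cb18a2fd11a1f4366bcd59a7526c5b0778b40ec0,
  nat_lit 0x45a8aa7455fa2f4518c5a78a3139b0ce59c752e0ec1ba9364ec6ac780b10ec0,
  nat_lit 0xb586a954d16bbf54e286249335326ece7a9768e10d49b37656c7ac768b30ec0,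
  nat_lit 0x5da9a8f4d55aa537ea7523a98e61edd4bb4f696a4da1b3b65ec8a8770b10ec0,
  nat_lit 0xc56aa3369db14dc5ca7694dbe193719995b9e2c90b50fa6935e4c0788b30ec0,
  nat_lit 0xc517b535865035a646869d52a69cab6e2cbde3587921415d4dc4bc780b20ec0,
  nat_lit 0x1abf576aa1a6235a8c67dadb54594eba19b51e2d288a1519d4ea3d8990b40ec0,
  nat_lit 0x14d97a2d5666db5462e8d4cea5a92b1597815c73105cfb3ef5624d45b0f40ec0,
  nat_lit 0x6515a9b649b64994aa839eb2919ea5b8cbb988a904cf6af665e4cc7a87616c0,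
  nat_lit 0xd80a0357d623036c280dc13c288b28276a803450b0e0a6e2de4cc7a0b506c1]
noncomputable def T0 (k u : ℕ) : ℕ := Nat.land (Nat.shiftRight (nth (nat_lit 0) T0d k) (Nat.mul u (nat_lit 11))) (nat_lit 2047)
noncomputable def I0d : List ℕ := [nat_lit 0x3b92210000187600005a3c4,
  nat_lit 0x19107506338000000221a14,
  nat_lit 0x11150061001002002223134,
  nat_lit 0x27200005006011011113234,
  nat_lit 0x22981405306403111256a7,
  nat_lit 1,
  nat_lit 0x30621120412307001485,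
  nat_lit 0x43016000103650512040287,
  nat_lit 0x1123123000230070416045,
  nat_lit 0x40300201004120312132605]
noncomputable def I0 (k u : ℕ) : ℕ := Nat.land (Nat.shiftRight (nth (nat_lit 0) I0d k) (Nat.mul u (nat_lit 4))) (nat_lit 15)
noncomputable def D0d : ℕ := nat_lit 0x9c926a675d5c49433f3e3a3534332b2a2928241b120900
noncomputable def D0 (u : ℕ) : ℕ := Nat.land (Nat.shiftRight D0d (Nat.mul u (nat_lit 8))) (nat_lit 255)
noncomputable def RL0 : List (List Rule) := [[.rel (nat_lit 0) (nat_lit 0) [nat_lit 0], .rel (nat_lit 28) (nat_lit 2) [nat_lit 2, nat_lit 0, nat_lit 2], .rel (nat_lit 30) (nat_lit 2) [nat_lit 3, nat_lit 0, nat_lit 3], .rel (nat_lit 34) (nat_lit 0) [nat_lit 4, nat_lit 1, nat_lit 5], .sub (nat_lit 0) [] [], .defn, .rel (nat_lit 26) (nat_lit 0) [nat_lit 1, nat_lit 0, nat_lit 1], .rel (nat_lit 28) (nat_lit 0) [nat_lit 2, nat_lit 0, nat_lit 2], .rel (nat_lit 30)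 (nat_lit 0) [nat_lit 3, nat_lit 0, nat_lit 3], .rel (nat_lit 54) (nat_lit 0) [nat_lit 2, nat_lit 7, nat_lit 0, nat_lit 7], .rel (nat_lit 54) (nat_lit 3) [nat_lit 7, nat_lit 0, nat_lit 2, nat_lit 7], .rel (nat_lit 60) (nat_lit 0) [nat_lit 3, nat_lit 8, nat_lit 1, nat_lit 8], .rel (nat_lit 62) (nat_lit 0) [nat_lit 9, nat_lit 0, nat_lit 9]],
  [.rel (nat_lit 2) (nat_lit 0) [nat_lit 1], .rel (nat_lit 34) (nat_lit 2) [nat_lit 5, nat_lit 0, nat_lit 4], .defn, .rel (nat_lit 26) (nat_lit 3) [nat_lit 0, nat_lit 1, nat_lit 0], .sub (nat_lit 2) [] [], .rel (nat_lit 22) (nat_lit 0) [nat_lit 2, nat_lit 1, nat_lit 2], .rel (nat_lit 22) (nat_lit 2) [nat_lit 2, nat_lit 1, nat_lit 2], .rel (nat_lit 24) (nat_lit 0) [nat_lit 3, nat_lit 1, nat_lit 3], .rel (nat_lit 24) (nat_lit 2) [nat_lit 3, nat_lit 1, nat_lit 3], .rel (nat_lit 44) (nat_lit 4) [nat_lit 6, nat_lit 1, nat_lit 6, nat_lit 1, nat_lit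 6], .rel (nat_lit 60) (nat_lit 3) [nat_lit 8, nat_lit 0, nat_lit 3, nat_lit 8]],
  [.rel (nat_lit 4) (nat_lit 0) [nat_lit 2], .rel (nat_lit 38) (nat_lit 0) [nat_lit 4, nat_lit 3, nat_lit 5], .defn, .rel (nat_lit 54) (nat_lit 1) [nat_lit 7, nat_lit 0, nat_lit 7, nat_lit 0], .sub (nat_lit 4) [] [], .rel (nat_lit 20) (nat_lit 0) [nat_lit 3, nat_lit 2, nat_lit 3], .rel (nat_lit 28) (nat_lit 3) [nat_lit 0, nat_lit 2, nat_lit 0]],
  [.rel (nat_lit 6) (nat_lit 0) [nat_lit 3], .defn, .rel (nat_lit 60) (nat_lit 1) [nat_lit 8, nat_lit 1, nat_lit 8, nat_lit 0], .rel (nat_lit 38) (nat_lit 2) [nat_lit 5, nat_lit 2, nat_lit 4], .sub (nat_lit 6) [] [], .rel (nat_lit 24) (nat_lit 1) [nat_lit 1, nat_lit 3, nat_lit 1], .rel (nat_lit 30) (nat_lit 1) [nat_lit 0, nat_lit 3, nat_lit 0], .rel (nat_lit 46) (nat_lit 4) [nat_lit 6, nat_lit 3, nat_lit 6, nat_lit 3, nat_lit 6]],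
  [.rel (nat_lit 32) (nat_lit 1) [nat_lit 4, nat_lit 4], .rel (nat_lit 38) (nat_lit 1) [nat_lit 3, nat_lit 5, nat_lit 2], .rel (nat_lit 42) (nat_lit 2) [nat_lit 6, nat_lit 4, nat_lit 6], .rel (nat_lit 32) (nat_lit 2) [nat_lit 4, nat_lit 4], .rel (nat_lit 34) (nat_lit 1) [nat_lit 1, nat_lit 5, nat_lit 0], .rel (nat_lit 50) (nat_lit 2) [nat_lit 7, nat_lit 4, nat_lit 7], .rel (nat_lit 58) (nat_lit 0) [nat_lit 6, nat_lit 8, nat_lit 6, nat_lit 8], .sub (nat_lit 8) [] [], .rel (nat_lit 36) (nat_lit 2) [nat_lit 0, nat_lit 5, nat_lit 0, nat_lit 1], .rel (nat_lit 40) (nat_lit 2) [nat_lit 2, nat_lit 5, nat_lit 2, nat_lit 3], .rel (nat_lit 68) (nat_lit 0) [nat_lit 6, nat_lit 9, nat_lit 6, nat_lit 9]],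
  [.rel (nat_lit 10) (nat_lit 0) [nat_lit 4], .sub (nat_lit 10) [] []],
  [.rel (nat_lit 12) (nat_lit 0) [nat_lit 6], .defn, .rel (nat_lit 42) (nat_lit 3) [nat_lit 4, nat_lit 6, nat_lit 4], .rel (nat_lit 46) (nat_lit 3) [nat_lit 3, nat_lit 6, nat_lit 3, nat_lit 6, nat_lit 3], .rel (nat_lit 58) (nat_lit 3) [nat_lit 8, nat_lit 4, nat_lit 6, nat_lit 8], .sub (nat_lit 12) [] [], .rel (nat_lit 42) (nat_lit 1) [nat_lit 4, nat_lit 6, nat_lit 4], .rel (nat_lit 44) (nat_lit 3) [nat_lit 1, nat_lit 6, nat_lit 1, nat_lit 6, nat_lit 1], .rel (nat_lit 68) (nat_lit 3) [nat_lit 9, nat_lit 4, nat_lit 6, nat_lit 9]],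
  [.rel (nat_lit 14) (nat_lit 0) [nat_lit 7], .rel (nat_lit 50) (nat_lit 3) [nat_lit 4, nat_lit 7, nat_lit 4], .defn, .rel (nat_lit 50) (nat_lit 1) [nat_lit 4, nat_lit 7, nat_lit 4], .rel (nat_lit 52) (nat_lit 3) [nat_lit 6, nat_lit 7, nat_lit 6, nat_lit 7, nat_lit 6], .rel (nat_lit 54) (nat_lit 2) [nat_lit 0, nat_lit 7, nat_lit 0, nat_lit 2], .rel (nat_lit 54) (nat_lit 4) [nat_lit 0, nat_lit 2, nat_lit 7, nat_lit 0], .sub (nat_lit 14) [] [], .rel (nat_lit 64) (nat_lit 0) [nat_lit 9, nat_lit 7, nat_lit 9]],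
  [.rel (nat_lit 16) (nat_lit 0) [nat_lit 8], .rel (nat_lit 58) (nat_lit 2) [nat_lit 6, nat_lit 8, nat_lit 4, nat_lit 6], .rel (nat_lit 60) (nat_lit 2) [nat_lit 1, nat_lit 8, nat_lit 0, nat_lit 3], .rel (nat_lit 60) (nat_lit 4) [nat_lit 0, nat_lit 3, nat_lit 8, nat_lit 1], .defn, .sub (nat_lit 16) [] [], .rel (nat_lit 56) (nat_lit 3) [nat_lit 7, nat_lit 8, nat_lit 7, nat_lit 8, nat_lit 7], .rel (nat_lit 58) (nat_lit 4) [nat_lit 4, nat_lit 6, nat_lit 8, nat_lit 6]],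
  [.rel (nat_lit 18) (nat_lit 0) [nat_lit 9], .rel (nat_lit 62) (nat_lit 3) [nat_lit 0, nat_lit 9, nat_lit 0], .rel (nat_lit 64) (nat_lit 3) [nat_lit 7, nat_lit 9, nat_lit 7], .rel (nat_lit 68) (nat_lit 2) [nat_lit 6, nat_lit 9, nat_lit 4, nat_lit 6], .rel (nat_lit 68) (nat_lit 4) [nat_lit 4, nat_lit 6, nat_lit 9, nat_lit 6], .defn, .rel (nat_lit 66) (nat_lit 5) [nat_lit 8, nat_lit 9, nat_lit 8, nat_lit 9, nat_lit 8]]]
noncomputable def c0 : TCert := ⟨23, 10, 31, T0, I0, D0, [[nat_lit 0],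
  [nat_lit 1],
  [nat_lit 2],
  [nat_lit 3],
  [nat_lit 4],
  [nat_lit 5],
  [nat_lit 6],
  [nat_lit 7],
  [nat_lit 8]], RL0⟩
noncomputable def Pt0d : ℕ := nat_lit 0x3a25ac26c7a57695107219aa18820
noncomputable def Pt0 (u : ℕ) : ℕ := Nat.land (Nat.shiftRight Pt0d (Nat.mul u (nat_lit 5))) (nat_lit 31)
noncomputable def Q0d : ℕ := nat_lit 0x326a8aeb27d8b0691c941a8718820
noncomputable def Q0 (u : ℕ) : ℕ := Nat.land (Nat.shiftRight Q0d (Nat.mul u (nat_lit 5))) (nat_lit 31)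
noncomputable def l0 : H16.Lev := ⟨23, 10, D0, Pt0, Q0⟩
noncomputable def T1d : List ℕ := [nat_lit 0x12aa1416763ec6d8cae462eb8d7035d71ee35c5b556a6d45e3c0940ab0e00,
  nat_lit 0x4ac943e68bae55c921694ab3d6625f6c6d85e4a9b532f1e08c0b38ae0e00,
  nat_lit 0x12a8541a7729375e8acea44e5de53db6caf2610a9f78f06609c0d38a90e00,
  nat_lit 0x7acb40e77a6f41eebcc842f294b2d979309611bc783f06e0ac0f30aa0e00,
  nat_lit 0x14a4d356b1b1e930a84cb25773b15e112e76b4481f49db44a5ac760ad0e00,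
  nat_lit 0x149a75968ec5c62cb7ceb3664c52854bc157345a0d03e42328a8758ac0e00,
  nat_lit 0x2f75edbd2148062d07cd8570a0318d522f09b4494ef3e62b28bc580ee0e00,
  nat_lit 0x25aa734a8ac97620b4cf795942d146092ac230d51e99b07569b4778701600,
  nat_lit 0x89a3426a73288aa844e539249b2bc951536a9041e79a9560bac770af0601]
noncomputable def T1 (k u : ℕ) : ℕ := Nat.land (Nat.shiftRight (nth (nat_lit 0) T1d k) (Nat.mul u (nat_lit 11))) (nat_lit 2047)
noncomputable def I1d : List ℕ := [nat_lit 0x3b92210000187600005a34,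
  nat_lit 0x19107506338000000221a4,
  nat_lit 0x1114005100100200222613,
  nat_lit 0x2720000400501101111623,
  nat_lit 0x229814053064031112567,
  nat_lit 1,
  nat_lit 0x3062112041230700145,
  nat_lit 0x4301600010365051204027,
  nat_lit 0x112312300023006041504]
noncomputable def I1 (k u : ℕ) : ℕ := Nat.land (Nat.shiftRight (nth (nat_lit 0) I1d k) (Nat.mul u (nat_lit 4))) (nat_lit 15)
noncomputable def D1d : ℕ := nat_lit 0x847b57544b4a3934302f2c2726251e1d1c1b18100800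
noncomputable def D1 (u : ℕ) : ℕ := Nat.land (Nat.shiftRight D1d (Nat.mul u (nat_lit 8))) (nat_lit 255)
noncomputable def RL1 : List (List Rule) := [[.rel (nat_lit 0) (nat_lit 0) [nat_lit 0], .rel (nat_lit 28) (nat_lit 2) [nat_lit 2, nat_lit 0, nat_lit 2], .rel (nat_lit 30) (nat_lit 2) [nat_lit 3, nat_lit 0, nat_lit 3], .rel (nat_lit 34) (nat_lit 0) [nat_lit 4, nat_lit 1, nat_lit 5], .sub (nat_lit 0) [] [], .defn, .rel (nat_lit 26) (nat_lit 0) [nat_lit 1, nat_lit 0, nat_lit 1], .rel (nat_lit 28) (nat_lit 0) [nat_lit 2, nat_lit 0, nat_lit 2], .rel (nat_lit 30) (nat_lit 0) [nat_lit 3, nat_lit 0, nat_lit 3], .rel (nat_lit 54) (nat_lit 0) [nat_lit 2, nat_lit 7, nat_lit 0, nat_lit 7], .rel (nat_lit 54) (nat_lit 3) [nat_lit 7, nat_lit 0, nat_lit 2, nat_lit 7], .rel (nat_lit 60) (nat_lit 0) [nat_lit 3, nat_lit 8, nat_lit 1, nat_lit 8]],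
  [.rel (nat_lit 2) (nat_lit 0) [nat_lit 1], .rel (nat_lit 34) (nat_lit 2) [nat_lit 5, nat_lit 0, nat_lit 4], .defn, .rel (nat_lit 26) (nat_lit 3) [nat_lit 0, nat_lit 1, nat_lit 0], .sub (nat_lit 2) [] [], .rel (nat_lit 22) (nat_lit 0) [nat_lit 2, nat_lit 1, nat_lit 2], .rel (nat_lit 22) (nat_lit 2) [nat_lit 2, nat_lit 1, nat_lit 2], .rel (nat_lit 24) (nat_lit 0) [nat_lit 3, nat_lit 1, nat_lit 3], .rel (nat_lit 24) (nat_lit 2) [nat_lit 3, nat_lit 1, nat_lit 3], .rel (nat_lit 44) (nat_lit 4) [nat_lit 6, nat_lit 1, nat_lit 6, nat_lit 1, nat_lit 6], .rel (nat_lit 60) (nat_lit 3) [nat_lit 8, nat_lit 0, nat_lit 3, nat_lit 8]],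
  [.rel (nat_lit 4) (nat_lit 0) [nat_lit 2], .rel (nat_lit 38) (nat_lit 0) [nat_lit 4, nat_lit 3, nat_lit 5], .defn, .sub (nat_lit 4) [] [], .rel (nat_lit 20) (nat_lit 0) [nat_lit 3, nat_lit 2, nat_lit 3], .rel (nat_lit 28) (nat_lit 3) [nat_lit 0, nat_lit 2, nat_lit 0], .rel (nat_lit 54) (nat_lit 1) [nat_lit 7, nat_lit 0, nat_lit 7, nat_lit 0]],
  [.rel (nat_lit 6) (nat_lit 0) [nat_lit 3], .defn, .rel (nat_lit 60) (nat_lit 1) [nat_lit 8, nat_lit 1, nat_lit 8, nat_lit 0], .sub (nat_lit 6) [] [], .rel (nat_lit 24) (nat_lit 1) [nat_lit 1, nat_lit 3, nat_lit 1], .rel (nat_lit 30) (nat_lit 1) [nat_lit 0, nat_lit 3, nat_lit 0], .rel (nat_lit 38) (nat_lit 2) [nat_lit 5, nat_lit 2, nat_lit 4], .rel (nat_lit 46) (nat_lit 4) [nat_lit 6, nat_lit 3, nat_lit 6, nat_lit 3, nat_lit 6]],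
  [.rel (nat_lit 32) (nat_lit 1) [nat_lit 4, nat_lit 4], .rel (nat_lit 38) (nat_lit 1) [nat_lit 3, nat_lit 5, nat_lit 2], .rel (nat_lit 42) (nat_lit 2) [nat_lit 6, nat_lit 4, nat_lit 6], .rel (nat_lit 32) (nat_lit 2) [nat_lit 4, nat_lit 4], .rel (nat_lit 34) (nat_lit 1) [nat_lit 1, nat_lit 5, nat_lit 0], .rel (nat_lit 50) (nat_lit 2) [nat_lit 7, nat_lit 4, nat_lit 7], .rel (nat_lit 58) (nat_lit 0) [nat_lit 6, nat_lit 8, nat_lit 6, nat_lit 8], .sub (nat_lit 8) [] [], .rel (nat_lit 36) (nat_lit 2) [nat_lit 0, nat_lit 5, nat_lit 0, nat_lit 1], .rel (nat_lit 40) (nat_lit 2) [nat_lit 2, nat_lit 5, nat_lit 2, nat_lit 3]],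
  [.rel (nat_lit 10) (nat_lit 0) [nat_lit 4], .sub (nat_lit 10) [] []],
  [.rel (nat_lit 12) (nat_lit 0) [nat_lit 6], .defn, .rel (nat_lit 42) (nat_lit 3) [nat_lit 4, nat_lit 6, nat_lit 4], .rel (nat_lit 46) (nat_lit 3) [nat_lit 3, nat_lit 6, nat_lit 3, nat_lit 6, nat_lit 3], .rel (nat_lit 58) (nat_lit 3) [nat_lit 8, nat_lit 4, nat_lit 6, nat_lit 8], .sub (nat_lit 12) [] [], .rel (nat_lit 42) (nat_lit 1) [nat_lit 4, nat_lit 6, nat_lit 4], .rel (nat_lit 44) (nat_lit 3) [nat_lit 1, nat_lit 6, nat_lit 1, nat_lit 6, nat_lit 1]],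
  [.rel (nat_lit 14) (nat_lit 0) [nat_lit 7], .rel (nat_lit 50) (nat_lit 3) [nat_lit 4, nat_lit 7, nat_lit 4], .defn, .rel (nat_lit 50) (nat_lit 1) [nat_lit 4, nat_lit 7, nat_lit 4], .rel (nat_lit 52) (nat_lit 3) [nat_lit 6, nat_lit 7, nat_lit 6, nat_lit 7, nat_lit 6], .rel (nat_lit 54) (nat_lit 2) [nat_lit 0, nat_lit 7, nat_lit 0, nat_lit 2], .rel (nat_lit 54) (nat_lit 4) [nat_lit 0, nat_lit 2, nat_lit 7, nat_lit 0], .sub (nat_lit 14) [] []],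
  [.rel (nat_lit 16) (nat_lit 0) [nat_lit 8], .rel (nat_lit 58) (nat_lit 2) [nat_lit 6, nat_lit 8, nat_lit 4, nat_lit 6], .rel (nat_lit 60) (nat_lit 2) [nat_lit 1, nat_lit 8, nat_lit 0, nat_lit 3], .rel (nat_lit 60) (nat_lit 4) [nat_lit 0, nat_lit 3, nat_lit 8, nat_lit 1], .defn, .rel (nat_lit 56) (nat_lit 5) [nat_lit 7, nat_lit 8, nat_lit 7, nat_lit 8, nat_lit 7], .rel (nat_lit 58) (nat_lit 4) [nat_lit 4, nat_lit 6, nat_lit 8, nat_lit 6]]]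
noncomputable def c1 : TCert := ⟨22, 9, 31, T1, I1, D1, [[nat_lit 0],
  [nat_lit 1],
  [nat_lit 2],
  [nat_lit 3],
  [nat_lit 4],
  [nat_lit 5],
  [nat_lit 6],
  [nat_lit 7]], RL1⟩
noncomputable def Pt1d : ℕ := nat_lit 0x1d12d61363d2bb4a88390cd50c41
noncomputable def Pt1 (u : ℕ) : ℕ := Nat.land (Nat.shiftRight Pt1d (Nat.mul u (nat_lit 5))) (nat_lit 31)
noncomputable def Q1d : ℕ := nat_lit 0x2e4982a917548f60da83966610400
noncomputable def Q1 (u : ℕ) : ℕ := Nat.land (Nat.shiftRight Q1d (Nat.mul u (nat_lit 5))) (nat_lit 31)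
noncomputable def l1 : H16.Lev := ⟨22, 9, D1, Pt1, Q1⟩
noncomputable def T2d : List ℕ := [nat_lit 0x1b42a6630b8cad9572aa481b291f23a734e59c9326644c7a0548e70d20,
  nat_lit 0x1947e6d349890c7d33a19913084d215e7ccea0702e35502a4f49250d20,
  nat_lit 0x1b41e6c2c98ce939941e431ef5e541268503a5d1b68152aa5149660d20,
  nat_lit 0x1148e6e2868d08a0e5328296ea08dca81d30a5f40a96d2ba5349a50d20,
  nat_lit 0x1f3862c390a3ca460ba602a2849893e9944b5470b64328790930a70d20,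
  nat_lit 0x1f13a942609a0f454bca2322b850ec16720c4c9195f6c6350f28a60d20,
  nat_lit 0x50ca16126840b00d403a02d34a6623c195314c7219f6c8448f40691520,
  nat_lit 0x4743a2538d98d01145c88350450e2bc94cc34d63b462d2c95138a80521]
noncomputable def T2 (k u : ℕ) : ℕ := Nat.land (Nat.shiftRight (nth (nat_lit 0) T2d k) (Nat.mul u (nat_lit 11))) (nat_lit 2047)
noncomputable def I2d : List ℕ := [nat_lit 0x3903221010087600005a4,
  nat_lit 0x983106503170000002214,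
  nat_lit 0x286350072000010011134,
  nat_lit 0x252200004000110111123,
  nat_lit 0x28230000a16114173295,
  nat_lit 0x20000000000001,
  nat_lit 0x3030221120123050014,
  nat_lit 0x540070220111200130603]
noncomputable def I2 (k u : ℕ) : ℕ := Nat.land (Nat.shiftRight (nth (nat_lit 0) I2d k) (Nat.mul u (nat_lit 4))) (nat_lit 15)
noncomputable def D2d : ℕ := nat_lit 0x66bd3234376e95a74688d9a324c9112038380
noncomputable def D2 (u : ℕ) : ℕ := Nat.land (Nat.shiftRight D2d (Nat.mul u (nat_lit 7))) (nat_lit 127)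
noncomputable def RL2 : List (List Rule) := [[.rel (nat_lit 0) (nat_lit 0) [nat_lit 0], .rel (nat_lit 28) (nat_lit 2) [nat_lit 2, nat_lit 0, nat_lit 2], .rel (nat_lit 30) (nat_lit 2) [nat_lit 3, nat_lit 0, nat_lit 3], .rel (nat_lit 34) (nat_lit 0) [nat_lit 4, nat_lit 1, nat_lit 5], .sub (nat_lit 0) [] [], .defn, .rel (nat_lit 26) (nat_lit 0) [nat_lit 1, nat_lit 0, nat_lit 1], .rel (nat_lit 28) (nat_lit 0) [nat_lit 2, nat_lit 0, nat_lit 2], .rel (nat_lit 30) (nat_lit 0) [nat_lit 3, nat_lit 0, nat_lit 3], .rel (nat_lit 36) (nat_lit 0) [nat_lit 1, nat_lit 4, nat_lit 0, nat_lit 5], .rel (nat_lit 54) (nat_lit 3) [nat_lit 7, nat_lit 0, nat_lit 2, nat_lit 7]],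
  [.rel (nat_lit 2) (nat_lit 0) [nat_lit 1], .rel (nat_lit 34) (nat_lit 2) [nat_lit 5, nat_lit 0, nat_lit 4], .defn, .rel (nat_lit 24) (nat_lit 2) [nat_lit 3, nat_lit 1, nat_lit 3], .sub (nat_lit 2) [] [], .rel (nat_lit 22) (nat_lit 0) [nat_lit 2, nat_lit 1, nat_lit 2], .rel (nat_lit 26) (nat_lit 1) [nat_lit 0, nat_lit 1, nat_lit 0], .rel (nat_lit 26) (nat_lit 3) [nat_lit 0, nat_lit 1, nat_lit 0], .rel (nat_lit 44) (nat_lit 4) [nat_lit 6, nat_lit 1, nat_lit 6, nat_lit 1, nat_lit 6], .rel (nat_lit 48) (nat_lit 9) [nat_lit 6, nat_lit 0, nat_lit 1, nat_lit 3, nat_lit 6, nat_lit 1, nat_lit 2, nat_lit 4, nat_lit 6, nat_lit 2]],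
  [.rel (nat_lit 4) (nat_lit 0) [nat_lit 2], .defn, .rel (nat_lit 38) (nat_lit 0) [nat_lit 4, nat_lit 3, nat_lit 5], .rel (nat_lit 54) (nat_lit 1) [nat_lit 7, nat_lit 0, nat_lit 7, nat_lit 0], .sub (nat_lit 4) [] [], .rel (nat_lit 20) (nat_lit 0) [nat_lit 3, nat_lit 2, nat_lit 3], .rel (nat_lit 22) (nat_lit 1) [nat_lit 1, nat_lit 2, nat_lit 1], .rel (nat_lit 28) (nat_lit 3) [nat_lit 0, nat_lit 2, nat_lit 0], .rel (nat_lit 40) (nat_lit 3) [nat_lit 5, nat_lit 2, nat_lit 3, nat_lit 4]],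
  [.rel (nat_lit 6) (nat_lit 0) [nat_lit 3], .defn, .rel (nat_lit 38) (nat_lit 2) [nat_lit 5, nat_lit 2, nat_lit 4], .sub (nat_lit 6) [] [], .rel (nat_lit 30) (nat_lit 1) [nat_lit 0, nat_lit 3, nat_lit 0], .rel (nat_lit 46) (nat_lit 4) [nat_lit 6, nat_lit 3, nat_lit 6, nat_lit 3, nat_lit 6]],
  [.rel (nat_lit 32) (nat_lit 1) [nat_lit 4, nat_lit 4], .rel (nat_lit 38) (nat_lit 1) [nat_lit 3, nat_lit 5, nat_lit 2], .rel (nat_lit 42) (nat_lit 2) [nat_lit 6, nat_lit 4, nat_lit 6], .rel (nat_lit 34) (nat_lit 1) [nat_lit 1, nat_lit 5, nat_lit 0], .rel (nat_lit 8) (nat_lit 0) [nat_lit 5], .sub (nat_lit 8) [] [], .defn, .rel (nat_lit 32) (nat_lit 2) [nat_lit 4, nat_lit 4], .rel (nat_lit 36) (nat_lit 2) [nat_lit 0, nat_lit 5, nat_lit 0, nat_lit 1], .rel (nat_lit 50) (nat_lit 0) [nat_lit 7, nat_lit 4, nat_lit 7], .rel (nat_lit 50) (nat_lit 2) [nat_lit 7, nat_lit 4, nat_lit 7]],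
  [.rel (nat_lit 10) (nat_lit 0) [nat_lit 4], .sub (nat_lit 10) [] [], .rel (nat_lit 40) (nat_lit 4) [nat_lit 2, nat_lit 3, nat_lit 4, nat_lit 2]],
  [.rel (nat_lit 12) (nat_lit 0) [nat_lit 6], .defn, .rel (nat_lit 42) (nat_lit 3) [nat_lit 4, nat_lit 6, nat_lit 4], .rel (nat_lit 46) (nat_lit 3) [nat_lit 3, nat_lit 6, nat_lit 3, nat_lit 6, nat_lit 3], .sub (nat_lit 12) [] [], .rel (nat_lit 44) (nat_lit 3) [nat_lit 1, nat_lit 6, nat_lit 1, nat_lit 6, nat_lit 1]],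
  [.rel (nat_lit 14) (nat_lit 0) [nat_lit 7], .rel (nat_lit 50) (nat_lit 3) [nat_lit 4, nat_lit 7, nat_lit 4], .rel (nat_lit 54) (nat_lit 2) [nat_lit 0, nat_lit 7, nat_lit 0, nat_lit 2], .defn, .rel (nat_lit 50) (nat_lit 1) [nat_lit 4, nat_lit 7, nat_lit 4], .rel (nat_lit 52) (nat_lit 3) [nat_lit 6, nat_lit 7, nat_lit 6, nat_lit 7, nat_lit 6], .rel (nat_lit 52) (nat_lit 5) [nat_lit 6, nat_lit 7, nat_lit 6, nat_lit 7, nat_lit 6], .rel (nat_lit 54) (nat_lit 4) [nat_lit 0, nat_lit 2, nat_lit 7, nat_lit 0]]]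
noncomputable def c2 : TCert := ⟨21, 8, 31, T2, I2, D2, [[nat_lit 0],
  [nat_lit 1],
  [nat_lit 2],
  [nat_lit 3],
  [nat_lit 4],
  [nat_lit 5],
  [nat_lit 6]], RL2⟩
noncomputable def Pt2d : ℕ := nat_lit 0xe8d8b584d8f4ae5441c866a862
noncomputable def Pt2 (u : ℕ) : ℕ := Nat.land (Nat.shiftRight Pt2d (Nat.mul u (nat_lit 5))) (nat_lit 31)
noncomputable def Q2d : ℕ := nat_lit 0x4a087266f6506d509673122508000
noncomputable def Q2 (u : ℕ) : ℕ := Nat.land (Nat.shiftRight Q2d (Nat.mul u (nat_lit 5))) (nat_lit 31)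
noncomputable def l2 : H16.Lev := ⟨21, 8, D2, Pt2, Q2⟩
noncomputable def T3d : List ℕ := [nat_lit 0x8665c8f79903a33ae754e999d33666525a4948e84507a0d506b1560,
  nat_lit 0x367149c595029c5be245276e32166242da1950a354a9a8359ab1d60,
  nat_lit 0x866149a501041b4a117d4698acc6a1d0ea855b255d41ad359eb2560,
  nat_lit 0x67449e487031951ea31afa8950dd8d42add5b6a0d6bad55a2b2d60,
  nat_lit 0x8e5141a6533a8f0253732888923d46d71954b8a35ce558d38e90d60,
  nat_lit 0xa2114ea44328d493534b3190b21df730cadea8e6242b984b1a80d60,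
  nat_lit 0xa9f52874547ae62386492c8895c856911ae0a8a92c2ba46a1aa0561]
noncomputable def T3 (k u : ℕ) : ℕ := Nat.land (Nat.shiftRight (nth (nat_lit 0) T3d k) (Nat.mul u (nat_lit 11))) (nat_lit 2047)
noncomputable def I3d : List ℕ := [nat_lit 0x39130227000816000054,
  nat_lit 0xa9620574028000000113,
  nat_lit 0x22520420600001001113,
  nat_lit 0x62520004000011011113,
  nat_lit 0x90842300001611217345,
  nat_lit 0x300020000001,
  nat_lit 0x1234210212305001]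
noncomputable def I3 (k u : ℕ) : ℕ := Nat.land (Nat.shiftRight (nth (nat_lit 0) I3d k) (Nat.mul u (nat_lit 4))) (nat_lit 15)
noncomputable def D3d : ℕ := nat_lit 0xdf31e376cd16ac3e60b91203c509101c300
noncomputable def D3 (u : ℕ) : ℕ := Nat.land (Nat.shiftRight D3d (Nat.mul u (nat_lit 7))) (nat_lit 127)
noncomputable def RL3 : List (List Rule) := [[.rel (nat_lit 0) (nat_lit 0) [nat_lit 0], .rel (nat_lit 28) (nat_lit 0) [nat_lit 2, nat_lit 0, nat_lit 2], .rel (nat_lit 30) (nat_lit 2) [nat_lit 3, nat_lit 0, nat_lit 3], .rel (nat_lit 34) (nat_lit 0) [nat_lit 4, nat_lit 1, nat_lit 5], .sub (nat_lit 0) [] [], .defn, .rel (nat_lit 26) (nat_lit 0) [nat_lit 1, nat_lit 0, nat_lit 1], .rel (nat_lit 28) (nat_lit 2) [nat_lit 2, nat_lit 0, nat_lit 2], .rel (nat_lit 30) (nat_lit 0) [nat_lit 3, nat_lit 0, nat_lit 3], .rel (nat_lit 36) (nat_lit 0) [nat_lit 1, nat_lit 4, nat_lit 0, nat_lit 5]],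
  [.rel (nat_lit 2) (nat_lit 0) [nat_lit 1], .defn, .rel (nat_lit 34) (nat_lit 2) [nat_lit 5, nat_lit 0, nat_lit 4], .sub (nat_lit 2) [] [], .rel (nat_lit 22) (nat_lit 0) [nat_lit 2, nat_lit 1, nat_lit 2], .rel (nat_lit 24) (nat_lit 0) [nat_lit 3, nat_lit 1, nat_lit 3], .rel (nat_lit 24) (nat_lit 2) [nat_lit 3, nat_lit 1, nat_lit 3], .rel (nat_lit 26) (nat_lit 1) [nat_lit 0, nat_lit 1, nat_lit 0], .rel (nat_lit 26) (nat_lit 3) [nat_lit 0, nat_lit 1, nat_lit 0], .rel (nat_lit 44) (nat_lit 4) [nat_lit 6, nat_lit 1, nat_lit 6, nat_lit 1, nat_lit 6], .rel (nat_lit 48) (nat_lit 9) [nat_lit 6, nat_lit 0, nat_lit 1, nat_lit 3, nat_lit 6, nat_lit 1, nat_lit 2, nat_lit 4, nat_lit 6, nat_lit 2]],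
  [.rel (nat_lit 4) (nat_lit 0) [nat_lit 2], .defn, .rel (nat_lit 38) (nat_lit 0) [nat_lit 4, nat_lit 3, nat_lit 5], .sub (nat_lit 4) [] [], .rel (nat_lit 20) (nat_lit 0) [nat_lit 3, nat_lit 2, nat_lit 3], .rel (nat_lit 22) (nat_lit 1) [nat_lit 1, nat_lit 2, nat_lit 1], .rel (nat_lit 28) (nat_lit 3) [nat_lit 0, nat_lit 2, nat_lit 0]],
  [.rel (nat_lit 6) (nat_lit 0) [nat_lit 3], .defn, .rel (nat_lit 46) (nat_lit 4) [nat_lit 6, nat_lit 3, nat_lit 6, nat_lit 3, nat_lit 6], .sub (nat_lit 6) [] [], .rel (nat_lit 30) (nat_lit 3) [nat_lit 0, nat_lit 3, nat_lit 0], .rel (nat_lit 38) (nat_lit 2) [nat_lit 5, nat_lit 2, nat_lit 4], .rel (nat_lit 40) (nat_lit 1) [nat_lit 4, nat_lit 2, nat_lit 5, nat_lit 2]],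
  [.rel (nat_lit 32) (nat_lit 1) [nat_lit 4, nat_lit 4], .rel (nat_lit 38) (nat_lit 1) [nat_lit 3, nat_lit 5, nat_lit 2], .rel (nat_lit 8) (nat_lit 0) [nat_lit 5], .rel (nat_lit 34) (nat_lit 1) [nat_lit 1, nat_lit 5, nat_lit 0], .rel (nat_lit 42) (nat_lit 0) [nat_lit 6, nat_lit 4, nat_lit 6], .sub (nat_lit 8) [] [], .defn, .rel (nat_lit 32) (nat_lit 2) [nat_lit 4, nat_lit 4], .rel (nat_lit 36) (nat_lit 2) [nat_lit 0, nat_lit 5, nat_lit 0, nat_lit 1], .rel (nat_lit 42) (nat_lit 2) [nat_lit 6, nat_lit 4, nat_lit 6]],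
  [.rel (nat_lit 10) (nat_lit 0) [nat_lit 4], .sub (nat_lit 10) [] [], .defn, .rel (nat_lit 40) (nat_lit 4) [nat_lit 2, nat_lit 3, nat_lit 4, nat_lit 2]],
  [.rel (nat_lit 12) (nat_lit 0) [nat_lit 6], .defn, .rel (nat_lit 42) (nat_lit 3) [nat_lit 4, nat_lit 6, nat_lit 4], .rel (nat_lit 46) (nat_lit 5) [nat_lit 3, nat_lit 6, nat_lit 3, nat_lit 6, nat_lit 3], .rel (nat_lit 44) (nat_lit 3) [nat_lit 1, nat_lit 6, nat_lit 1, nat_lit 6, nat_lit 1], .rel (nat_lit 44) (nat_lit 5) [nat_lit 1, nat_lit 6, nat_lit 1, nat_lit 6, nat_lit 1]]]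
noncomputable def c3 : TCert := ⟨20, 7, 31, T3, I3, D3, [[nat_lit 0],
  [nat_lit 1],
  [nat_lit 2],
  [nat_lit 3],
  [nat_lit 4],
  [nat_lit 5]], RL3⟩
noncomputable def Pt3d : ℕ := nat_lit 0x746c57d61362572a20e433543
noncomputable def Pt3 (u : ℕ) : ℕ := Nat.land (Nat.shiftRight Pt3d (Nat.mul u (nat_lit 5))) (nat_lit 31)
noncomputable def Q3d : ℕ := nat_lit 0x45c76224d7cc4b4854628e0400000
noncomputable def Q3 (u : ℕ) : ℕ := Nat.land (Nat.shiftRight Q3d (Nat.mul u (nat_lit 5))) (nat_lit 31)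
noncomputable def l3 : H16.Lev := ⟨20, 7, D3, Pt3, Q3⟩
noncomputable def T4d : List ℕ := [nat_lit 0x38b4,
  nat_lit 0x9b4,
  nat_lit 0x38b4,
  nat_lit 0x9b4,
  nat_lit 0x41d5,
  nat_lit 0x2616]
noncomputable def T4 (k u : ℕ) : ℕ := Nat.land (Nat.shiftRight (nth (nat_lit 0) T4d k) (Nat.mul u (nat_lit 5))) (nat_lit 31)
noncomputable def I4d : List ℕ := [nat_lit 0x18,
  nat_lit 1,
  nat_lit 0x18,
  nat_lit 1,
  nat_lit 9,
  nat_lit 1]
noncomputable def I4 (k u : ℕ) : ℕ := Nat.land (Nat.shiftRight (nth (nat_lit 0) I4d k) (Nat.mul u (nat_lit 2))) (nat_lit 3)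
noncomputable def D4d : ℕ := nat_lit 0x160
noncomputable def D4 (u : ℕ) : ℕ := Nat.land (Nat.shiftRight D4d (Nat.mul u (nat_lit 3))) (nat_lit 7)
noncomputable def RL4 : List (List Rule) := [[.sub (nat_lit 0) [] [], .rel (nat_lit 34) (nat_lit 0) [nat_lit 4, nat_lit 1, nat_lit 5], .rel (nat_lit 36) (nat_lit 0) [nat_lit 1, nat_lit 4, nat_lit 0, nat_lit 5]],
  [.rel (nat_lit 34) (nat_lit 2) [nat_lit 5, nat_lit 0, nat_lit 4], .sub (nat_lit 2) [] []],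
  [.sub (nat_lit 4) [] [], .rel (nat_lit 38) (nat_lit 0) [nat_lit 4, nat_lit 3, nat_lit 5], .rel (nat_lit 40) (nat_lit 0) [nat_lit 3, nat_lit 4, nat_lit 2, nat_lit 5]],
  [.rel (nat_lit 38) (nat_lit 2) [nat_lit 5, nat_lit 2, nat_lit 4], .sub (nat_lit 6) [] []],
  [.rel (nat_lit 8) (nat_lit 0) [nat_lit 5], .defn, .rel (nat_lit 32) (nat_lit 2) [nat_lit 4, nat_lit 4]],
  [.rel (nat_lit 10) (nat_lit 0) [nat_lit 4], .defn]]
noncomputable def c4 : TCert := ⟨3, 6, 3, T4, I4, D4, [[nat_lit 0],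
  [nat_lit 1],
  [nat_lit 2],
  [nat_lit 3]], RL4⟩
noncomputable def Pt4d : ℕ := nat_lit 0x45c5
noncomputable def Pt4 (u : ℕ) : ℕ := Nat.land (Nat.shiftRight Pt4d (Nat.mul u (nat_lit 5))) (nat_lit 31)
noncomputable def Q4d : ℕ := nat_lit 0x810000000
noncomputable def Q4 (u : ℕ) : ℕ := Nat.land (Nat.shiftRight Q4d (Nat.mul u (nat_lit 2))) (nat_lit 3)
noncomputable def l4 : H16.Lev := ⟨3, 6, D4, Pt4, Q4⟩
noncomputable def T5d : List ℕ := [nat_lit 0x6e5f8a89887d7c7ba4a3a2979695b0c1,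
  nat_lit 0x3d5a2fa7a64e74739c9bb16968b0c5c2,
  nat_lit 0xac59179fb5344eb20db1cb2ab0c8c6c3,
  nat_lit 0xbbb8b6b5cfb3b2ceb1cdccb0cac9c7c4]
noncomputable def T5 (k u : ℕ) : ℕ := Nat.land (Nat.shiftRight (nth (nat_lit 0) T5d k) (Nat.mul u (nat_lit 8))) (nat_lit 255)
noncomputable def I5d : List ℕ := [nat_lit 0x209a00d18002,
  nat_lit 0x344609000012,
  nat_lit 0x690100008049,
  nat_lit 0x201048249]
noncomputable def I5 (k u : ℕ) : ℕ := Nat.land (Nat.shiftRight (nth (nat_lit 0) I5d k) (Nat.mul u (nat_lit 3))) (nat_lit 7)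
noncomputable def D5d : ℕ := nat_lit 0xbe36d758f2ca1c6143081000
noncomputable def D5 (u : ℕ) : ℕ := Nat.land (Nat.shiftRight D5d (Nat.mul u (nat_lit 6))) (nat_lit 63)
noncomputable def RL5 : List (List Rule) := [[.rel (nat_lit 0) (nat_lit 0) [nat_lit 0], .rel (nat_lit 30) (nat_lit 2) [nat_lit 3, nat_lit 0, nat_lit 3], .defn, .rel (nat_lit 26) (nat_lit 0) [nat_lit 1, nat_lit 0, nat_lit 1], .rel (nat_lit 28) (nat_lit 0) [nat_lit 2, nat_lit 0, nat_lit 2], .rel (nat_lit 28) (nat_lit 2) [nat_lit 2, nat_lit 0, nat_lit 2], .rel (nat_lit 30) (nat_lit 0) [nat_lit 3, nat_lit 0, nat_lit 3]],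
  [.rel (nat_lit 2) (nat_lit 0) [nat_lit 1], .rel (nat_lit 26) (nat_lit 3) [nat_lit 0, nat_lit 1, nat_lit 0], .defn, .rel (nat_lit 22) (nat_lit 0) [nat_lit 2, nat_lit 1, nat_lit 2], .rel (nat_lit 24) (nat_lit 0) [nat_lit 3, nat_lit 1, nat_lit 3], .rel (nat_lit 24) (nat_lit 2) [nat_lit 3, nat_lit 1, nat_lit 3]],
  [.rel (nat_lit 4) (nat_lit 0) [nat_lit 2], .defn, .rel (nat_lit 28) (nat_lit 3) [nat_lit 0, nat_lit 2, nat_lit 0], .rel (nat_lit 20) (nat_lit 0) [nat_lit 3, nat_lit 2, nat_lit 3], .rel (nat_lit 22) (nat_lit 3) [nat_lit 1, nat_lit 2, nat_lit 1]],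
  [.rel (nat_lit 6) (nat_lit 0) [nat_lit 3], .defn]]
noncomputable def c5 : TCert := ⟨16, 4, 15, T5, I5, D5, [], RL5⟩
noncomputable def Pt5d : ℕ := nat_lit 0x8264f41ec6ab66c52e84
noncomputable def Pt5 (u : ℕ) : ℕ := Nat.land (Nat.shiftRight Pt5d (Nat.mul u (nat_lit 5))) (nat_lit 31)
noncomputable def Q5d : ℕ := nat_lit 0x9715d0fc06423eba8000000
noncomputable def Q5 (u : ℕ) : ℕ := Nat.land (Nat.shiftRight Q5d (Nat.mul u (nat_lit 4))) (nat_lit 15)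
noncomputable def l5 : H16.Lev := ⟨16, 4, D5, Pt5, Q5⟩
noncomputable def B : List ℕ := [nat_lit 0, nat_lit 1, nat_lit 2, nat_lit 3, nat_lit 5, nat_lit 4]
noncomputable def L : List H16.Lev := [l0, l1, l2, l3, l4, l5]
noncomputable def Cs : List ℕ := [nat_lit 0xbbd8459e29b39559b606920b418820, nat_lit 0xbb1f3a4232ab916218ed4a8ab18820, nat_lit 0xba64d4562f83a87312d362caa18820, nat_lit 0xbae957b6289ba44b1cd0524ac18820, nat_lit 0xbcd69958b5a44c4829ed621c718820, nat_lit 0xbca0fb4dcb49507aaa862362c18820, nat_lit 0xbcaa59d92b73d0480e2d39a8c50820, nat_lit 0xbceadb48ab33a878290963e2410c20, nat_lit 0xbb56941a30796c7aaa93649c418440, nat_lit 0xbc2545d4b64b9a79a9e66222418801]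

theorem tc0e_a : allZ2 (entryChk T0 (selR RL0 I0) D0 (nat_lit 31) (nat_lit 23) (nat_lit 10)) (nat_lit 10) (nat_lit 23) = true := by decide +kernel
theorem tc0r : rulesChk Rl c0.Sl RL0 (nat_lit 10) = true := by decide +kernel
theorem ivc : ivChk Rl (nat_lit 10) = true := by decide +kernel
theorem lv0e_0 : allZ (l0.ent P) (nat_lit 0) (nat_lit 22) = true := by decide +kernel
theorem lv0b : Nat.blt (Pt0 (nat_lit 0)) (nat_lit 24) = true ∧ Q0 (Pt0 (nat_lit 0)) = 0 ∧ Pt0 (nat_lit 0) = 0 := by decide +kernel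
theorem sb0 : H16.allL (ltAll (nat_lit 9)) c0.Sl = true ∧ fixLetters P (nat_lit 9) (Pt0 (nat_lit 0)) = true := by decide +kernel
theorem tc1e_a : allZ2 (entryChk T1 (selR RL1 I1) D1 (nat_lit 31) (nat_lit 22) (nat_lit 9)) (nat_lit 9) (nat_lit 22) = true := by decide +kernel
theorem tc1r : rulesChk Rl c1.Sl RL1 (nat_lit 9) = true := by decide +kernel
theorem lv1e_0 : allZ (l1.ent P) (nat_lit 0) (nat_lit 21) = true := by decide +kernel
theorem lv1b : Nat.blt (Pt1 (nat_lit 0)) (nat_lit 24) = true ∧ Q1 (Pt1 (nat_lit 0)) = 0 ∧ Pt1 (nat_lit 0) = 1 := by decide +kernel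
theorem sb1 : H16.allL (ltAll (nat_lit 8)) c1.Sl = true ∧ fixLetters P (nat_lit 8) (Pt1 (nat_lit 0)) = true := by decide +kernel
theorem tc2e_a : allZ2 (entryChk T2 (selR RL2 I2) D2 (nat_lit 31) (nat_lit 21) (nat_lit 8)) (nat_lit 8) (nat_lit 21) = true := by decide +kernel
theorem tc2r : rulesChk Rl c2.Sl RL2 (nat_lit 8) = true := by decide +kernel
theorem lv2e_0 : allZ (l2.ent P) (nat_lit 0) (nat_lit 20) = true := by decide +kernel
theorem lv2b : Nat.blt (Pt2 (nat_lit 0)) (nat_lit 24) = true ∧ Q2 (Pt2 (nat_lit 0)) = 0 ∧ Pt2 (nat_lit 0) = 2 := by decide +kernel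
theorem sb2 : H16.allL (ltAll (nat_lit 7)) c2.Sl = true ∧ fixLetters P (nat_lit 7) (Pt2 (nat_lit 0)) = true := by decide +kernel
theorem tc3e_a : allZ2 (entryChk T3 (selR RL3 I3) D3 (nat_lit 31) (nat_lit 20) (nat_lit 7)) (nat_lit 7) (nat_lit 20) = true := by decide +kernel
theorem tc3r : rulesChk Rl c3.Sl RL3 (nat_lit 7) = true := by decide +kernel
theorem lv3e_0 : allZ (l3.ent P) (nat_lit 0) (nat_lit 19) = true := by decide +kernel
theorem lv3b : Nat.blt (Pt3 (nat_lit 0)) (nat_lit 24) = true ∧ Q3 (Pt3 (nat_lit 0)) = 0 ∧ Pt3 (nat_lit 0) = 3 := by decide +kernel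
theorem sb3 : H16.allL (ltAll (nat_lit 6)) c3.Sl = true ∧ fixLetters P (nat_lit 6) (Pt3 (nat_lit 0)) = true := by decide +kernel
theorem tc4e_a : allZ2 (entryChk T4 (selR RL4 I4) D4 (nat_lit 3) (nat_lit 3) (nat_lit 6)) (nat_lit 6) (nat_lit 3) = true := by decide +kernel
theorem tc4r : rulesChk Rl c4.Sl RL4 (nat_lit 6) = true := by decide +kernel
theorem lv4e_0 : allZ (l4.ent P) (nat_lit 0) (nat_lit 2) = true := by decide +kernel
theorem lv4b : Nat.blt (Pt4 (nat_lit 0)) (nat_lit 24) = true ∧ Q4 (Pt4 (nat_lit 0)) = 0 ∧ Pt4 (nat_lit 0) = 5 := by decide +kernel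
theorem sb4 : H16.allL (ltAll (nat_lit 4)) c4.Sl = true ∧ fixLetters P (nat_lit 4) (Pt4 (nat_lit 0)) = true := by decide +kernel
theorem tc5e_a : allZ2 (entryChk T5 (selR RL5 I5) D5 (nat_lit 15) (nat_lit 16) (nat_lit 4)) (nat_lit 4) (nat_lit 16) = true := by decide +kernel
theorem tc5r : rulesChk Rl c5.Sl RL5 (nat_lit 4) = true := by decide +kernel
theorem lv5e_0 : allZ (l5.ent P) (nat_lit 0) (nat_lit 15) = true := by decide +kernel
theorem lv5b : Nat.blt (Pt5 (nat_lit 0)) (nat_lit 24) = true ∧ Q5 (Pt5 (nat_lit 0)) = 0 ∧ Pt5 (nat_lit 0) = 4 := by decide +kernel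
theorem sb5 : H16.allL (ltAll (nat_lit 0)) c5.Sl = true ∧ fixLetters P (nat_lit 0) (Pt5 (nat_lit 0)) = true := by decide +kernel
theorem Blt : ltAll (nat_lit 24) B = 0 := by decide +kernel
theorem ivk : ivLt Rl (nat_lit 10) = true := by decide +kernel
theorem csc : ∀ k < 10, isM (nth 0 Cs k) = true ∧ (∀ i < 24, ap (nth 0 Cs k) i = P k i) ∧ P k 23 = 23 := by decide +kernel
theorem rf : H16.allL (fixRange P (nat_lit 10) (nat_lit 0) (nat_lit 24)) Rl = true := by decide +kernel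

theorem tc0e : ∀ k < 10, ∀ i < 23, (entryChk T0 (selR RL0 I0) D0 (nat_lit 31) (nat_lit 23) (nat_lit 10)) k i = 0 := allZ2_sound tc0e_a
theorem tc0 : c0.OK Rl 10 := ⟨by decide, by decide, by decide, ivc, tc0r, tc0e⟩
theorem lv0e : ∀ i < 22, (l0.ent P) i = 0 := allZ_sound0 lv0e_0
theorem lv0 : l0.OK P 24 := ⟨by decide, by decide, lt_of_blt lv0b.1, lv0b.2.1, lv0e⟩
theorem tc1e : ∀ k < 9, ∀ i < 22, (entryChk T1 (selR RL1 I1) D1 (nat_lit 31) (nat_lit 22) (nat_lit 9)) k i = 0 := allZ2_sound tc1e_a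
theorem tc1 : c1.OK Rl 10 := ⟨by decide, by decide, by decide, ivc, tc1r, tc1e⟩
theorem lv1e : ∀ i < 21, (l1.ent P) i = 0 := allZ_sound0 lv1e_0
theorem lv1 : l1.OK P 24 := ⟨by decide, by decide, lt_of_blt lv1b.1, lv1b.2.1, lv1e⟩
theorem tc2e : ∀ k < 8, ∀ i < 21, (entryChk T2 (selR RL2 I2) D2 (nat_lit 31) (nat_lit 21) (nat_lit 8)) k i = 0 := allZ2_sound tc2e_a
theorem tc2 : c2.OK Rl 10 := ⟨by decide, by decide, by decide, ivc, tc2r, tc2e⟩
theorem lv2e : ∀ i < 20, (l2.ent P) i = 0 := allZ_sound0 lv2e_0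
theorem lv2 : l2.OK P 24 := ⟨by decide, by decide, lt_of_blt lv2b.1, lv2b.2.1, lv2e⟩
theorem tc3e : ∀ k < 7, ∀ i < 20, (entryChk T3 (selR RL3 I3) D3 (nat_lit 31) (nat_lit 20) (nat_lit 7)) k i = 0 := allZ2_sound tc3e_a
theorem tc3 : c3.OK Rl 10 := ⟨by decide, by decide, by decide, ivc, tc3r, tc3e⟩
theorem lv3e : ∀ i < 19, (l3.ent P) i = 0 := allZ_sound0 lv3e_0
theorem lv3 : l3.OK P 24 := ⟨by decide, by decide, lt_of_blt lv3b.1, lv3b.2.1, lv3e⟩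
theorem tc4e : ∀ k < 6, ∀ i < 3, (entryChk T4 (selR RL4 I4) D4 (nat_lit 3) (nat_lit 3) (nat_lit 6)) k i = 0 := allZ2_sound tc4e_a
theorem tc4 : c4.OK Rl 10 := ⟨by decide, by decide, by decide, ivc, tc4r, tc4e⟩
theorem lv4e : ∀ i < 2, (l4.ent P) i = 0 := allZ_sound0 lv4e_0
theorem lv4 : l4.OK P 24 := ⟨by decide, by decide, lt_of_blt lv4b.1, lv4b.2.1, lv4e⟩
theorem tc5e : ∀ k < 4, ∀ i < 16, (entryChk T5 (selR RL5 I5) D5 (nat_lit 15) (nat_lit 16) (nat_lit 4)) k i = 0 := allZ2_sound tc5e_a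
theorem tc5 : c5.OK Rl 10 := ⟨by decide, by decide, by decide, ivc, tc5r, tc5e⟩
theorem lv5e : ∀ i < 15, (l5.ent P) i = 0 := allZ_sound0 lv5e_0
theorem lv5 : l5.OK P 24 := ⟨by decide, by decide, lt_of_blt lv5b.1, lv5b.2.1, lv5e⟩
theorem bound5 : Bound Rl 4 16 := Bound.step' (Bound.zero Rl) tc5 sb5.1 (by decide +kernel)
theorem bound4 : Bound Rl 6 48 := Bound.step' (bound5) tc4 sb4.1 (by decide +kernel)
theorem bound3 : Bound Rl 7 960 := Bound.step' (bound4) tc3 sb3.1 (by decide +kernel)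
theorem bound2 : Bound Rl 8 20160 := Bound.step' (bound3) tc2 sb2.1 (by decide +kernel)
theorem bound1 : Bound Rl 9 443520 := Bound.step' (bound2) tc1 sb1.1 (by decide +kernel)
theorem bound0 : Bound Rl 10 10200960 := Bound.step' (bound1) tc0 sb0.1 (by decide +kernel)
/-- every tuple satisfying `Rl` generates a group of order at most `10200960` -/
theorem bound : Bound Rl 10 10200960 := bound0
theorem chain_of {G Ω : Type*} [Group G] [MulAction G Ω] {g : ℕ → G} {pt : ℕ → Ω}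
    (h : Act g pt P 24 10) (hR : Rels g Rl) : IsChain g pt 24 L :=
  IsChain.cons (L := [l1, l2, l3, l4, l5]) (IsChain.cons (L := [l2, l3, l4, l5]) (IsChain.cons (L := [l3, l4, l5]) (IsChain.cons (L := [l4, l5]) (IsChain.cons (L := [l5]) (IsChain.cons (L := []) (trivial) h hR tc5 lv5 rfl rfl rfl (by decide) sb5.1 sb5.2) h hR tc4 lv4 rfl rfl rfl (by decide) sb4.1 sb4.2) h hR tc3 lv3 rfl rfl rfl (by decide) sb3.1 sb3.2) h hR tc2 lv2 rfl rfl rfl (by decide) sb2.1 sb2.2) h hR tc1 lv1 rfl rfl rfl (by decide) sb1.1 sb1.2) h hR tc0 lv0 rfl rfl rfl (by decide) sb0.1 sb0.2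
theorem base_eq : chainBase L = B := by decide +kernel
/-- the letters -/
noncomputable def g (k : ℕ) : Equiv.Perm Cfsg.GolayPt := H15.P (nth 0 Cs k)
theorem act : Act g pt P 24 10 := fun k hk i hi => (csc k hk).2.1 i hi ▸ isM_rep (csc k hk).1 i hi
theorem inj : PtInj pt 24 := fun _ hi _ hj e => pt_inj hi hj e
theorem rels : Rels g Rl := rels_of_all act (fun a _ h => Equiv.ext fun p => by
  obtain ⟨i, hi, rfl⟩ := exists_pt p
  exact h i hi) (FixUpTo.first rf)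
theorem chain : IsChain g pt 24 L := chain_of act rels
theorem card : Nat.card (gen g 10) = 10200960 := chain.card' inj (by decide +kernel)
theorem isBase : IsBase (gen g 10) pt B := base_eq ▸ chain.isBase inj
theorem gen_eq : gen g 10 = Cfsg.Spor.M23 :=
  Subgroup.eq_of_le_of_card_ge (gen_le.2 fun k hk => mem_M23.2 ⟨isM_mem (csc k hk).1, (act k hk 23 (by norm_num)).2.trans (congrArg pt (csc k hk).2.2)⟩) (card_M23.trans card.symm).le

end H15.MM23
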