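import Cfsg.Agent.H15.Mathieu
import Cfsg.Agent.H16.Facts

/-! Generated by tools/h16 and py/gen_models.py. -/

set_option maxRecDepth 100000
set_option maxHeartbeats 0

namespace H15.MM24

open H16
open scoped Pointwise

noncomputable def Rl : List (List ℕ) := [[nat_lit 0, nat_lit 0],
  [nat_lit 1, nat_lit 1],
  [nat_lit 2, nat_lit 2],
  [nat_lit 3, nat_lit 3],
  [nat_lit 4, nat_lit 5],
  [nat_lit 5, nat_lit 4],
  [nat_lit 6, nat_lit 6],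
  [nat_lit 7, nat_lit 7],
  [nat_lit 8, nat_lit 8],
  [nat_lit 9, nat_lit 9],
  [nat_lit 10, nat_lit 10],
  [nat_lit 2, nat_lit 3, nat_lit 2, nat_lit 3],
  [nat_lit 1, nat_lit 2, nat_lit 1, nat_lit 2],
  [nat_lit 1, nat_lit 3, nat_lit 1, nat_lit 3],
  [nat_lit 0, nat_lit 1, nat_lit 0, nat_lit 1],
  [nat_lit 0, nat_lit 2, nat_lit 0, nat_lit 2],
  [nat_lit 0, nat_lit 3, nat_lit 0, nat_lit 3],
  [nat_lit 4, nat_lit 4, nat_lit 4],
  [nat_lit 0, nat_lit 5, nat_lit 3, nat_lit 4],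
  [nat_lit 0, nat_lit 3, nat_lit 4, nat_lit 3, nat_lit 5],
  [nat_lit 0, nat_lit 2, nat_lit 4, nat_lit 1, nat_lit 5],
  [nat_lit 0, nat_lit 1, nat_lit 2, nat_lit 5, nat_lit 1, nat_lit 4],
  [nat_lit 1, nat_lit 6, nat_lit 1, nat_lit 6, nat_lit 1, nat_lit 6],
  [nat_lit 4, nat_lit 6, nat_lit 4, nat_lit 6, nat_lit 4, nat_lit 6],
  [nat_lit 0, nat_lit 6, nat_lit 2, nat_lit 4, nat_lit 6, nat_lit 3, nat_lit 6],
  [nat_lit 1, nat_lit 7, nat_lit 2, nat_lit 7],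
  [nat_lit 4, nat_lit 7, nat_lit 4, nat_lit 7],
  [nat_lit 6, nat_lit 7, nat_lit 6, nat_lit 7, nat_lit 6, nat_lit 7],
  [nat_lit 4, nat_lit 8, nat_lit 4, nat_lit 8],
  [nat_lit 7, nat_lit 8, nat_lit 7, nat_lit 8],
  [nat_lit 3, nat_lit 8, nat_lit 3, nat_lit 8, nat_lit 3, nat_lit 8],
  [nat_lit 2, nat_lit 6, nat_lit 2, nat_lit 6, nat_lit 8, nat_lit 6, nat_lit 8],
  [nat_lit 2, nat_lit 9, nat_lit 2, nat_lit 9],
  [nat_lit 8, nat_lit 9, nat_lit 8, nat_lit 9, nat_lit 8, nat_lit 9],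
  [nat_lit 4, nat_lit 9, nat_lit 7, nat_lit 9, nat_lit 7],
  [nat_lit 0, nat_lit 2, nat_lit 6, nat_lit 3, nat_lit 5, nat_lit 9, nat_lit 6, nat_lit 9],
  [nat_lit 2, nat_lit 10, nat_lit 2, nat_lit 10],
  [nat_lit 4, nat_lit 10, nat_lit 4, nat_lit 10],
  [nat_lit 8, nat_lit 10, nat_lit 8, nat_lit 10],
  [nat_lit 6, nat_lit 10, nat_lit 6, nat_lit 10],
  [nat_lit 7, nat_lit 10, nat_lit 7, nat_lit 10],
  [nat_lit 9, nat_lit 10, nat_lit 9, nat_lit 10, nat_lit 9, nat_lit 10]]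
noncomputable def Pd : List ℕ := [nat_lit 0xbae957b6289ba44b1cd0524ac18820,
  nat_lit 0xbd6cb22627638cfa224a834b318820,
  nat_lit 0xb926faa22da3a0b6255231cb618820,
  nat_lit 0xba64d4562f83a87312d362caa18820,
  nat_lit 0xbbec66acb4ac52c41e72241ca18820,
  nat_lit 0xbd5f04a1c6b166c911ab5522718820,
  nat_lit 0xb9da32494673eac5c4a8b4133a0820,
  nat_lit 0xba2544d4a65b9ac792763c22a10c20,
  nat_lit 0xbd6ce4a2117d1a159272394ca18980,
  nat_lit 0xbd9f3a222da960c59cd2525c418801,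
  nat_lit 0x56d4220a67b8ec5a5526c23318837]
noncomputable def P (k u : ℕ) : ℕ := Nat.land (Nat.shiftRight (nth (nat_lit 0) Pd k) (Nat.mul u (nat_lit 5))) (nat_lit 31)
noncomputable def T0d : List ℕ := [nat_lit 0x1ee6588a954c1e845194acc66439a5cd06dbd1fa3745e55ca794763f09b0b80f80,
  nat_lit 0x22e5db1ab745e263d69c6a365939c4f47e8d241d6f64e59cafb1f88f0bc0b90f80,
  nat_lit 0xc2e6d89a994c94531e83f1e8f83984172ecb9cfb232de5fd8fc5f89f0dc8ba0f80,
  nat_lit 0x1ae3d87a974b9272e96ce8ecc4baa8f653e5d92f9d10ec7e3fc678af0fa8b70f80,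
  nat_lit 0x26fdb8aa9f6ed0a4fb37518d8852c4b0b5df01ed2a72d49e43c6c2adc7c0ba0f80,
  nat_lit 0x22e7509a9ee4e492398766597e5bb2c8f659112b6f937d5e46c4e87d87b8b90f80,
  nat_lit 0xd2e94fb5f6a4ed5b5d8b902d9d96a914ff2be5303984c5391bc71a8cc7a0ba0f80,
  nat_lit 0xeea753cb9f6810f4b46d497598bb58bcfd57112b83f37cfb177342ae07c8ba0f80,
  nat_lit 0xae43c3a8cc4d19c82807126c22c048f415cf1016a53d0e21852beaec5e0fa0f80,
  nat_lit 0x16e1b86a83455e930f81d152615b52a3259099d04aeb495c1b46a24e47d87c1780,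
  nat_lit 0x16e8506aa36555d9e98511219a3ac492f1d6a4eb6ae4f25c1b52ac8e47d0bb0781]
noncomputable def T0 (k u : ℕ) : ℕ := Nat.land (Nat.shiftRight (nth (nat_lit 0) T0d k) (Nat.mul u (nat_lit 11))) (nat_lit 2047)
noncomputable def I0d : List ℕ := [nat_lit 0x111100703804243200006115,
  nat_lit 0x112210004204671000033115,
  nat_lit 0x118b000741010605002229a3,
  nat_lit 0x111100000110303502222114,
  nat_lit 0x807103020320115254409a36,
  nat_lit 0x102240101000003,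
  nat_lit 0x200063235000110078129ab4,
  nat_lit 0x523b0007613120201089a4,
  nat_lit 0x208033017003102042410695,
  nat_lit 0x278332200020011101036054,
  nat_lit 0x102210100256500434107803]
noncomputable def I0 (k u : ℕ) : ℕ := Nat.land (Nat.shiftRight (nth (nat_lit 0) I0d k) (Nat.mul u (nat_lit 4))) (nat_lit 15)
noncomputable def D0d : ℕ := nat_lit 0xee9f7f745d574746453d3b3a392f2e2d242322211e140a00
noncomputable def D0 (u : ℕ) : ℕ := Nat.land (Nat.shiftRight D0d (Nat.mul u (nat_lit 8))) (nat_lit 255)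
noncomputable def RL0 : List (List Rule) := [[.rel (nat_lit 0) (nat_lit 0) [nat_lit 0], .rel (nat_lit 40) (nat_lit 0) [nat_lit 2, nat_lit 4, nat_lit 1, nat_lit 5], .rel (nat_lit 28) (nat_lit 0) [nat_lit 1, nat_lit 0, nat_lit 1], .rel (nat_lit 30) (nat_lit 0) [nat_lit 2, nat_lit 0, nat_lit 2], .rel (nat_lit 32) (nat_lit 0) [nat_lit 3, nat_lit 0, nat_lit 3], .sub (nat_lit 0) [] [], .defn, .rel (nat_lit 36) (nat_lit 0) [nat_lit 5, nat_lit 3, nat_lit 4], .rel (nat_lit 38) (nat_lit 0) [nat_lit 3, nat_lit 4, nat_lit 3, nat_lit 5]],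
  [.rel (nat_lit 2) (nat_lit 0) [nat_lit 1], .rel (nat_lit 50) (nat_lit 0) [nat_lit 7, nat_lit 2, nat_lit 7], .rel (nat_lit 44) (nat_lit 4) [nat_lit 6, nat_lit 1, nat_lit 6, nat_lit 1, nat_lit 6], .defn, .rel (nat_lit 26) (nat_lit 0) [nat_lit 3, nat_lit 1, nat_lit 3], .sub (nat_lit 2) [] [], .rel (nat_lit 24) (nat_lit 0) [nat_lit 2, nat_lit 1, nat_lit 2], .rel (nat_lit 28) (nat_lit 3) [nat_lit 0, nat_lit 1, nat_lit 0]],
  [.rel (nat_lit 4) (nat_lit 0) [nat_lit 2], .rel (nat_lit 50) (nat_lit 2) [nat_lit 7, nat_lit 1, nat_lit 7], .defn, .sub (nat_lit 4) [] [], .rel (nat_lit 22) (nat_lit 0) [nat_lit 3, nat_lit 2, nat_lit 3], .rel (nat_lit 30) (nat_lit 3) [nat_lit 0, nat_lit 2, nat_lit 0], .rel (nat_lit 40) (nat_lit 1) [nat_lit 4, nat_lit 1, nat_lit 5, nat_lit 0], .rel (nat_lit 42) (nat_lit 2) [nat_lit 5, nat_lit 1, nat_lit 4, nat_lit 0, nat_lit 1], .rel (nat_lit 48) (nat_lit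 2) [nat_lit 4, nat_lit 6, nat_lit 3, nat_lit 6, nat_lit 0, nat_lit 6], .rel (nat_lit 64) (nat_lit 2) [nat_lit 9, nat_lit 2, nat_lit 9], .rel (nat_lit 72) (nat_lit 0) [nat_lit 10, nat_lit 2, nat_lit 10], .rel (nat_lit 72) (nat_lit 2) [nat_lit 10, nat_lit 2, nat_lit 10]],
  [.rel (nat_lit 6) (nat_lit 0) [nat_lit 3], .rel (nat_lit 36) (nat_lit 2) [nat_lit 4, nat_lit 0, nat_lit 5], .defn, .rel (nat_lit 32) (nat_lit 3) [nat_lit 0, nat_lit 3, nat_lit 0], .sub (nat_lit 6) [] [], .rel (nat_lit 38) (nat_lit 1) [nat_lit 4, nat_lit 3, nat_lit 5, nat_lit 0]],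
  [.rel (nat_lit 8) (nat_lit 0) [nat_lit 5], .rel (nat_lit 34) (nat_lit 1) [nat_lit 4, nat_lit 4], .rel (nat_lit 34) (nat_lit 2) [nat_lit 4, nat_lit 4], .rel (nat_lit 74) (nat_lit 0) [nat_lit 10, nat_lit 4, nat_lit 10], .defn, .rel (nat_lit 36) (nat_lit 3) [nat_lit 0, nat_lit 5, nat_lit 3], .sub (nat_lit 8) [] [], .rel (nat_lit 46) (nat_lit 4) [nat_lit 6, nat_lit 4, nat_lit 6, nat_lit 4, nat_lit 6], .rel (nat_lit 52) (nat_lit 2) [nat_lit 7, nat_lit 4, nat_lit 7], .rel (nat_lit 56) (nat_lit 2) [nat_lit 8, nat_lit 4, nat_lit 8], .rel (nat_lit 68) (nat_lit 0) [nat_lit 9, nat_lit 7, nat_lit 9, nat_lit 7]],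
  [.rel (nat_lit 10) (nat_lit 0) [nat_lit 4], .defn, .rel (nat_lit 36) (nat_lit 1) [nat_lit 3, nat_lit 4, nat_lit 0], .sub (nat_lit 10) [] [], .rel (nat_lit 40) (nat_lit 4) [nat_lit 0, nat_lit 2, nat_lit 4, nat_lit 1]],
  [.rel (nat_lit 12) (nat_lit 0) [nat_lit 6], .defn, .rel (nat_lit 54) (nat_lit 4) [nat_lit 7, nat_lit 6, nat_lit 7, nat_lit 6, nat_lit 7], .rel (nat_lit 78) (nat_lit 2) [nat_lit 10, nat_lit 6, nat_lit 10], .sub (nat_lit 12) [] [], .rel (nat_lit 44) (nat_lit 3) [nat_lit 1, nat_lit 6, nat_lit 1, nat_lit 6, nat_lit 1], .rel (nat_lit 46) (nat_lit 3) [nat_lit 4, nat_lit 6, nat_lit 4, nat_lit 6, nat_lit 4], .rel (nat_lit 48) (nat_lit 6) [nat_lit 0, nat_lit 6, nat_lit 2, nat_lit 4, nat_lit 6, nat_lit 3], .rel (nat_lit 62) (nat_lit 1) [nat_lit 2, nat_lit 6, nat_lit 8, nat_lit 6, nat_lit 8, nat_lit 2], .rel (nat_lit 62) (nat_lit 5) [nat_lit 8, nat_lit 2, nat_lit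 6, nat_lit 2, nat_lit 6, nat_lit 8], .rel (nat_lit 70) (nat_lit 2) [nat_lit 3, nat_lit 5, nat_lit 9, nat_lit 6, nat_lit 9, nat_lit 0, nat_lit 2], .rel (nat_lit 78) (nat_lit 0) [nat_lit 10, nat_lit 6, nat_lit 10]],
  [.rel (nat_lit 14) (nat_lit 0) [nat_lit 7], .rel (nat_lit 50) (nat_lit 1) [nat_lit 2, nat_lit 7, nat_lit 1], .rel (nat_lit 52) (nat_lit 1) [nat_lit 4, nat_lit 7, nat_lit 4], .rel (nat_lit 50) (nat_lit 3) [nat_lit 1, nat_lit 7, nat_lit 2], .sub (nat_lit 14) [] [], .defn, .rel (nat_lit 52) (nat_lit 3) [nat_lit 4, nat_lit 7, nat_lit 4], .rel (nat_lit 54) (nat_lit 3) [nat_lit 6, nat_lit 7, nat_lit 6, nat_lit 7, nat_lit 6], .rel (nat_lit 58) (nat_lit 2) [nat_lit 8, nat_lit 7, nat_lit 8], .rel (nat_lit 68) (nat_lit 2) [nat_lit 9, nat_lit 7, nat_lit 4, nat_lit 9], .rel (nat_lit 80) (nat_lit 0) [nat_lit 10, nat_lit 7, nat_lit 10], .rel (nat_lit 80) (nat_lit 2) [nat_lit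 10, nat_lit 7, nat_lit 10]],
  [.rel (nat_lit 16) (nat_lit 0) [nat_lit 8], .rel (nat_lit 56) (nat_lit 3) [nat_lit 4, nat_lit 8, nat_lit 4], .rel (nat_lit 58) (nat_lit 3) [nat_lit 7, nat_lit 8, nat_lit 7], .rel (nat_lit 76) (nat_lit 2) [nat_lit 10, nat_lit 8, nat_lit 10], .rel (nat_lit 60) (nat_lit 3) [nat_lit 3, nat_lit 8, nat_lit 3, nat_lit 8, nat_lit 3], .sub (nat_lit 16) [] [], .defn, .rel (nat_lit 62) (nat_lit 4) [nat_lit 6, nat_lit 8, nat_lit 2, nat_lit 6, nat_lit 2, nat_lit 6], .rel (nat_lit 62) (nat_lit 6) [nat_lit 2, nat_lit 6, nat_lit 2, nat_lit 6, nat_lit 8, nat_lit 6], .rel (nat_lit 76) (nat_lit 0) [nat_lit 10, nat_lit 8, nat_lit 10]],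
  [.rel (nat_lit 18) (nat_lit 0) [nat_lit 9], .rel (nat_lit 64) (nat_lit 3) [nat_lit 2, nat_lit 9, nat_lit 2], .rel (nat_lit 68) (nat_lit 1) [nat_lit 7, nat_lit 9, nat_lit 7, nat_lit 4], .rel (nat_lit 68) (nat_lit 3) [nat_lit 7, nat_lit 4, nat_lit 9, nat_lit 7], .sub (nat_lit 18) [] [], .defn, .rel (nat_lit 66) (nat_lit 3) [nat_lit 8, nat_lit 9, nat_lit 8, nat_lit 9, nat_lit 8], .rel (nat_lit 66) (nat_lit 5) [nat_lit 8, nat_lit 9, nat_lit 8, nat_lit 9, nat_lit 8], .rel (nat_lit 70) (nat_lit 5) [nat_lit 6, nat_lit 9, nat_lit 0, nat_lit 2, nat_lit 6, nat_lit 3, nat_lit 5]],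
  [.rel (nat_lit 20) (nat_lit 0) [nat_lit 10], .rel (nat_lit 80) (nat_lit 3) [nat_lit 7, nat_lit 10, nat_lit 7], .rel (nat_lit 78) (nat_lit 3) [nat_lit 6, nat_lit 10, nat_lit 6], .defn, .rel (nat_lit 72) (nat_lit 3) [nat_lit 2, nat_lit 10, nat_lit 2], .rel (nat_lit 74) (nat_lit 3) [nat_lit 4, nat_lit 10, nat_lit 4], .rel (nat_lit 72) (nat_lit 1) [nat_lit 2, nat_lit 10, nat_lit 2], .rel (nat_lit 76) (nat_lit 3) [nat_lit 8, nat_lit 10, nat_lit 8], .rel (nat_lit 82) (nat_lit 5) [nat_lit 9, nat_lit 10, nat_lit 9, nat_lit 10, nat_lit 9]]]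
noncomputable def c0 : TCert := ⟨24, 11, 31, T0, I0, D0, [[nat_lit 0],
  [nat_lit 1],
  [nat_lit 2],
  [nat_lit 3],
  [nat_lit 4],
  [nat_lit 5],
  [nat_lit 6],
  [nat_lit 7],
  [nat_lit 8],
  [nat_lit 9]], RL0⟩
noncomputable def Pt0d : ℕ := nat_lit 0x114714b64833ab0a2ad33ade460417
noncomputable def Pt0 (u : ℕ) : ℕ := Nat.land (Nat.shiftRight Pt0d (Nat.mul u (nat_lit 5))) (nat_lit 31)
noncomputable def Q0d : ℕ := nat_lit 0x25ab4468c2ba4332a703bec4adc41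
noncomputable def Q0 (u : ℕ) : ℕ := Nat.land (Nat.shiftRight Q0d (Nat.mul u (nat_lit 5))) (nat_lit 31)
noncomputable def l0 : H16.Lev := ⟨24, 11, D0, Pt0, Q0⟩
noncomputable def T1d : List ℕ := [nat_lit 0x3d94a9144a74b9f83d1797549569ea7de73323645c898a714627cc5a0ef0e80,
  nat_lit 0x4590ad545a654177172712b46b6a28c8d915d7a0ccc78af15662d0fa1310e80,
  nat_lit 0x14d95a9344675a555a6f4a191a969a7523992c96633198bb3168ad11a1720e80,
  nat_lit 0x3594a8f44e73a09544c80f99516c70cc854731d1285f98b4768bd13a1ae0e80,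
  nat_lit 0x4db369545eb99f29665ca0e2d89ca8354639934c4d2370f47e8c69380b10e80,
  nat_lit 0x459699345db8c733e2fcca5ab4ae6475c62db1c8cd24c27484a8b4d78b00e80,
  nat_lit 0x16d90966acd27d4d62d05de5af3219129da5349d26347522b2e8d38f60ad0e80,
  nat_lit 0x19d169e965eac9d88dac8d0b2ea6dd05dd729b1c8f624c1af260569388b20e80,
  nat_lit 0x258770b425621c5884f060454750882a63357186c0e5698628a461398741680,
  nat_lit 0x2d8268d40265388588f0e04c81adc41e259c830a83143a712dac18790b30681]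
noncomputable def T1 (k u : ℕ) : ℕ := Nat.land (Nat.shiftRight (nth (nat_lit 0) T1d k) (Nat.mul u (nat_lit 11))) (nat_lit 2047)
noncomputable def I1d : List ℕ := [nat_lit 0x11190800217303260000514,
  nat_lit 0x11220810021657000003314,
  nat_lit 0x119801604150070000222a3,
  nat_lit 0x11110000011010450222213,
  nat_lit 0x70520303053422414110896,
  nat_lit 0x10304010100002,
  nat_lit 0x260003325000110078129a4,
  nat_lit 0x623400074131202010895,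
  nat_lit 0x20401720211400003321065,
  nat_lit 0x25733220002001110103604]
noncomputable def I1 (k u : ℕ) : ℕ := Nat.land (Nat.shiftRight (nth (nat_lit 0) I1d k) (Nat.mul u (nat_lit 4))) (nat_lit 15)
noncomputable def D1d : ℕ := nat_lit 0xcf876a604b4a3736352e2c2b2a21201f17161514120900
noncomputable def D1 (u : ℕ) : ℕ := Nat.land (Nat.shiftRight D1d (Nat.mul u (nat_lit 8))) (nat_lit 255)
noncomputable def RL1 : List (List Rule) := [[.rel (nat_lit 0) (nat_lit 0) [nat_lit 0], .rel (nat_lit 40) (nat_lit 0) [nat_lit 2, nat_lit 4, nat_lit 1, nat_lit 5], .rel (nat_lit 30) (nat_lit 0) [nat_lit 2, nat_lit 0, nat_lit 2], .rel (nat_lit 32) (nat_lit 0) [nat_lit 3, nat_lit 0, nat_lit 3], .sub (nat_lit 0) [] [], .defn, .rel (nat_lit 28) (nat_lit 0) [nat_lit 1, nat_lit 0, nat_lit 1], .rel (nat_lit 28) (nat_lit 2) [nat_lit 1, nat_lit 0, nat_lit 1], .rel (nat_lit 36) (nat_lit 0) [nat_lit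 5, nat_lit 3, nat_lit 4], .rel (nat_lit 38) (nat_lit 0) [nat_lit 3, nat_lit 4, nat_lit 3, nat_lit 5]],
  [.rel (nat_lit 2) (nat_lit 0) [nat_lit 1], .rel (nat_lit 50) (nat_lit 0) [nat_lit 7, nat_lit 2, nat_lit 7], .rel (nat_lit 44) (nat_lit 4) [nat_lit 6, nat_lit 1, nat_lit 6, nat_lit 1, nat_lit 6], .defn, .sub (nat_lit 2) [] [], .rel (nat_lit 24) (nat_lit 0) [nat_lit 2, nat_lit 1, nat_lit 2], .rel (nat_lit 26) (nat_lit 0) [nat_lit 3, nat_lit 1, nat_lit 3], .rel (nat_lit 28) (nat_lit 3) [nat_lit 0, nat_lit 1, nat_lit 0], .rel (nat_lit 42) (nat_lit 1) [nat_lit 2, nat_lit 5, nat_lit 1, nat_lit 4, nat_lit 0]],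
  [.rel (nat_lit 4) (nat_lit 0) [nat_lit 2], .rel (nat_lit 50) (nat_lit 2) [nat_lit 7, nat_lit 1, nat_lit 7], .defn, .sub (nat_lit 4) [] [], .rel (nat_lit 22) (nat_lit 0) [nat_lit 3, nat_lit 2, nat_lit 3], .rel (nat_lit 30) (nat_lit 1) [nat_lit 0, nat_lit 2, nat_lit 0], .rel (nat_lit 30) (nat_lit 3) [nat_lit 0, nat_lit 2, nat_lit 0], .rel (nat_lit 40) (nat_lit 1) [nat_lit 4, nat_lit 1, nat_lit 5, nat_lit 0], .rel (nat_lit 42) (nat_lit 2) [nat_lit 5, nat_lit 1, nat_lit 4, nat_lit 0, nat_lit 1], .rel (nat_lit 48) (nat_lit 2) [nat_lit 4, nat_lit 6, nat_lit 3, nat_lit 6, nat_lit 0, nat_lit 6], .rel (nat_lit 64) (nat_lit 0) [nat_lit 9, nat_lit 2, nat_lit 9]],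
  [.rel (nat_lit 6) (nat_lit 0) [nat_lit 3], .rel (nat_lit 36) (nat_lit 2) [nat_lit 4, nat_lit 0, nat_lit 5], .defn, .sub (nat_lit 6) [] [], .rel (nat_lit 32) (nat_lit 3) [nat_lit 0, nat_lit 3, nat_lit 0], .rel (nat_lit 38) (nat_lit 1) [nat_lit 4, nat_lit 3, nat_lit 5, nat_lit 0]],
  [.rel (nat_lit 8) (nat_lit 0) [nat_lit 5], .defn, .rel (nat_lit 34) (nat_lit 1) [nat_lit 4, nat_lit 4], .rel (nat_lit 34) (nat_lit 2) [nat_lit 4, nat_lit 4], .rel (nat_lit 36) (nat_lit 3) [nat_lit 0, nat_lit 5, nat_lit 3], .rel (nat_lit 46) (nat_lit 4) [nat_lit 6, nat_lit 4, nat_lit 6, nat_lit 4, nat_lit 6], .sub (nat_lit 8) [] [], .rel (nat_lit 52) (nat_lit 2) [nat_lit 7, nat_lit 4, nat_lit 7], .rel (nat_lit 56) (nat_lit 2) [nat_lit 8, nat_lit 4, nat_lit 8], .rel (nat_lit 68) (nat_lit 0) [nat_lit 9, nat_lit 7, nat_lit 9, nat_lit 7]],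
  [.rel (nat_lit 10) (nat_lit 0) [nat_lit 4], .defn, .sub (nat_lit 10) [] [], .rel (nat_lit 36) (nat_lit 1) [nat_lit 3, nat_lit 4, nat_lit 0], .rel (nat_lit 40) (nat_lit 4) [nat_lit 0, nat_lit 2, nat_lit 4, nat_lit 1]],
  [.rel (nat_lit 12) (nat_lit 0) [nat_lit 6], .defn, .rel (nat_lit 54) (nat_lit 4) [nat_lit 7, nat_lit 6, nat_lit 7, nat_lit 6, nat_lit 7], .rel (nat_lit 46) (nat_lit 3) [nat_lit 4, nat_lit 6, nat_lit 4, nat_lit 6, nat_lit 4], .sub (nat_lit 12) [] [], .rel (nat_lit 44) (nat_lit 3) [nat_lit 1, nat_lit 6, nat_lit 1, nat_lit 6, nat_lit 1], .rel (nat_lit 48) (nat_lit 4) [nat_lit 3, nat_lit 6, nat_lit 0, nat_lit 6, nat_lit 2, nat_lit 4], .rel (nat_lit 48) (nat_lit 6) [nat_lit 0, nat_lit 6, nat_lit 2, nat_lit 4, nat_lit 6, nat_lit 3], .rel (nat_lit 62) (nat_lit 1) [nat_lit 2, nat_lit 6, nat_lit 8, nat_lit 6, nat_lit 8, nat_lit 2], .rel (nat_lit 62) (nat_lit 5)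 [nat_lit 8, nat_lit 2, nat_lit 6, nat_lit 2, nat_lit 6, nat_lit 8], .rel (nat_lit 70) (nat_lit 2) [nat_lit 3, nat_lit 5, nat_lit 9, nat_lit 6, nat_lit 9, nat_lit 0, nat_lit 2]],
  [.rel (nat_lit 14) (nat_lit 0) [nat_lit 7], .rel (nat_lit 50) (nat_lit 1) [nat_lit 2, nat_lit 7, nat_lit 1], .rel (nat_lit 52) (nat_lit 1) [nat_lit 4, nat_lit 7, nat_lit 4], .rel (nat_lit 50) (nat_lit 3) [nat_lit 1, nat_lit 7, nat_lit 2], .rel (nat_lit 52) (nat_lit 3) [nat_lit 4, nat_lit 7, nat_lit 4], .sub (nat_lit 14) [] [], .defn, .rel (nat_lit 54) (nat_lit 3) [nat_lit 6, nat_lit 7, nat_lit 6, nat_lit 7, nat_lit 6], .rel (nat_lit 58) (nat_lit 2) [nat_lit 8, nat_lit 7, nat_lit 8], .rel (nat_lit 68) (nat_lit 2) [nat_lit 9, nat_lit 7, nat_lit 4, nat_lit 9]],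
  [.rel (nat_lit 16) (nat_lit 0) [nat_lit 8], .rel (nat_lit 56) (nat_lit 3) [nat_lit 4, nat_lit 8, nat_lit 4], .rel (nat_lit 58) (nat_lit 3) [nat_lit 7, nat_lit 8, nat_lit 7], .rel (nat_lit 60) (nat_lit 3) [nat_lit 3, nat_lit 8, nat_lit 3, nat_lit 8, nat_lit 3], .rel (nat_lit 62) (nat_lit 4) [nat_lit 6, nat_lit 8, nat_lit 2, nat_lit 6, nat_lit 2, nat_lit 6], .sub (nat_lit 16) [] [], .defn, .rel (nat_lit 60) (nat_lit 5) [nat_lit 3, nat_lit 8, nat_lit 3, nat_lit 8, nat_lit 3]],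
  [.rel (nat_lit 18) (nat_lit 0) [nat_lit 9], .rel (nat_lit 64) (nat_lit 3) [nat_lit 2, nat_lit 9, nat_lit 2], .rel (nat_lit 68) (nat_lit 1) [nat_lit 7, nat_lit 9, nat_lit 7, nat_lit 4], .rel (nat_lit 68) (nat_lit 3) [nat_lit 7, nat_lit 4, nat_lit 9, nat_lit 7], .defn, .rel (nat_lit 66) (nat_lit 3) [nat_lit 8, nat_lit 9, nat_lit 8, nat_lit 9, nat_lit 8], .rel (nat_lit 66) (nat_lit 5) [nat_lit 8, nat_lit 9, nat_lit 8, nat_lit 9, nat_lit 8], .rel (nat_lit 70) (nat_lit 5) [nat_lit 6, nat_lit 9, nat_lit 0, nat_lit 2, nat_lit 6, nat_lit 3, nat_lit 5]]]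
noncomputable def c1 : TCert := ⟨23, 10, 31, T1, I1, D1, [[nat_lit 0],
  [nat_lit 1],
  [nat_lit 2],
  [nat_lit 3],
  [nat_lit 4],
  [nat_lit 5],
  [nat_lit 6],
  [nat_lit 7],
  [nat_lit 8]], RL1⟩
noncomputable def Pt1d : ℕ := nat_lit 0x8a38a5b2419d58515699d6f23020
noncomputable def Pt1 (u : ℕ) : ℕ := Nat.land (Nat.shiftRight Pt1d (Nat.mul u (nat_lit 5))) (nat_lit 31)
noncomputable def Q1d : ℕ := nat_lit 0x218a3c26b236222a64f33aa3a5820
noncomputable def Q1 (u : ℕ) : ℕ := Nat.land (Nat.shiftRight Q1d (Nat.mul u (nat_lit 5))) (nat_lit 31)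
noncomputable def l1 : H16.Lev := ⟨23, 10, D1, Pt1, Q1⟩
noncomputable def T2d : List ℕ := [nat_lit 0x6aa741e68caa6bcf760eaa98a8c392f38d5da5b4968ec4587b0d706f15e0,
  nat_lit 0x7a9f4ae6ac897acd2a2da15858c40f696d238e3d770ac5589b8379af1de0,
  nat_lit 0x2aaa9422684a6428a49c8bed2d2c30c9c2e1cb1b845aec6dc1bd379ef25e0,
  nat_lit 0x5aa741a694a83909856f9ae220c89f70c985c29e303ae0dedbd57a2f2de0,
  nat_lit 0x8adcc266b52e35b1b896bdb52f290e624b6b059477c2b15eebd6ca2d0de0,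
  nat_lit 0x7aab2226b32c85c6b1d710a4df4b86e34b53428d77c5745ef98f516c0de0,
  nat_lit 0x2aa9f1b93720ea18b55eb38a55c32e04b6f9df2a8a60ab3d84bd869ad0de0,
  nat_lit 0x2e9ab2beab51832f0a5711d5554ca9eb36b4b428dcbc572d63b08ca2d0de0,
  nat_lit 0x3a8cd1264283309005c03c7a0c90ce4c8562c2096146d28a4106ba2e05e1]
noncomputable def T2 (k u : ℕ) : ℕ := Nat.land (Nat.shiftRight (nth (nat_lit 0) T2d k) (Nat.mul u (nat_lit 11))) (nat_lit 2047)
noncomputable def I2d : List ℕ := [nat_lit 0x1119180001620275000043,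
  nat_lit 0x1122081002165700000334,
  nat_lit 0x1198517041600000002223,
  nat_lit 0x1111400001101005022223,
  nat_lit 0x7052030305342201411086,
  nat_lit 0x1020401012003,
  nat_lit 0x2600033250001100781294,
  nat_lit 0x52630007311120201084,
  nat_lit 0x2040132021140000362105]
noncomputable def I2 (k u : ℕ) : ℕ := Nat.land (Nat.shiftRight (nth (nat_lit 0) I2d k) (Nat.mul u (nat_lit 4))) (nat_lit 15)
noncomputable def D2d : ℕ := nat_lit 0xb271574e3b3a292827211f1e1d1514130c0b0a090800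
noncomputable def D2 (u : ℕ) : ℕ := Nat.land (Nat.shiftRight D2d (Nat.mul u (nat_lit 8))) (nat_lit 255)
noncomputable def RL2 : List (List Rule) := [[.rel (nat_lit 0) (nat_lit 0) [nat_lit 0], .rel (nat_lit 40) (nat_lit 0) [nat_lit 2, nat_lit 4, nat_lit 1, nat_lit 5], .rel (nat_lit 32) (nat_lit 0) [nat_lit 3, nat_lit 0, nat_lit 3], .sub (nat_lit 0) [] [], .defn, .rel (nat_lit 28) (nat_lit 0) [nat_lit 1, nat_lit 0, nat_lit 1], .rel (nat_lit 28) (nat_lit 2) [nat_lit 1, nat_lit 0, nat_lit 1], .rel (nat_lit 30) (nat_lit 0) [nat_lit 2, nat_lit 0, nat_lit 2], .rel (nat_lit 36) (nat_lit 0) [nat_lit 5, nat_lit 3, nat_lit 4], .rel (nat_lit 38) (nat_lit 0) [nat_lit 3, nat_lit 4, nat_lit 3, nat_lit 5]],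
  [.rel (nat_lit 2) (nat_lit 0) [nat_lit 1], .rel (nat_lit 50) (nat_lit 0) [nat_lit 7, nat_lit 2, nat_lit 7], .rel (nat_lit 44) (nat_lit 4) [nat_lit 6, nat_lit 1, nat_lit 6, nat_lit 1, nat_lit 6], .defn, .sub (nat_lit 2) [] [], .rel (nat_lit 24) (nat_lit 0) [nat_lit 2, nat_lit 1, nat_lit 2], .rel (nat_lit 26) (nat_lit 0) [nat_lit 3, nat_lit 1, nat_lit 3], .rel (nat_lit 28) (nat_lit 3) [nat_lit 0, nat_lit 1, nat_lit 0], .rel (nat_lit 42) (nat_lit 1) [nat_lit 2, nat_lit 5, nat_lit 1, nat_lit 4, nat_lit 0]],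
  [.rel (nat_lit 4) (nat_lit 0) [nat_lit 2], .rel (nat_lit 50) (nat_lit 2) [nat_lit 7, nat_lit 1, nat_lit 7], .defn, .sub (nat_lit 4) [] [], .rel (nat_lit 22) (nat_lit 0) [nat_lit 3, nat_lit 2, nat_lit 3], .rel (nat_lit 22) (nat_lit 2) [nat_lit 3, nat_lit 2, nat_lit 3], .rel (nat_lit 30) (nat_lit 1) [nat_lit 0, nat_lit 2, nat_lit 0], .rel (nat_lit 30) (nat_lit 3) [nat_lit 0, nat_lit 2, nat_lit 0], .rel (nat_lit 42) (nat_lit 2) [nat_lit 5, nat_lit 1, nat_lit 4, nat_lit 0, nat_lit 1], .rel (nat_lit 48) (nat_lit 2) [nat_lit 4, nat_lit 6, nat_lit 3, nat_lit 6, nat_lit 0, nat_lit 6]],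
  [.rel (nat_lit 6) (nat_lit 0) [nat_lit 3], .rel (nat_lit 36) (nat_lit 2) [nat_lit 4, nat_lit 0, nat_lit 5], .defn, .sub (nat_lit 6) [] [], .rel (nat_lit 32) (nat_lit 1) [nat_lit 0, nat_lit 3, nat_lit 0], .rel (nat_lit 38) (nat_lit 1) [nat_lit 4, nat_lit 3, nat_lit 5, nat_lit 0]],
  [.rel (nat_lit 8) (nat_lit 0) [nat_lit 5], .defn, .rel (nat_lit 34) (nat_lit 1) [nat_lit 4, nat_lit 4], .rel (nat_lit 34) (nat_lit 2) [nat_lit 4, nat_lit 4], .rel (nat_lit 36) (nat_lit 3) [nat_lit 0, nat_lit 5, nat_lit 3], .rel (nat_lit 46) (nat_lit 4) [nat_lit 6, nat_lit 4, nat_lit 6, nat_lit 4, nat_lit 6], .sub (nat_lit 8) [] [], .rel (nat_lit 52) (nat_lit 2) [nat_lit 7, nat_lit 4, nat_lit 7], .rel (nat_lit 56) (nat_lit 0) [nat_lit 8, nat_lit 4, nat_lit 8]],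
  [.rel (nat_lit 10) (nat_lit 0) [nat_lit 4], .defn, .rel (nat_lit 36) (nat_lit 1) [nat_lit 3, nat_lit 4, nat_lit 0], .sub (nat_lit 10) [] [], .rel (nat_lit 40) (nat_lit 4) [nat_lit 0, nat_lit 2, nat_lit 4, nat_lit 1]],
  [.rel (nat_lit 12) (nat_lit 0) [nat_lit 6], .defn, .rel (nat_lit 54) (nat_lit 4) [nat_lit 7, nat_lit 6, nat_lit 7, nat_lit 6, nat_lit 7], .rel (nat_lit 46) (nat_lit 3) [nat_lit 4, nat_lit 6, nat_lit 4, nat_lit 6, nat_lit 4], .sub (nat_lit 12) [] [], .rel (nat_lit 44) (nat_lit 3) [nat_lit 1, nat_lit 6, nat_lit 1, nat_lit 6, nat_lit 1], .rel (nat_lit 48) (nat_lit 4) [nat_lit 3, nat_lit 6, nat_lit 0, nat_lit 6, nat_lit 2, nat_lit 4], .rel (nat_lit 48) (nat_lit 6) [nat_lit 0, nat_lit 6, nat_lit 2, nat_lit 4, nat_lit 6, nat_lit 3], .rel (nat_lit 62) (nat_lit 1) [nat_lit 2, nat_lit 6, nat_lit 8, nat_lit 6, nat_lit 8, nat_lit 2], .rel (nat_lit 62) (nat_lit 5)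 [nat_lit 8, nat_lit 2, nat_lit 6, nat_lit 2, nat_lit 6, nat_lit 8]],
  [.rel (nat_lit 14) (nat_lit 0) [nat_lit 7], .rel (nat_lit 50) (nat_lit 1) [nat_lit 2, nat_lit 7, nat_lit 1], .rel (nat_lit 52) (nat_lit 1) [nat_lit 4, nat_lit 7, nat_lit 4], .rel (nat_lit 52) (nat_lit 3) [nat_lit 4, nat_lit 7, nat_lit 4], .sub (nat_lit 14) [] [], .defn, .rel (nat_lit 50) (nat_lit 3) [nat_lit 1, nat_lit 7, nat_lit 2], .rel (nat_lit 54) (nat_lit 3) [nat_lit 6, nat_lit 7, nat_lit 6, nat_lit 7, nat_lit 6], .rel (nat_lit 58) (nat_lit 0) [nat_lit 8, nat_lit 7, nat_lit 8]],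
  [.rel (nat_lit 16) (nat_lit 0) [nat_lit 8], .rel (nat_lit 56) (nat_lit 3) [nat_lit 4, nat_lit 8, nat_lit 4], .rel (nat_lit 58) (nat_lit 3) [nat_lit 7, nat_lit 8, nat_lit 7], .rel (nat_lit 60) (nat_lit 5) [nat_lit 3, nat_lit 8, nat_lit 3, nat_lit 8, nat_lit 3], .rel (nat_lit 62) (nat_lit 4) [nat_lit 6, nat_lit 8, nat_lit 2, nat_lit 6, nat_lit 2, nat_lit 6], .defn, .rel (nat_lit 60) (nat_lit 3) [nat_lit 3, nat_lit 8, nat_lit 3, nat_lit 8, nat_lit 3]]]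
noncomputable def c2 : TCert := ⟨22, 9, 31, T2, I2, D2, [[nat_lit 0],
  [nat_lit 1],
  [nat_lit 2],
  [nat_lit 3],
  [nat_lit 4],
  [nat_lit 5],
  [nat_lit 6],
  [nat_lit 7]], RL2⟩
noncomputable def Pt2d : ℕ := nat_lit 0x451c52d920ceac28ab4ceb79181
noncomputable def Pt2 (u : ℕ) : ℕ := Nat.land (Nat.shiftRight Pt2d (Nat.mul u (nat_lit 5))) (nat_lit 31)
noncomputable def Q2d : ℕ := nat_lit 0x1d6933e4a1b2012222e2b6829d400
noncomputable def Q2 (u : ℕ) : ℕ := Nat.land (Nat.shiftRight Q2d (Nat.mul u (nat_lit 5))) (nat_lit 31)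
noncomputable def l2 : H16.Lev := ⟨22, 9, D2, Pt2, Q2⟩
noncomputable def T3d : List ℕ := [nat_lit 0xd41667c376212e4e1ba846d1e4dc97924ede1fc2f85709e85d8f70f60,
  nat_lit 0xf42a7d37952485960bbb96c555fc47a1a3050c99f56742ed3d9390f60,
  nat_lit 0x1341a6cbfa4f476a413aa5f44a5bd0fb8e26ee1923a176ced5d9790f60,
  nat_lit 0x54166dc5c91cc8d2239d51b0e86f3647e65949d0b444c7ed7d9b60f60,
  nat_lit 0x74ee686c359191855dcef594cc0901ad2f42e51dbf61f6db93d9f90f60,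
  nat_lit 0x713e9db44b81d2e8ddd3a216cb9b13ef1f07e84faac4e2bd4bda380f60,
  nat_lit 0x12f3245ccb5209229d14e680c356544f86e7e11c0fb7704dcdd07b1760,
  nat_lit 0x693d6954699210615b3ac4eacb86bbeb6ee7e1091b72705bd7c8ba0761]
noncomputable def T3 (k u : ℕ) : ℕ := Nat.land (Nat.shiftRight (nth (nat_lit 0) T3d k) (Nat.mul u (nat_lit 11))) (nat_lit 2047)
noncomputable def I3d : List ℕ := [nat_lit 0xb20169a10875000000423,
  nat_lit 0x440672213000030001125,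
  nat_lit 0x220003520001013011124,
  nat_lit 0x110450100016000112213,
  nat_lit 0x30020130022031510164,
  nat_lit 0x3010201011000030204,
  nat_lit 0x860150093100017230024,
  nat_lit 0x12023413000013021405]
noncomputable def I3 (k u : ℕ) : ℕ := Nat.land (Nat.shiftRight (nth (nat_lit 0) I3d k) (Nat.mul u (nat_lit 4))) (nat_lit 15)
noncomputable def D3d : ℕ := nat_lit 0x75e9a653a68b92223668c95284c9112038380
noncomputable def D3 (u : ℕ) : ℕ := Nat.land (Nat.shiftRight D3d (Nat.mul u (nat_lit 7))) (nat_lit 127)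
noncomputable def RL3 : List (List Rule) := [[.rel (nat_lit 0) (nat_lit 0) [nat_lit 0], .rel (nat_lit 30) (nat_lit 2) [nat_lit 2, nat_lit 0, nat_lit 2], .rel (nat_lit 40) (nat_lit 0) [nat_lit 2, nat_lit 4, nat_lit 1, nat_lit 5], .sub (nat_lit 0) [] [], .defn, .rel (nat_lit 28) (nat_lit 0) [nat_lit 1, nat_lit 0, nat_lit 1], .rel (nat_lit 28) (nat_lit 2) [nat_lit 1, nat_lit 0, nat_lit 1], .rel (nat_lit 30) (nat_lit 0) [nat_lit 2, nat_lit 0, nat_lit 2], .rel (nat_lit 32) (nat_lit 0) [nat_lit 3, nat_lit 0, nat_lit 3], .rel (nat_lit 36) (nat_lit 0) [nat_lit 5, nat_lit 3, nat_lit 4], .rel (nat_lit 38) (nat_lit 0) [nat_lit 3, nat_lit 4, nat_lit 3, nat_lit 5], .rel (nat_lit 42) (nat_lit 0) [nat_lit 1, nat_lit 2, nat_lit 5, nat_lit 1, nat_lit 4]],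
  [.rel (nat_lit 2) (nat_lit 0) [nat_lit 1], .defn, .rel (nat_lit 50) (nat_lit 0) [nat_lit 7, nat_lit 2, nat_lit 7], .rel (nat_lit 28) (nat_lit 3) [nat_lit 0, nat_lit 1, nat_lit 0], .rel (nat_lit 44) (nat_lit 2) [nat_lit 6, nat_lit 1, nat_lit 6, nat_lit 1, nat_lit 6], .sub (nat_lit 2) [] [], .rel (nat_lit 24) (nat_lit 0) [nat_lit 2, nat_lit 1, nat_lit 2], .rel (nat_lit 24) (nat_lit 2) [nat_lit 2, nat_lit 1, nat_lit 2]],
  [.rel (nat_lit 4) (nat_lit 0) [nat_lit 2], .defn, .rel (nat_lit 50) (nat_lit 2) [nat_lit 7, nat_lit 1, nat_lit 7], .rel (nat_lit 22) (nat_lit 0) [nat_lit 3, nat_lit 2, nat_lit 3], .sub (nat_lit 4) [] [], .rel (nat_lit 40) (nat_lit 1) [nat_lit 4, nat_lit 1, nat_lit 5, nat_lit 0]],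
  [.rel (nat_lit 6) (nat_lit 0) [nat_lit 3], .rel (nat_lit 36) (nat_lit 2) [nat_lit 4, nat_lit 0, nat_lit 5], .defn, .sub (nat_lit 6) [] [], .rel (nat_lit 26) (nat_lit 3) [nat_lit 1, nat_lit 3, nat_lit 1], .rel (nat_lit 32) (nat_lit 1) [nat_lit 0, nat_lit 3, nat_lit 0], .rel (nat_lit 32) (nat_lit 3) [nat_lit 0, nat_lit 3, nat_lit 0]],
  [.rel (nat_lit 8) (nat_lit 0) [nat_lit 5], .defn, .rel (nat_lit 34) (nat_lit 1) [nat_lit 4, nat_lit 4], .rel (nat_lit 34) (nat_lit 2) [nat_lit 4, nat_lit 4], .sub (nat_lit 8) [] [], .rel (nat_lit 48) (nat_lit 3) [nat_lit 6, nat_lit 3, nat_lit 6, nat_lit 0, nat_lit 6, nat_lit 2], .rel (nat_lit 52) (nat_lit 0) [nat_lit 7, nat_lit 4, nat_lit 7]],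
  [.rel (nat_lit 10) (nat_lit 0) [nat_lit 4], .rel (nat_lit 36) (nat_lit 1) [nat_lit 3, nat_lit 4, nat_lit 0], .defn, .rel (nat_lit 40) (nat_lit 4) [nat_lit 0, nat_lit 2, nat_lit 4, nat_lit 1], .sub (nat_lit 10) [] []],
  [.rel (nat_lit 12) (nat_lit 0) [nat_lit 6], .rel (nat_lit 46) (nat_lit 3) [nat_lit 4, nat_lit 6, nat_lit 4, nat_lit 6, nat_lit 4], .defn, .rel (nat_lit 44) (nat_lit 3) [nat_lit 1, nat_lit 6, nat_lit 1, nat_lit 6, nat_lit 1], .sub (nat_lit 12) [] [], .rel (nat_lit 44) (nat_lit 1) [nat_lit 1, nat_lit 6, nat_lit 1, nat_lit 6, nat_lit 1], .rel (nat_lit 46) (nat_lit 5) [nat_lit 4, nat_lit 6, nat_lit 4, nat_lit 6, nat_lit 4], .rel (nat_lit 48) (nat_lit 6) [nat_lit 0, nat_lit 6, nat_lit 2, nat_lit 4, nat_lit 6, nat_lit 3], .rel (nat_lit 54) (nat_lit 2) [nat_lit 7, nat_lit 6, nat_lit 7, nat_lit 6, nat_lit 7], .rel (nat_lit 54) (nat_lit 4) [nat_lit 7, nat_lit 6,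 nat_lit 7, nat_lit 6, nat_lit 7]],
  [.rel (nat_lit 14) (nat_lit 0) [nat_lit 7], .rel (nat_lit 52) (nat_lit 3) [nat_lit 4, nat_lit 7, nat_lit 4], .rel (nat_lit 50) (nat_lit 1) [nat_lit 2, nat_lit 7, nat_lit 1], .rel (nat_lit 50) (nat_lit 3) [nat_lit 1, nat_lit 7, nat_lit 2], .rel (nat_lit 54) (nat_lit 5) [nat_lit 6, nat_lit 7, nat_lit 6, nat_lit 7, nat_lit 6], .defn]]
noncomputable def c3 : TCert := ⟨21, 8, 31, T3, I3, D3, [[nat_lit 0],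
  [nat_lit 1],
  [nat_lit 2],
  [nat_lit 3],
  [nat_lit 4],
  [nat_lit 5],
  [nat_lit 6]], RL3⟩
noncomputable def Pt3d : ℕ := nat_lit 0x58a8874b90c94ed0335ebad062
noncomputable def Pt3 (u : ℕ) : ℕ := Nat.land (Nat.shiftRight Pt3d (Nat.mul u (nat_lit 5))) (nat_lit 31)
noncomputable def Q3d : ℕ := nat_lit 0x246252e682b8cc249ed81e9108000
noncomputable def Q3 (u : ℕ) : ℕ := Nat.land (Nat.shiftRight Q3d (Nat.mul u (nat_lit 5))) (nat_lit 31)
noncomputable def l3 : H16.Lev := ⟨21, 8, D3, Pt3, Q3⟩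
noncomputable def T4d : List ℕ := [nat_lit 0x2262c947e4b563a1876ca7c61a17426839199bb35669cd1a87616c0,
  nat_lit 0xe60cb566895ceda876ed1c48d3b386a259ec958360bd43b2361ec0,
  nat_lit 0x226149276a8d4c9c406a0ad468b3516d0b4bb3ee3ea1d97b27626c0,
  nat_lit 0x2263c9082312d6ea066c6929fa8a2638ebc930f50e079cdb2b62ec0,
  nat_lit 0xd5ba4ce7e11360fa76956a9d760e02d24d43a1f67642d99523636c0,
  nat_lit 0xce5ab71818f3e3a9769ea3997531e7562ccda8614d08b5589363ec0,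
  nat_lit 0x29c6c4c91895504cf520ac196228b828fccda1f416cdd07997506c1]
noncomputable def T4 (k u : ℕ) : ℕ := Nat.land (Nat.shiftRight (nth (nat_lit 0) T4d k) (Nat.mul u (nat_lit 11))) (nat_lit 2047)
noncomputable def I4d : List ℕ := [nat_lit 0x91075111086400000032,
  nat_lit 0x98045671200002000113,
  nat_lit 0x72000620050101401113,
  nat_lit 0x71051136000000013224,
  nat_lit 0x2003212500302161014,
  nat_lit 0x301020000100103024,
  nat_lit 0x13014007510003826002]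
noncomputable def I4 (k u : ℕ) : ℕ := Nat.land (Nat.shiftRight (nth (nat_lit 0) I4d k) (Nat.mul u (nat_lit 4))) (nat_lit 15)
noncomputable def D4d : ℕ := nat_lit 0xc17eaba589d1192e4480f182c509101c300
noncomputable def D4 (u : ℕ) : ℕ := Nat.land (Nat.shiftRight D4d (Nat.mul u (nat_lit 7))) (nat_lit 127)
noncomputable def RL4 : List (List Rule) := [[.rel (nat_lit 0) (nat_lit 0) [nat_lit 0], .rel (nat_lit 36) (nat_lit 0) [nat_lit 5, nat_lit 3, nat_lit 4], .sub (nat_lit 0) [] [], .defn, .rel (nat_lit 28) (nat_lit 0) [nat_lit 1, nat_lit 0, nat_lit 1], .rel (nat_lit 28) (nat_lit 2) [nat_lit 1, nat_lit 0, nat_lit 1], .rel (nat_lit 30) (nat_lit 0) [nat_lit 2, nat_lit 0, nat_lit 2], .rel (nat_lit 30) (nat_lit 2) [nat_lit 2, nat_lit 0, nat_lit 2], .rel (nat_lit 32) (nat_lit 0) [nat_lit 3, nat_lit 0, nat_lit 3], .rel (nat_lit 48) (nat_lit 0) [nat_lit 6, nat_lit 2, nat_lit 4, nat_lit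 6, nat_lit 3, nat_lit 6]],
  [.rel (nat_lit 2) (nat_lit 0) [nat_lit 1], .defn, .rel (nat_lit 28) (nat_lit 3) [nat_lit 0, nat_lit 1, nat_lit 0], .sub (nat_lit 2) [] [], .rel (nat_lit 24) (nat_lit 0) [nat_lit 2, nat_lit 1, nat_lit 2], .rel (nat_lit 24) (nat_lit 2) [nat_lit 2, nat_lit 1, nat_lit 2], .rel (nat_lit 26) (nat_lit 2) [nat_lit 3, nat_lit 1, nat_lit 3], .rel (nat_lit 40) (nat_lit 3) [nat_lit 5, nat_lit 0, nat_lit 2, nat_lit 4], .rel (nat_lit 42) (nat_lit 1) [nat_lit 2, nat_lit 5, nat_lit 1, nat_lit 4, nat_lit 0], .rel (nat_lit 44) (nat_lit 4) [nat_lit 6, nat_lit 1, nat_lit 6, nat_lit 1, nat_lit 6]],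
  [.rel (nat_lit 4) (nat_lit 0) [nat_lit 2], .defn, .rel (nat_lit 40) (nat_lit 1) [nat_lit 4, nat_lit 1, nat_lit 5, nat_lit 0], .sub (nat_lit 4) [] [], .rel (nat_lit 22) (nat_lit 0) [nat_lit 3, nat_lit 2, nat_lit 3], .rel (nat_lit 24) (nat_lit 3) [nat_lit 1, nat_lit 2, nat_lit 1], .rel (nat_lit 30) (nat_lit 3) [nat_lit 0, nat_lit 2, nat_lit 0], .rel (nat_lit 48) (nat_lit 2) [nat_lit 4, nat_lit 6, nat_lit 3, nat_lit 6, nat_lit 0, nat_lit 6]],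
  [.rel (nat_lit 6) (nat_lit 0) [nat_lit 3], .rel (nat_lit 36) (nat_lit 2) [nat_lit 4, nat_lit 0, nat_lit 5], .defn, .rel (nat_lit 38) (nat_lit 1) [nat_lit 4, nat_lit 3, nat_lit 5, nat_lit 0], .sub (nat_lit 6) [] [], .rel (nat_lit 22) (nat_lit 3) [nat_lit 2, nat_lit 3, nat_lit 2], .rel (nat_lit 32) (nat_lit 1) [nat_lit 0, nat_lit 3, nat_lit 0], .rel (nat_lit 48) (nat_lit 5) [nat_lit 6, nat_lit 0, nat_lit 6, nat_lit 2, nat_lit 4, nat_lit 6]],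
  [.rel (nat_lit 8) (nat_lit 0) [nat_lit 5], .defn, .rel (nat_lit 34) (nat_lit 2) [nat_lit 4, nat_lit 4], .rel (nat_lit 34) (nat_lit 1) [nat_lit 4, nat_lit 4], .sub (nat_lit 8) [] [], .rel (nat_lit 40) (nat_lit 2) [nat_lit 1, nat_lit 5, nat_lit 0, nat_lit 2], .rel (nat_lit 48) (nat_lit 3) [nat_lit 6, nat_lit 3, nat_lit 6, nat_lit 0, nat_lit 6, nat_lit 2]],
  [.rel (nat_lit 10) (nat_lit 0) [nat_lit 4], .rel (nat_lit 36) (nat_lit 1) [nat_lit 3, nat_lit 4, nat_lit 0], .defn, .rel (nat_lit 40) (nat_lit 4) [nat_lit 0, nat_lit 2, nat_lit 4, nat_lit 1], .sub (nat_lit 10) [] []],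
  [.rel (nat_lit 12) (nat_lit 0) [nat_lit 6], .rel (nat_lit 46) (nat_lit 3) [nat_lit 4, nat_lit 6, nat_lit 4, nat_lit 6, nat_lit 4], .defn, .rel (nat_lit 46) (nat_lit 5) [nat_lit 4, nat_lit 6, nat_lit 4, nat_lit 6, nat_lit 4], .rel (nat_lit 44) (nat_lit 1) [nat_lit 1, nat_lit 6, nat_lit 1, nat_lit 6, nat_lit 1], .rel (nat_lit 44) (nat_lit 3) [nat_lit 1, nat_lit 6, nat_lit 1, nat_lit 6, nat_lit 1], .rel (nat_lit 44) (nat_lit 5) [nat_lit 1, nat_lit 6, nat_lit 1, nat_lit 6, nat_lit 1], .rel (nat_lit 48) (nat_lit 4) [nat_lit 3, nat_lit 6, nat_lit 0, nat_lit 6, nat_lit 2, nat_lit 4], .rel (nat_lit 48) (nat_lit 6) [nat_lit 0, nat_lit 6, nat_lit 2, nat_lit 4, nat_lit 6, nat_lit 3]]]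
noncomputable def c4 : TCert := ⟨20, 7, 31, T4, I4, D4, [[nat_lit 0],
  [nat_lit 1],
  [nat_lit 2],
  [nat_lit 3],
  [nat_lit 4],
  [nat_lit 5]], RL4⟩
noncomputable def Pt4d : ℕ := nat_lit 0x2c5443a5c864a76819af5d683
noncomputable def Pt4 (u : ℕ) : ℕ := Nat.land (Nat.shiftRight Pt4d (Nat.mul u (nat_lit 5))) (nat_lit 31)
noncomputable def Q4d : ℕ := nat_lit 0x20414aa47234ab1c5cc79a7000000
noncomputable def Q4 (u : ℕ) : ℕ := Nat.land (Nat.shiftRight Q4d (Nat.mul u (nat_lit 5))) (nat_lit 31)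
noncomputable def l4 : H16.Lev := ⟨20, 7, D4, Pt4, Q4⟩
noncomputable def T5d : List ℕ := [nat_lit 0xe660,
  nat_lit 0x6660,
  nat_lit 0xa060,
  nat_lit 0x1a460,
  nat_lit 0x1c6a1,
  nat_lit 0x15722]
noncomputable def T5 (k u : ℕ) : ℕ := Nat.land (Nat.shiftRight (nth (nat_lit 0) T5d k) (Nat.mul u (nat_lit 6))) (nat_lit 63)
noncomputable def I5d : List ℕ := [nat_lit 1,
  nat_lit 0x24,
  nat_lit 1,
  nat_lit 0x18,
  nat_lit 9,
  nat_lit 1]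
noncomputable def I5 (k u : ℕ) : ℕ := Nat.land (Nat.shiftRight (nth (nat_lit 0) I5d k) (Nat.mul u (nat_lit 2))) (nat_lit 3)
noncomputable def D5d : ℕ := nat_lit 0x160
noncomputable def D5 (u : ℕ) : ℕ := Nat.land (Nat.shiftRight D5d (Nat.mul u (nat_lit 3))) (nat_lit 7)
noncomputable def RL5 : List (List Rule) := [[.rel (nat_lit 36) (nat_lit 0) [nat_lit 5, nat_lit 3, nat_lit 4], .sub (nat_lit 0) [] []],
  [.sub (nat_lit 2) [] [], .rel (nat_lit 40) (nat_lit 3) [nat_lit 5, nat_lit 0, nat_lit 2, nat_lit 4], .rel (nat_lit 42) (nat_lit 1) [nat_lit 2, nat_lit 5, nat_lit 1, nat_lit 4, nat_lit 0]],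
  [.rel (nat_lit 40) (nat_lit 1) [nat_lit 4, nat_lit 1, nat_lit 5, nat_lit 0], .sub (nat_lit 4) [] []],
  [.sub (nat_lit 6) [] [], .rel (nat_lit 36) (nat_lit 2) [nat_lit 4, nat_lit 0, nat_lit 5], .rel (nat_lit 38) (nat_lit 1) [nat_lit 4, nat_lit 3, nat_lit 5, nat_lit 0]],
  [.rel (nat_lit 8) (nat_lit 0) [nat_lit 5], .defn, .rel (nat_lit 34) (nat_lit 2) [nat_lit 4, nat_lit 4]],
  [.rel (nat_lit 10) (nat_lit 0) [nat_lit 4], .defn]]
noncomputable def c5 : TCert := ⟨3, 6, 3, T5, I5, D5, [[nat_lit 0],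
  [nat_lit 1],
  [nat_lit 2],
  [nat_lit 3]], RL5⟩
noncomputable def Pt5d : ℕ := nat_lit 0x45c5
noncomputable def Pt5 (u : ℕ) : ℕ := Nat.land (Nat.shiftRight Pt5d (Nat.mul u (nat_lit 5))) (nat_lit 31)
noncomputable def Q5d : ℕ := nat_lit 0x810000000
noncomputable def Q5 (u : ℕ) : ℕ := Nat.land (Nat.shiftRight Q5d (Nat.mul u (nat_lit 2))) (nat_lit 3)
noncomputable def l5 : H16.Lev := ⟨3, 6, D5, Pt5, Q5⟩
noncomputable def T6d : List ℕ := [nat_lit 0x6e5f8a89887d7c7ba4a3a2979695b0c1,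
  nat_lit 0x3d5a2fa7a64e74739c9bb16968b0c5c2,
  nat_lit 0xac59179fb5344eb20db1cb2ab0c8c6c3,
  nat_lit 0xbbb8b6b5cfb3b2ceb1cdccb0cac9c7c4]
noncomputable def T6 (k u : ℕ) : ℕ := Nat.land (Nat.shiftRight (nth (nat_lit 0) T6d k) (Nat.mul u (nat_lit 8))) (nat_lit 255)
noncomputable def I6d : List ℕ := [nat_lit 0x209a00d18002,
  nat_lit 0x344609000012,
  nat_lit 0x690100008049,
  nat_lit 0x201048249]
noncomputable def I6 (k u : ℕ) : ℕ := Nat.land (Nat.shiftRight (nth (nat_lit 0) I6d k) (Nat.mul u (nat_lit 3))) (nat_lit 7)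
noncomputable def D6d : ℕ := nat_lit 0xbe36d758f2ca1c6143081000
noncomputable def D6 (u : ℕ) : ℕ := Nat.land (Nat.shiftRight D6d (Nat.mul u (nat_lit 6))) (nat_lit 63)
noncomputable def RL6 : List (List Rule) := [[.rel (nat_lit 0) (nat_lit 0) [nat_lit 0], .rel (nat_lit 32) (nat_lit 2) [nat_lit 3, nat_lit 0, nat_lit 3], .defn, .rel (nat_lit 28) (nat_lit 0) [nat_lit 1, nat_lit 0, nat_lit 1], .rel (nat_lit 30) (nat_lit 0) [nat_lit 2, nat_lit 0, nat_lit 2], .rel (nat_lit 30) (nat_lit 2) [nat_lit 2, nat_lit 0, nat_lit 2], .rel (nat_lit 32) (nat_lit 0) [nat_lit 3, nat_lit 0, nat_lit 3]],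
  [.rel (nat_lit 2) (nat_lit 0) [nat_lit 1], .rel (nat_lit 28) (nat_lit 3) [nat_lit 0, nat_lit 1, nat_lit 0], .defn, .rel (nat_lit 24) (nat_lit 0) [nat_lit 2, nat_lit 1, nat_lit 2], .rel (nat_lit 26) (nat_lit 0) [nat_lit 3, nat_lit 1, nat_lit 3], .rel (nat_lit 26) (nat_lit 2) [nat_lit 3, nat_lit 1, nat_lit 3]],
  [.rel (nat_lit 4) (nat_lit 0) [nat_lit 2], .defn, .rel (nat_lit 30) (nat_lit 3) [nat_lit 0, nat_lit 2, nat_lit 0], .rel (nat_lit 22) (nat_lit 0) [nat_lit 3, nat_lit 2, nat_lit 3], .rel (nat_lit 24) (nat_lit 3) [nat_lit 1, nat_lit 2, nat_lit 1]],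
  [.rel (nat_lit 6) (nat_lit 0) [nat_lit 3], .defn]]
noncomputable def c6 : TCert := ⟨16, 4, 15, T6, I6, D6, [], RL6⟩
noncomputable def Pt6d : ℕ := nat_lit 0x6c8d0a25153adeab4d84
noncomputable def Pt6 (u : ℕ) : ℕ := Nat.land (Nat.shiftRight Pt6d (Nat.mul u (nat_lit 5))) (nat_lit 31)
noncomputable def Q6d : ℕ := nat_lit 0x38b2e0c50f164a97d000000
noncomputable def Q6 (u : ℕ) : ℕ := Nat.land (Nat.shiftRight Q6d (Nat.mul u (nat_lit 4))) (nat_lit 15)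
noncomputable def l6 : H16.Lev := ⟨16, 4, D6, Pt6, Q6⟩
noncomputable def B : List ℕ := [nat_lit 23, nat_lit 0, nat_lit 1, nat_lit 2, nat_lit 3, nat_lit 5, nat_lit 4]
noncomputable def L : List H16.Lev := [l0, l1, l2, l3, l4, l5, l6]
noncomputable def Cs : List ℕ := [nat_lit 0xbae957b6289ba44b1cd0524ac18820, nat_lit 0xbd6cb22627638cfa224a834b318820, nat_lit 0xb926faa22da3a0b6255231cb618820, nat_lit 0xba64d4562f83a87312d362caa18820, nat_lit 0xbbec66acb4ac52c41e72241ca18820, nat_lit 0xbd5f04a1c6b166c911ab5522718820, nat_lit 0xb9da32494673eac5c4a8b4133a0820, nat_lit 0xba2544d4a65b9ac792763c22a10c20, nat_lit 0xbd6ce4a2117d1a159272394ca18980, nat_lit 0xbd9f3a222da960c59cd2525c418801, nat_lit 0x56d4220a67b8ec5a5526c23318837]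

theorem tc0e_a : allZ2 (entryChk T0 (selR RL0 I0) D0 (nat_lit 31) (nat_lit 24) (nat_lit 11)) (nat_lit 11) (nat_lit 24) = true := by decide +kernel
theorem tc0r : rulesChk Rl c0.Sl RL0 (nat_lit 11) = true := by decide +kernel
theorem ivc : ivChk Rl (nat_lit 11) = true := by decide +kernel
theorem lv0e_0 : allZ (l0.ent P) (nat_lit 0) (nat_lit 23) = true := by decide +kernel
theorem lv0b : Nat.blt (Pt0 (nat_lit 0)) (nat_lit 24) = true ∧ Q0 (Pt0 (nat_lit 0)) = 0 ∧ Pt0 (nat_lit 0) = 23 := by decide +kernel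
theorem sb0 : H16.allL (ltAll (nat_lit 10)) c0.Sl = true ∧ fixLetters P (nat_lit 10) (Pt0 (nat_lit 0)) = true := by decide +kernel
theorem tc1e_a : allZ2 (entryChk T1 (selR RL1 I1) D1 (nat_lit 31) (nat_lit 23) (nat_lit 10)) (nat_lit 10) (nat_lit 23) = true := by decide +kernel
theorem tc1r : rulesChk Rl c1.Sl RL1 (nat_lit 10) = true := by decide +kernel
theorem lv1e_0 : allZ (l1.ent P) (nat_lit 0) (nat_lit 22) = true := by decide +kernel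
theorem lv1b : Nat.blt (Pt1 (nat_lit 0)) (nat_lit 24) = true ∧ Q1 (Pt1 (nat_lit 0)) = 0 ∧ Pt1 (nat_lit 0) = 0 := by decide +kernel
theorem sb1 : H16.allL (ltAll (nat_lit 9)) c1.Sl = true ∧ fixLetters P (nat_lit 9) (Pt1 (nat_lit 0)) = true := by decide +kernel
theorem tc2e_a : allZ2 (entryChk T2 (selR RL2 I2) D2 (nat_lit 31) (nat_lit 22) (nat_lit 9)) (nat_lit 9) (nat_lit 22) = true := by decide +kernel
theorem tc2r : rulesChk Rl c2.Sl RL2 (nat_lit 9) = true := by decide +kernel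
theorem lv2e_0 : allZ (l2.ent P) (nat_lit 0) (nat_lit 21) = true := by decide +kernel
theorem lv2b : Nat.blt (Pt2 (nat_lit 0)) (nat_lit 24) = true ∧ Q2 (Pt2 (nat_lit 0)) = 0 ∧ Pt2 (nat_lit 0) = 1 := by decide +kernel
theorem sb2 : H16.allL (ltAll (nat_lit 8)) c2.Sl = true ∧ fixLetters P (nat_lit 8) (Pt2 (nat_lit 0)) = true := by decide +kernel
theorem tc3e_a : allZ2 (entryChk T3 (selR RL3 I3) D3 (nat_lit 31) (nat_lit 21) (nat_lit 8)) (nat_lit 8) (nat_lit 21) = true := by decide +kernel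
theorem tc3r : rulesChk Rl c3.Sl RL3 (nat_lit 8) = true := by decide +kernel
theorem lv3e_0 : allZ (l3.ent P) (nat_lit 0) (nat_lit 20) = true := by decide +kernel
theorem lv3b : Nat.blt (Pt3 (nat_lit 0)) (nat_lit 24) = true ∧ Q3 (Pt3 (nat_lit 0)) = 0 ∧ Pt3 (nat_lit 0) = 2 := by decide +kernel
theorem sb3 : H16.allL (ltAll (nat_lit 7)) c3.Sl = true ∧ fixLetters P (nat_lit 7) (Pt3 (nat_lit 0)) = true := by decide +kernel
theorem tc4e_a : allZ2 (entryChk T4 (selR RL4 I4) D4 (nat_lit 31) (nat_lit 20) (nat_lit 7)) (nat_lit 7) (nat_lit 20) = true := by decide +kernel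
theorem tc4r : rulesChk Rl c4.Sl RL4 (nat_lit 7) = true := by decide +kernel
theorem lv4e_0 : allZ (l4.ent P) (nat_lit 0) (nat_lit 19) = true := by decide +kernel
theorem lv4b : Nat.blt (Pt4 (nat_lit 0)) (nat_lit 24) = true ∧ Q4 (Pt4 (nat_lit 0)) = 0 ∧ Pt4 (nat_lit 0) = 3 := by decide +kernel
theorem sb4 : H16.allL (ltAll (nat_lit 6)) c4.Sl = true ∧ fixLetters P (nat_lit 6) (Pt4 (nat_lit 0)) = true := by decide +kernel
theorem tc5e_a : allZ2 (entryChk T5 (selR RL5 I5) D5 (nat_lit 3) (nat_lit 3) (nat_lit 6)) (nat_lit 6) (nat_lit 3) = true := by decide +kernel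
theorem tc5r : rulesChk Rl c5.Sl RL5 (nat_lit 6) = true := by decide +kernel
theorem lv5e_0 : allZ (l5.ent P) (nat_lit 0) (nat_lit 2) = true := by decide +kernel
theorem lv5b : Nat.blt (Pt5 (nat_lit 0)) (nat_lit 24) = true ∧ Q5 (Pt5 (nat_lit 0)) = 0 ∧ Pt5 (nat_lit 0) = 5 := by decide +kernel
theorem sb5 : H16.allL (ltAll (nat_lit 4)) c5.Sl = true ∧ fixLetters P (nat_lit 4) (Pt5 (nat_lit 0)) = true := by decide +kernel
theorem tc6e_a : allZ2 (entryChk T6 (selR RL6 I6) D6 (nat_lit 15) (nat_lit 16) (nat_lit 4)) (nat_lit 4) (nat_lit 16) = true := by decide +kernel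
theorem tc6r : rulesChk Rl c6.Sl RL6 (nat_lit 4) = true := by decide +kernel
theorem lv6e_0 : allZ (l6.ent P) (nat_lit 0) (nat_lit 15) = true := by decide +kernel
theorem lv6b : Nat.blt (Pt6 (nat_lit 0)) (nat_lit 24) = true ∧ Q6 (Pt6 (nat_lit 0)) = 0 ∧ Pt6 (nat_lit 0) = 4 := by decide +kernel
theorem sb6 : H16.allL (ltAll (nat_lit 0)) c6.Sl = true ∧ fixLetters P (nat_lit 0) (Pt6 (nat_lit 0)) = true := by decide +kernel
theorem Blt : ltAll (nat_lit 24) B = 0 := by decide +kernel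
theorem ivk : ivLt Rl (nat_lit 11) = true := by decide +kernel
theorem csc : ∀ k < 11, isM (nth 0 Cs k) = true ∧ (∀ i < 24, ap (nth 0 Cs k) i = P k i) := by decide +kernel
theorem rf : H16.allL (fixRange P (nat_lit 11) (nat_lit 0) (nat_lit 24)) Rl = true := by decide +kernel

theorem tc0e : ∀ k < 11, ∀ i < 24, (entryChk T0 (selR RL0 I0) D0 (nat_lit 31) (nat_lit 24) (nat_lit 11)) k i = 0 := allZ2_sound tc0e_a
theorem tc0 : c0.OK Rl 11 := ⟨by decide, by decide, by decide, ivc, tc0r, tc0e⟩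
theorem lv0e : ∀ i < 23, (l0.ent P) i = 0 := allZ_sound0 lv0e_0
theorem lv0 : l0.OK P 24 := ⟨by decide, by decide, lt_of_blt lv0b.1, lv0b.2.1, lv0e⟩
theorem tc1e : ∀ k < 10, ∀ i < 23, (entryChk T1 (selR RL1 I1) D1 (nat_lit 31) (nat_lit 23) (nat_lit 10)) k i = 0 := allZ2_sound tc1e_a
theorem tc1 : c1.OK Rl 11 := ⟨by decide, by decide, by decide, ivc, tc1r, tc1e⟩
theorem lv1e : ∀ i < 22, (l1.ent P) i = 0 := allZ_sound0 lv1e_0
theorem lv1 : l1.OK P 24 := ⟨by decide, by decide, lt_of_blt lv1b.1, lv1b.2.1, lv1e⟩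
theorem tc2e : ∀ k < 9, ∀ i < 22, (entryChk T2 (selR RL2 I2) D2 (nat_lit 31) (nat_lit 22) (nat_lit 9)) k i = 0 := allZ2_sound tc2e_a
theorem tc2 : c2.OK Rl 11 := ⟨by decide, by decide, by decide, ivc, tc2r, tc2e⟩
theorem lv2e : ∀ i < 21, (l2.ent P) i = 0 := allZ_sound0 lv2e_0
theorem lv2 : l2.OK P 24 := ⟨by decide, by decide, lt_of_blt lv2b.1, lv2b.2.1, lv2e⟩
theorem tc3e : ∀ k < 8, ∀ i < 21, (entryChk T3 (selR RL3 I3) D3 (nat_lit 31) (nat_lit 21) (nat_lit 8)) k i = 0 := allZ2_sound tc3e_a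
theorem tc3 : c3.OK Rl 11 := ⟨by decide, by decide, by decide, ivc, tc3r, tc3e⟩
theorem lv3e : ∀ i < 20, (l3.ent P) i = 0 := allZ_sound0 lv3e_0
theorem lv3 : l3.OK P 24 := ⟨by decide, by decide, lt_of_blt lv3b.1, lv3b.2.1, lv3e⟩
theorem tc4e : ∀ k < 7, ∀ i < 20, (entryChk T4 (selR RL4 I4) D4 (nat_lit 31) (nat_lit 20) (nat_lit 7)) k i = 0 := allZ2_sound tc4e_a
theorem tc4 : c4.OK Rl 11 := ⟨by decide, by decide, by decide, ivc, tc4r, tc4e⟩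
theorem lv4e : ∀ i < 19, (l4.ent P) i = 0 := allZ_sound0 lv4e_0
theorem lv4 : l4.OK P 24 := ⟨by decide, by decide, lt_of_blt lv4b.1, lv4b.2.1, lv4e⟩
theorem tc5e : ∀ k < 6, ∀ i < 3, (entryChk T5 (selR RL5 I5) D5 (nat_lit 3) (nat_lit 3) (nat_lit 6)) k i = 0 := allZ2_sound tc5e_a
theorem tc5 : c5.OK Rl 11 := ⟨by decide, by decide, by decide, ivc, tc5r, tc5e⟩
theorem lv5e : ∀ i < 2, (l5.ent P) i = 0 := allZ_sound0 lv5e_0
theorem lv5 : l5.OK P 24 := ⟨by decide, by decide, lt_of_blt lv5b.1, lv5b.2.1, lv5e⟩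
theorem tc6e : ∀ k < 4, ∀ i < 16, (entryChk T6 (selR RL6 I6) D6 (nat_lit 15) (nat_lit 16) (nat_lit 4)) k i = 0 := allZ2_sound tc6e_a
theorem tc6 : c6.OK Rl 11 := ⟨by decide, by decide, by decide, ivc, tc6r, tc6e⟩
theorem lv6e : ∀ i < 15, (l6.ent P) i = 0 := allZ_sound0 lv6e_0
theorem lv6 : l6.OK P 24 := ⟨by decide, by decide, lt_of_blt lv6b.1, lv6b.2.1, lv6e⟩
theorem bound6 : Bound Rl 4 16 := Bound.step' (Bound.zero Rl) tc6 sb6.1 (by decide +kernel)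
theorem bound5 : Bound Rl 6 48 := Bound.step' (bound6) tc5 sb5.1 (by decide +kernel)
theorem bound4 : Bound Rl 7 960 := Bound.step' (bound5) tc4 sb4.1 (by decide +kernel)
theorem bound3 : Bound Rl 8 20160 := Bound.step' (bound4) tc3 sb3.1 (by decide +kernel)
theorem bound2 : Bound Rl 9 443520 := Bound.step' (bound3) tc2 sb2.1 (by decide +kernel)
theorem bound1 : Bound Rl 10 10200960 := Bound.step' (bound2) tc1 sb1.1 (by decide +kernel)
theorem bound0 : Bound Rl 11 244823040 := Bound.step' (bound1) tc0 sb0.1 (by decide +kernel)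
/-- every tuple satisfying `Rl` generates a group of order at most `244823040` -/
theorem bound : Bound Rl 11 244823040 := bound0
theorem chain_of {G Ω : Type*} [Group G] [MulAction G Ω] {g : ℕ → G} {pt : ℕ → Ω}
    (h : Act g pt P 24 11) (hR : Rels g Rl) : IsChain g pt 24 L :=
  IsChain.cons (L := [l1, l2, l3, l4, l5, l6]) (IsChain.cons (L := [l2, l3, l4, l5, l6]) (IsChain.cons (L := [l3, l4, l5, l6]) (IsChain.cons (L := [l4, l5, l6]) (IsChain.cons (L := [l5, l6]) (IsChain.cons (L := [l6]) (IsChain.cons (L := []) (trivial) h hR tc6 lv6 rfl rfl rfl (by decide) sb6.1 sb6.2) h hR tc5 lv5 rfl rfl rfl (by decide) sb5.1 sb5.2) h hR tc4 lv4 rfl rfl rfl (by decide) sb4.1 sb4.2) h hR tc3 lv3 rfl rfl rfl (by decide) sb3.1 sb3.2) h hR tc2 lv2 rfl rfl rfl (by decide) sb2.1 sb2.2) h hR tc1 lv1 rfl rfl rfl (by decide) sb1.1 sb1.2) h hR tc0 lv0 rfl rfl rfl (by decide) sb0.1 sb0.2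
theorem base_eq : chainBase L = B := by decide +kernel
/-- the letters -/
noncomputable def g (k : ℕ) : Equiv.Perm Cfsg.GolayPt := H15.P (nth 0 Cs k)
theorem act : Act g pt P 24 11 := fun k hk i hi => (csc k hk).2 i hi ▸ isM_rep (csc k hk).1 i hi
theorem inj : PtInj pt 24 := fun _ hi _ hj e => pt_inj hi hj e
theorem rels : Rels g Rl := rels_of_all act (fun a _ h => Equiv.ext fun p => by
  obtain ⟨i, hi, rfl⟩ := exists_pt p
  exact h i hi) (FixUpTo.first rf)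
theorem chain : IsChain g pt 24 L := chain_of act rels
theorem card : Nat.card (gen g 11) = 244823040 := chain.card' inj (by decide +kernel)
theorem isBase : IsBase (gen g 11) pt B := base_eq ▸ chain.isBase inj
theorem gen_eq : gen g 11 = Cfsg.M24 :=
  Subgroup.eq_of_le_of_card_ge (gen_le.2 fun k hk => isM_mem (csc k hk).1) (card_M24.trans card.symm).le

end H15.MM24
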