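import Cfsg.Agent.H16.Slp
import Mathlib

/-! Generated by tools/h15/cs.py. -/

set_option maxRecDepth 100000
set_option maxHeartbeats 0

namespace H15.XA8

open H16

noncomputable def Rl : List (List ℕ) := [[nat_lit 0, nat_lit 1],
  [nat_lit 1, nat_lit 0],
  [nat_lit 2, nat_lit 2],
  [nat_lit 3, nat_lit 3],
  [nat_lit 4, nat_lit 4],
  [nat_lit 5, nat_lit 5],
  [nat_lit 6, nat_lit 6],
  [nat_lit 0, nat_lit 0, nat_lit 0],
  [nat_lit 0, nat_lit 2, nat_lit 0, nat_lit 2, nat_lit 0, nat_lit 2],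
  [nat_lit 0, nat_lit 3, nat_lit 0, nat_lit 3],
  [nat_lit 2, nat_lit 3, nat_lit 2, nat_lit 3, nat_lit 2, nat_lit 3],
  [nat_lit 0, nat_lit 4, nat_lit 0, nat_lit 4],
  [nat_lit 2, nat_lit 4, nat_lit 2, nat_lit 4],
  [nat_lit 3, nat_lit 4, nat_lit 3, nat_lit 4, nat_lit 3, nat_lit 4],
  [nat_lit 0, nat_lit 5, nat_lit 0, nat_lit 5],
  [nat_lit 2, nat_lit 5, nat_lit 2, nat_lit 5],
  [nat_lit 3, nat_lit 5, nat_lit 3, nat_lit 5],
  [nat_lit 4, nat_lit 5, nat_lit 4, nat_lit 5, nat_lit 4, nat_lit 5],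
  [nat_lit 0, nat_lit 6, nat_lit 0, nat_lit 6],
  [nat_lit 2, nat_lit 6, nat_lit 2, nat_lit 6],
  [nat_lit 3, nat_lit 6, nat_lit 3, nat_lit 6],
  [nat_lit 4, nat_lit 6, nat_lit 4, nat_lit 6],
  [nat_lit 5, nat_lit 6, nat_lit 5, nat_lit 6, nat_lit 5, nat_lit 6]]
noncomputable def Pd : List ℕ := [nat_lit 0xd7c688,
  nat_lit 0xbf4688,
  nat_lit 0xb3e688,
  nat_lit 0xbbb888,
  nat_lit 0xbbc4c8,
  nat_lit 0xbbc650,
  nat_lit 0xbbc681]
noncomputable def P (k u : ℕ) : ℕ := Nat.land (Nat.shiftRight (nth (nat_lit 0) Pd k) (Nat.mul u (nat_lit 3))) (nat_lit 7)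
noncomputable def T0d : List ℕ := [nat_lit 0xd6ff946e2a78,
  nat_lit 0x9b5fcc4da878,
  nat_lit 0x18fd3d6e2a78,
  nat_lit 0x18f573f22a78,
  nat_lit 0x18f55ccbba78,
  nat_lit 0x18f55c8f1eb8,
  nat_lit 0x18f55c8eac39]
noncomputable def T0 (k u : ℕ) : ℕ := Nat.land (Nat.shiftRight (nth (nat_lit 0) T0d k) (Nat.mul u (nat_lit 6))) (nat_lit 63)
noncomputable def I0d : List ℕ := [nat_lit 0xd4bb9,
  nat_lit 0x10001,
  nat_lit 0xc2971,
  nat_lit 0xe0571,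
  nat_lit 0xe50b1,
  nat_lit 0xe5c11,
  nat_lit 0x9cb81]
noncomputable def I0 (k u : ℕ) : ℕ := Nat.land (Nat.shiftRight (nth (nat_lit 0) I0d k) (Nat.mul u (nat_lit 3))) (nat_lit 7)
noncomputable def D0d : ℕ := nat_lit 0x92379848c180
noncomputable def D0 (u : ℕ) : ℕ := Nat.land (Nat.shiftRight D0d (Nat.mul u (nat_lit 6))) (nat_lit 63)
noncomputable def RL0 : List (List Rule) := [[.rel (nat_lit 0) (nat_lit 0) [nat_lit 1], .sub (nat_lit 0) [] [], .defn, .rel (nat_lit 14) (nat_lit 2) [nat_lit 0, nat_lit 0], .rel (nat_lit 18) (nat_lit 2) [nat_lit 3, nat_lit 0, nat_lit 3], .rel (nat_lit 22) (nat_lit 2) [nat_lit 4, nat_lit 0, nat_lit 4], .rel (nat_lit 28) (nat_lit 2) [nat_lit 5, nat_lit 0, nat_lit 5], .rel (nat_lit 36) (nat_lit 0) [nat_lit 6, nat_lit 0, nat_lit 6]],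
  [.rel (nat_lit 2) (nat_lit 0) [nat_lit 0], .sub (nat_lit 2) [] [], .defn],
  [.rel (nat_lit 4) (nat_lit 0) [nat_lit 2], .sub (nat_lit 4) [] [], .defn, .rel (nat_lit 16) (nat_lit 3) [nat_lit 0, nat_lit 2, nat_lit 0, nat_lit 2, nat_lit 0], .rel (nat_lit 24) (nat_lit 2) [nat_lit 4, nat_lit 2, nat_lit 4], .rel (nat_lit 30) (nat_lit 2) [nat_lit 5, nat_lit 2, nat_lit 5], .rel (nat_lit 38) (nat_lit 0) [nat_lit 6, nat_lit 2, nat_lit 6]],
  [.rel (nat_lit 6) (nat_lit 0) [nat_lit 3], .sub (nat_lit 6) [] [], .defn, .rel (nat_lit 18) (nat_lit 3) [nat_lit 0, nat_lit 3, nat_lit 0], .rel (nat_lit 20) (nat_lit 3) [nat_lit 2, nat_lit 3, nat_lit 2, nat_lit 3, nat_lit 2], .rel (nat_lit 32) (nat_lit 2) [nat_lit 5, nat_lit 3, nat_lit 5], .rel (nat_lit 40) (nat_lit 0) [nat_lit 6, nat_lit 3, nat_lit 6]],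
  [.rel (nat_lit 8) (nat_lit 0) [nat_lit 4], .sub (nat_lit 8) [] [], .defn, .rel (nat_lit 22) (nat_lit 3) [nat_lit 0, nat_lit 4, nat_lit 0], .rel (nat_lit 24) (nat_lit 3) [nat_lit 2, nat_lit 4, nat_lit 2], .rel (nat_lit 26) (nat_lit 3) [nat_lit 3, nat_lit 4, nat_lit 3, nat_lit 4, nat_lit 3], .rel (nat_lit 42) (nat_lit 0) [nat_lit 6, nat_lit 4, nat_lit 6]],
  [.rel (nat_lit 10) (nat_lit 0) [nat_lit 5], .sub (nat_lit 10) [] [], .defn, .rel (nat_lit 28) (nat_lit 3) [nat_lit 0, nat_lit 5, nat_lit 0], .rel (nat_lit 30) (nat_lit 3) [nat_lit 2, nat_lit 5, nat_lit 2], .rel (nat_lit 32) (nat_lit 3) [nat_lit 3, nat_lit 5, nat_lit 3], .rel (nat_lit 34) (nat_lit 3) [nat_lit 4, nat_lit 5, nat_lit 4, nat_lit 5, nat_lit 4]],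
  [.rel (nat_lit 12) (nat_lit 0) [nat_lit 6], .defn, .rel (nat_lit 36) (nat_lit 3) [nat_lit 0, nat_lit 6, nat_lit 0], .rel (nat_lit 38) (nat_lit 3) [nat_lit 2, nat_lit 6, nat_lit 2], .rel (nat_lit 40) (nat_lit 3) [nat_lit 3, nat_lit 6, nat_lit 3], .rel (nat_lit 42) (nat_lit 3) [nat_lit 4, nat_lit 6, nat_lit 4], .rel (nat_lit 44) (nat_lit 5) [nat_lit 5, nat_lit 6, nat_lit 5, nat_lit 6, nat_lit 5]]]
noncomputable def c0 : TCert := ⟨8, 7, 7, T0, I0, D0, [[nat_lit 0],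
  [nat_lit 1],
  [nat_lit 2],
  [nat_lit 3],
  [nat_lit 4],
  [nat_lit 5]], RL0⟩
noncomputable def Pt0d : ℕ := nat_lit 0xf74688
noncomputable def Pt0 (u : ℕ) : ℕ := Nat.land (Nat.shiftRight Pt0d (Nat.mul u (nat_lit 3))) (nat_lit 7)
noncomputable def Q0d : ℕ := nat_lit 0xf74688
noncomputable def Q0 (u : ℕ) : ℕ := Nat.land (Nat.shiftRight Q0d (Nat.mul u (nat_lit 3))) (nat_lit 7)
noncomputable def l0 : H16.Lev := ⟨8, 7, D0, Pt0, Q0⟩
noncomputable def T1d : List ℕ := [nat_lit 0x2c9b54da870,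
  nat_lit 0x1db362d2670,
  nat_lit 0x53abd1a870,
  nat_lit 0x5394ab3870,
  nat_lit 0x53946e9cb0,
  nat_lit 0x53946e2a31]
noncomputable def T1 (k u : ℕ) : ℕ := Nat.land (Nat.shiftRight (nth (nat_lit 0) T1d k) (Nat.mul u (nat_lit 6))) (nat_lit 63)
noncomputable def I1d : List ℕ := [nat_lit 0x1a971,
  nat_lit 0x2001,
  nat_lit 0x18529,
  nat_lit 0x1c0a9,
  nat_lit 0x1ca11,
  nat_lit 0x13941]
noncomputable def I1 (k u : ℕ) : ℕ := Nat.land (Nat.shiftRight (nth (nat_lit 0) I1d k) (Nat.mul u (nat_lit 3))) (nat_lit 7)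
noncomputable def D1d : ℕ := nat_lit 0x67147a8a0
noncomputable def D1 (u : ℕ) : ℕ := Nat.land (Nat.shiftRight D1d (Nat.mul u (nat_lit 5))) (nat_lit 31)
noncomputable def RL1 : List (List Rule) := [[.rel (nat_lit 0) (nat_lit 0) [nat_lit 1], .sub (nat_lit 0) [] [], .defn, .rel (nat_lit 14) (nat_lit 2) [nat_lit 0, nat_lit 0], .rel (nat_lit 18) (nat_lit 2) [nat_lit 3, nat_lit 0, nat_lit 3], .rel (nat_lit 22) (nat_lit 2) [nat_lit 4, nat_lit 0, nat_lit 4], .rel (nat_lit 28) (nat_lit 0) [nat_lit 5, nat_lit 0, nat_lit 5]],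
  [.rel (nat_lit 2) (nat_lit 0) [nat_lit 0], .sub (nat_lit 2) [] [], .defn],
  [.rel (nat_lit 4) (nat_lit 0) [nat_lit 2], .sub (nat_lit 4) [] [], .defn, .rel (nat_lit 16) (nat_lit 3) [nat_lit 0, nat_lit 2, nat_lit 0, nat_lit 2, nat_lit 0], .rel (nat_lit 24) (nat_lit 2) [nat_lit 4, nat_lit 2, nat_lit 4], .rel (nat_lit 30) (nat_lit 0) [nat_lit 5, nat_lit 2, nat_lit 5]],
  [.rel (nat_lit 6) (nat_lit 0) [nat_lit 3], .sub (nat_lit 6) [] [], .defn, .rel (nat_lit 18) (nat_lit 3) [nat_lit 0, nat_lit 3, nat_lit 0], .rel (nat_lit 20) (nat_lit 3) [nat_lit 2, nat_lit 3, nat_lit 2, nat_lit 3, nat_lit 2], .rel (nat_lit 32) (nat_lit 0) [nat_lit 5, nat_lit 3, nat_lit 5]],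
  [.rel (nat_lit 8) (nat_lit 0) [nat_lit 4], .sub (nat_lit 8) [] [], .defn, .rel (nat_lit 22) (nat_lit 3) [nat_lit 0, nat_lit 4, nat_lit 0], .rel (nat_lit 24) (nat_lit 3) [nat_lit 2, nat_lit 4, nat_lit 2], .rel (nat_lit 26) (nat_lit 3) [nat_lit 3, nat_lit 4, nat_lit 3, nat_lit 4, nat_lit 3]],
  [.rel (nat_lit 10) (nat_lit 0) [nat_lit 5], .defn, .rel (nat_lit 28) (nat_lit 3) [nat_lit 0, nat_lit 5, nat_lit 0], .rel (nat_lit 30) (nat_lit 3) [nat_lit 2, nat_lit 5, nat_lit 2], .rel (nat_lit 32) (nat_lit 3) [nat_lit 3, nat_lit 5, nat_lit 3], .rel (nat_lit 34) (nat_lit 5) [nat_lit 4, nat_lit 5, nat_lit 4, nat_lit 5, nat_lit 4]]]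
noncomputable def c1 : TCert := ⟨7, 6, 7, T1, I1, D1, [[nat_lit 0],
  [nat_lit 1],
  [nat_lit 2],
  [nat_lit 3],
  [nat_lit 4]], RL1⟩
noncomputable def Pt1d : ℕ := nat_lit 0x1ee8d1
noncomputable def Pt1 (u : ℕ) : ℕ := Nat.land (Nat.shiftRight Pt1d (Nat.mul u (nat_lit 3))) (nat_lit 7)
noncomputable def Q1d : ℕ := nat_lit 0xd2b440
noncomputable def Q1 (u : ℕ) : ℕ := Nat.land (Nat.shiftRight Q1d (Nat.mul u (nat_lit 3))) (nat_lit 7)
noncomputable def l1 : H16.Lev := ⟨7, 6, D1, Pt1, Q1⟩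
noncomputable def T2d : List ℕ := [nat_lit 0x8ddb12668,
  nat_lit 0x523b4a468,
  nat_lit 0x10d8ab668,
  nat_lit 0x10d4e1aa8,
  nat_lit 0x10d4da829]
noncomputable def T2 (k u : ℕ) : ℕ := Nat.land (Nat.shiftRight (nth (nat_lit 0) T2d k) (Nat.mul u (nat_lit 6))) (nat_lit 63)
noncomputable def I2d : List ℕ := [nat_lit 0x3529,
  nat_lit 0x401,
  nat_lit 0x30a1,
  nat_lit 0x3811,
  nat_lit 0x2701]
noncomputable def I2 (k u : ℕ) : ℕ := Nat.land (Nat.shiftRight (nth (nat_lit 0) I2d k) (Nat.mul u (nat_lit 3))) (nat_lit 7)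
noncomputable def D2d : ℕ := nat_lit 0x20f62080
noncomputable def D2 (u : ℕ) : ℕ := Nat.land (Nat.shiftRight D2d (Nat.mul u (nat_lit 5))) (nat_lit 31)
noncomputable def RL2 : List (List Rule) := [[.rel (nat_lit 0) (nat_lit 0) [nat_lit 1], .sub (nat_lit 0) [] [], .defn, .rel (nat_lit 14) (nat_lit 2) [nat_lit 0, nat_lit 0], .rel (nat_lit 18) (nat_lit 2) [nat_lit 3, nat_lit 0, nat_lit 3], .rel (nat_lit 22) (nat_lit 0) [nat_lit 4, nat_lit 0, nat_lit 4]],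
  [.rel (nat_lit 2) (nat_lit 0) [nat_lit 0], .sub (nat_lit 2) [] [], .defn],
  [.rel (nat_lit 4) (nat_lit 0) [nat_lit 2], .sub (nat_lit 4) [] [], .defn, .rel (nat_lit 16) (nat_lit 3) [nat_lit 0, nat_lit 2, nat_lit 0, nat_lit 2, nat_lit 0], .rel (nat_lit 24) (nat_lit 0) [nat_lit 4, nat_lit 2, nat_lit 4]],
  [.rel (nat_lit 6) (nat_lit 0) [nat_lit 3], .sub (nat_lit 6) [] [], .defn, .rel (nat_lit 18) (nat_lit 3) [nat_lit 0, nat_lit 3, nat_lit 0], .rel (nat_lit 20) (nat_lit 3) [nat_lit 2, nat_lit 3, nat_lit 2, nat_lit 3, nat_lit 2]],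
  [.rel (nat_lit 8) (nat_lit 0) [nat_lit 4], .defn, .rel (nat_lit 22) (nat_lit 3) [nat_lit 0, nat_lit 4, nat_lit 0], .rel (nat_lit 24) (nat_lit 3) [nat_lit 2, nat_lit 4, nat_lit 2], .rel (nat_lit 26) (nat_lit 5) [nat_lit 3, nat_lit 4, nat_lit 3, nat_lit 4, nat_lit 3]]]
noncomputable def c2 : TCert := ⟨6, 5, 7, T2, I2, D2, [[nat_lit 0],
  [nat_lit 1],
  [nat_lit 2],
  [nat_lit 3]], RL2⟩
noncomputable def Pt2d : ℕ := nat_lit 0x3dd1a
noncomputable def Pt2 (u : ℕ) : ℕ := Nat.land (Nat.shiftRight Pt2d (Nat.mul u (nat_lit 3))) (nat_lit 7)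
noncomputable def Q2d : ℕ := nat_lit 0xae2200
noncomputable def Q2 (u : ℕ) : ℕ := Nat.land (Nat.shiftRight Q2d (Nat.mul u (nat_lit 3))) (nat_lit 7)
noncomputable def l2 : H16.Lev := ⟨6, 5, D2, Pt2, Q2⟩
noncomputable def T3d : List ℕ := [nat_lit 0x1a523460,
  nat_lit 0xb6a4260,
  nat_lit 0x33198a0,
  nat_lit 0x3312621]
noncomputable def T3 (k u : ℕ) : ℕ := Nat.land (Nat.shiftRight (nth (nat_lit 0) T3d k) (Nat.mul u (nat_lit 6))) (nat_lit 63)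
noncomputable def I3d : List ℕ := [nat_lit 0x6a1,
  nat_lit 0x81,
  nat_lit 0x611,
  nat_lit 0x4c1]
noncomputable def I3 (k u : ℕ) : ℕ := Nat.land (Nat.shiftRight (nth (nat_lit 0) I3d k) (Nat.mul u (nat_lit 3))) (nat_lit 7)
noncomputable def D3d : ℕ := nat_lit 0x98630
noncomputable def D3 (u : ℕ) : ℕ := Nat.land (Nat.shiftRight D3d (Nat.mul u (nat_lit 4))) (nat_lit 15)
noncomputable def RL3 : List (List Rule) := [[.rel (nat_lit 0) (nat_lit 0) [nat_lit 1], .sub (nat_lit 0) [] [], .defn, .rel (nat_lit 14) (nat_lit 2) [nat_lit 0, nat_lit 0], .rel (nat_lit 18) (nat_lit 0) [nat_lit 3, nat_lit 0, nat_lit 3]],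
  [.rel (nat_lit 2) (nat_lit 0) [nat_lit 0], .sub (nat_lit 2) [] [], .defn],
  [.rel (nat_lit 4) (nat_lit 0) [nat_lit 2], .sub (nat_lit 4) [] [], .defn, .rel (nat_lit 16) (nat_lit 3) [nat_lit 0, nat_lit 2, nat_lit 0, nat_lit 2, nat_lit 0]],
  [.rel (nat_lit 6) (nat_lit 0) [nat_lit 3], .defn, .rel (nat_lit 18) (nat_lit 3) [nat_lit 0, nat_lit 3, nat_lit 0], .rel (nat_lit 20) (nat_lit 5) [nat_lit 2, nat_lit 3, nat_lit 2, nat_lit 3, nat_lit 2]]]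
noncomputable def c3 : TCert := ⟨5, 4, 7, T3, I3, D3, [[nat_lit 0],
  [nat_lit 1],
  [nat_lit 2]], RL3⟩
noncomputable def Pt3d : ℕ := nat_lit 0x7ba3
noncomputable def Pt3 (u : ℕ) : ℕ := Nat.land (Nat.shiftRight Pt3d (Nat.mul u (nat_lit 3))) (nat_lit 7)
noncomputable def Q3d : ℕ := nat_lit 0x899000
noncomputable def Q3 (u : ℕ) : ℕ := Nat.land (Nat.shiftRight Q3d (Nat.mul u (nat_lit 3))) (nat_lit 7)
noncomputable def l3 : H16.Lev := ⟨5, 4, D3, Pt3, Q3⟩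
noncomputable def T4d : List ℕ := [nat_lit 0x97ec,
  nat_lit 0x29fc,
  nat_lit 0x278d]
noncomputable def T4 (k u : ℕ) : ℕ := Nat.land (Nat.shiftRight (nth (nat_lit 0) T4d k) (Nat.mul u (nat_lit 4))) (nat_lit 15)
noncomputable def I4d : List ℕ := [nat_lit 0x39,
  nat_lit 9,
  nat_lit 0x21]
noncomputable def I4 (k u : ℕ) : ℕ := Nat.land (Nat.shiftRight (nth (nat_lit 0) I4d k) (Nat.mul u (nat_lit 2))) (nat_lit 3)
noncomputable def D4d : ℕ := nat_lit 0x8d0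
noncomputable def D4 (u : ℕ) : ℕ := Nat.land (Nat.shiftRight D4d (Nat.mul u (nat_lit 3))) (nat_lit 7)
noncomputable def RL4 : List (List Rule) := [[.rel (nat_lit 0) (nat_lit 0) [nat_lit 1], .sub (nat_lit 0) [] [], .defn, .rel (nat_lit 14) (nat_lit 2) [nat_lit 0, nat_lit 0]],
  [.rel (nat_lit 2) (nat_lit 0) [nat_lit 0], .sub (nat_lit 2) [] [], .defn],
  [.rel (nat_lit 4) (nat_lit 0) [nat_lit 2], .defn, .rel (nat_lit 16) (nat_lit 5) [nat_lit 0, nat_lit 2, nat_lit 0, nat_lit 2, nat_lit 0]]]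
noncomputable def c4 : TCert := ⟨4, 3, 3, T4, I4, D4, [[nat_lit 0],
  [nat_lit 1]], RL4⟩
noncomputable def Pt4d : ℕ := nat_lit 0xf74
noncomputable def Pt4 (u : ℕ) : ℕ := Nat.land (Nat.shiftRight Pt4d (Nat.mul u (nat_lit 3))) (nat_lit 7)
noncomputable def Q4d : ℕ := nat_lit 0xd800
noncomputable def Q4 (u : ℕ) : ℕ := Nat.land (Nat.shiftRight Q4d (Nat.mul u (nat_lit 2))) (nat_lit 3)
noncomputable def l4 : H16.Lev := ⟨4, 3, D4, Pt4, Q4⟩
noncomputable def T5d : List ℕ := [nat_lit 0x86d,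
  nat_lit 0x18e]
noncomputable def T5 (k u : ℕ) : ℕ := Nat.land (Nat.shiftRight (nth (nat_lit 0) T5d k) (Nat.mul u (nat_lit 4))) (nat_lit 15)
noncomputable def I5d : List ℕ := [nat_lit 9,
  nat_lit 1]
noncomputable def I5 (k u : ℕ) : ℕ := Nat.land (Nat.shiftRight (nth (nat_lit 0) I5d k) (Nat.mul u (nat_lit 2))) (nat_lit 3)
noncomputable def D5d : ℕ := nat_lit 4
noncomputable def D5 (u : ℕ) : ℕ := Nat.land (Nat.shiftRight D5d (Nat.mul u (nat_lit 1))) (nat_lit 1)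
noncomputable def RL5 : List (List Rule) := [[.rel (nat_lit 0) (nat_lit 0) [nat_lit 1], .defn, .rel (nat_lit 14) (nat_lit 2) [nat_lit 0, nat_lit 0]],
  [.rel (nat_lit 2) (nat_lit 0) [nat_lit 0], .defn]]
noncomputable def c5 : TCert := ⟨3, 2, 3, T5, I5, D5, [], RL5⟩
noncomputable def Pt5d : ℕ := nat_lit 0x1bd
noncomputable def Pt5 (u : ℕ) : ℕ := Nat.land (Nat.shiftRight Pt5d (Nat.mul u (nat_lit 3))) (nat_lit 7)
noncomputable def Q5d : ℕ := nat_lit 0x6000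
noncomputable def Q5 (u : ℕ) : ℕ := Nat.land (Nat.shiftRight Q5d (Nat.mul u (nat_lit 2))) (nat_lit 3)
noncomputable def l5 : H16.Lev := ⟨3, 2, D5, Pt5, Q5⟩
noncomputable def B : List ℕ := [nat_lit 0, nat_lit 1, nat_lit 2, nat_lit 3, nat_lit 4, nat_lit 5]
noncomputable def L : List H16.Lev := [l0, l1, l2, l3, l4, l5]

theorem tc0e_a : allZ2 (entryChk T0 (selR RL0 I0) D0 (nat_lit 7) (nat_lit 8) (nat_lit 7)) (nat_lit 7) (nat_lit 8) = true := by decide +kernel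
theorem tc0r : rulesChk Rl c0.Sl RL0 (nat_lit 7) = true := by decide +kernel
theorem ivc : ivChk Rl (nat_lit 7) = true := by decide +kernel
theorem lv0e_0 : allZ (l0.ent P) (nat_lit 0) (nat_lit 7) = true := by decide +kernel
theorem lv0b : Nat.blt (Pt0 (nat_lit 0)) (nat_lit 8) = true ∧ Q0 (Pt0 (nat_lit 0)) = 0 ∧ Pt0 (nat_lit 0) = 0 := by decide +kernel
theorem sb0 : H16.allL (ltAll (nat_lit 6)) c0.Sl = true ∧ fixLetters P (nat_lit 6) (Pt0 (nat_lit 0)) = true := by decide +kernel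
theorem tc1e_a : allZ2 (entryChk T1 (selR RL1 I1) D1 (nat_lit 7) (nat_lit 7) (nat_lit 6)) (nat_lit 6) (nat_lit 7) = true := by decide +kernel
theorem tc1r : rulesChk Rl c1.Sl RL1 (nat_lit 6) = true := by decide +kernel
theorem lv1e_0 : allZ (l1.ent P) (nat_lit 0) (nat_lit 6) = true := by decide +kernel
theorem lv1b : Nat.blt (Pt1 (nat_lit 0)) (nat_lit 8) = true ∧ Q1 (Pt1 (nat_lit 0)) = 0 ∧ Pt1 (nat_lit 0) = 1 := by decide +kernel
theorem sb1 : H16.allL (ltAll (nat_lit 5)) c1.Sl = true ∧ fixLetters P (nat_lit 5) (Pt1 (nat_lit 0)) = true := by decide +kernel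
theorem tc2e_a : allZ2 (entryChk T2 (selR RL2 I2) D2 (nat_lit 7) (nat_lit 6) (nat_lit 5)) (nat_lit 5) (nat_lit 6) = true := by decide +kernel
theorem tc2r : rulesChk Rl c2.Sl RL2 (nat_lit 5) = true := by decide +kernel
theorem lv2e_0 : allZ (l2.ent P) (nat_lit 0) (nat_lit 5) = true := by decide +kernel
theorem lv2b : Nat.blt (Pt2 (nat_lit 0)) (nat_lit 8) = true ∧ Q2 (Pt2 (nat_lit 0)) = 0 ∧ Pt2 (nat_lit 0) = 2 := by decide +kernel
theorem sb2 : H16.allL (ltAll (nat_lit 4)) c2.Sl = true ∧ fixLetters P (nat_lit 4) (Pt2 (nat_lit 0)) = true := by decide +kernel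
theorem tc3e_a : allZ2 (entryChk T3 (selR RL3 I3) D3 (nat_lit 7) (nat_lit 5) (nat_lit 4)) (nat_lit 4) (nat_lit 5) = true := by decide +kernel
theorem tc3r : rulesChk Rl c3.Sl RL3 (nat_lit 4) = true := by decide +kernel
theorem lv3e_0 : allZ (l3.ent P) (nat_lit 0) (nat_lit 4) = true := by decide +kernel
theorem lv3b : Nat.blt (Pt3 (nat_lit 0)) (nat_lit 8) = true ∧ Q3 (Pt3 (nat_lit 0)) = 0 ∧ Pt3 (nat_lit 0) = 3 := by decide +kernel
theorem sb3 : H16.allL (ltAll (nat_lit 3)) c3.Sl = true ∧ fixLetters P (nat_lit 3) (Pt3 (nat_lit 0)) = true := by decide +kernel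
theorem tc4e_a : allZ2 (entryChk T4 (selR RL4 I4) D4 (nat_lit 3) (nat_lit 4) (nat_lit 3)) (nat_lit 3) (nat_lit 4) = true := by decide +kernel
theorem tc4r : rulesChk Rl c4.Sl RL4 (nat_lit 3) = true := by decide +kernel
theorem lv4e_0 : allZ (l4.ent P) (nat_lit 0) (nat_lit 3) = true := by decide +kernel
theorem lv4b : Nat.blt (Pt4 (nat_lit 0)) (nat_lit 8) = true ∧ Q4 (Pt4 (nat_lit 0)) = 0 ∧ Pt4 (nat_lit 0) = 4 := by decide +kernel
theorem sb4 : H16.allL (ltAll (nat_lit 2)) c4.Sl = true ∧ fixLetters P (nat_lit 2) (Pt4 (nat_lit 0)) = true := by decide +kernel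
theorem tc5e_a : allZ2 (entryChk T5 (selR RL5 I5) D5 (nat_lit 3) (nat_lit 3) (nat_lit 2)) (nat_lit 2) (nat_lit 3) = true := by decide +kernel
theorem tc5r : rulesChk Rl c5.Sl RL5 (nat_lit 2) = true := by decide +kernel
theorem lv5e_0 : allZ (l5.ent P) (nat_lit 0) (nat_lit 2) = true := by decide +kernel
theorem lv5b : Nat.blt (Pt5 (nat_lit 0)) (nat_lit 8) = true ∧ Q5 (Pt5 (nat_lit 0)) = 0 ∧ Pt5 (nat_lit 0) = 5 := by decide +kernel
theorem sb5 : H16.allL (ltAll (nat_lit 0)) c5.Sl = true ∧ fixLetters P (nat_lit 0) (Pt5 (nat_lit 0)) = true := by decide +kernel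
theorem Blt : ltAll (nat_lit 8) B = 0 := by decide +kernel
theorem ivk : ivLt Rl (nat_lit 7) = true := by decide +kernel
theorem pe_a : allZ2 (permEnt P (ivOf Rl) (nat_lit 8)) (nat_lit 7) (nat_lit 8) = true := by decide +kernel
theorem rf0 : H16.allL (fixRange P (nat_lit 7) (nat_lit 0) (nat_lit 8)) (Rl.drop (nat_lit 7)) = true := by decide +kernel

theorem tc0e : ∀ k < 7, ∀ i < 8, (entryChk T0 (selR RL0 I0) D0 (nat_lit 7) (nat_lit 8) (nat_lit 7)) k i = 0 := allZ2_sound tc0e_a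
theorem tc0 : c0.OK Rl 7 := ⟨by decide, by decide, by decide, ivc, tc0r, tc0e⟩
theorem lv0e : ∀ i < 7, (l0.ent P) i = 0 := allZ_sound0 lv0e_0
theorem lv0 : l0.OK P 8 := ⟨by decide, by decide, lt_of_blt lv0b.1, lv0b.2.1, lv0e⟩
theorem tc1e : ∀ k < 6, ∀ i < 7, (entryChk T1 (selR RL1 I1) D1 (nat_lit 7) (nat_lit 7) (nat_lit 6)) k i = 0 := allZ2_sound tc1e_a
theorem tc1 : c1.OK Rl 7 := ⟨by decide, by decide, by decide, ivc, tc1r, tc1e⟩
theorem lv1e : ∀ i < 6, (l1.ent P) i = 0 := allZ_sound0 lv1e_0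
theorem lv1 : l1.OK P 8 := ⟨by decide, by decide, lt_of_blt lv1b.1, lv1b.2.1, lv1e⟩
theorem tc2e : ∀ k < 5, ∀ i < 6, (entryChk T2 (selR RL2 I2) D2 (nat_lit 7) (nat_lit 6) (nat_lit 5)) k i = 0 := allZ2_sound tc2e_a
theorem tc2 : c2.OK Rl 7 := ⟨by decide, by decide, by decide, ivc, tc2r, tc2e⟩
theorem lv2e : ∀ i < 5, (l2.ent P) i = 0 := allZ_sound0 lv2e_0
theorem lv2 : l2.OK P 8 := ⟨by decide, by decide, lt_of_blt lv2b.1, lv2b.2.1, lv2e⟩
theorem tc3e : ∀ k < 4, ∀ i < 5, (entryChk T3 (selR RL3 I3) D3 (nat_lit 7) (nat_lit 5) (nat_lit 4)) k i = 0 := allZ2_sound tc3e_a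
theorem tc3 : c3.OK Rl 7 := ⟨by decide, by decide, by decide, ivc, tc3r, tc3e⟩
theorem lv3e : ∀ i < 4, (l3.ent P) i = 0 := allZ_sound0 lv3e_0
theorem lv3 : l3.OK P 8 := ⟨by decide, by decide, lt_of_blt lv3b.1, lv3b.2.1, lv3e⟩
theorem tc4e : ∀ k < 3, ∀ i < 4, (entryChk T4 (selR RL4 I4) D4 (nat_lit 3) (nat_lit 4) (nat_lit 3)) k i = 0 := allZ2_sound tc4e_a
theorem tc4 : c4.OK Rl 7 := ⟨by decide, by decide, by decide, ivc, tc4r, tc4e⟩
theorem lv4e : ∀ i < 3, (l4.ent P) i = 0 := allZ_sound0 lv4e_0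
theorem lv4 : l4.OK P 8 := ⟨by decide, by decide, lt_of_blt lv4b.1, lv4b.2.1, lv4e⟩
theorem tc5e : ∀ k < 2, ∀ i < 3, (entryChk T5 (selR RL5 I5) D5 (nat_lit 3) (nat_lit 3) (nat_lit 2)) k i = 0 := allZ2_sound tc5e_a
theorem tc5 : c5.OK Rl 7 := ⟨by decide, by decide, by decide, ivc, tc5r, tc5e⟩
theorem lv5e : ∀ i < 2, (l5.ent P) i = 0 := allZ_sound0 lv5e_0
theorem lv5 : l5.OK P 8 := ⟨by decide, by decide, lt_of_blt lv5b.1, lv5b.2.1, lv5e⟩
theorem bound5 : Bound Rl 2 3 := Bound.step' (Bound.zero Rl) tc5 sb5.1 (by decide +kernel)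
theorem bound4 : Bound Rl 3 12 := Bound.step' (bound5) tc4 sb4.1 (by decide +kernel)
theorem bound3 : Bound Rl 4 60 := Bound.step' (bound4) tc3 sb3.1 (by decide +kernel)
theorem bound2 : Bound Rl 5 360 := Bound.step' (bound3) tc2 sb2.1 (by decide +kernel)
theorem bound1 : Bound Rl 6 2520 := Bound.step' (bound2) tc1 sb1.1 (by decide +kernel)
theorem bound0 : Bound Rl 7 20160 := Bound.step' (bound1) tc0 sb0.1 (by decide +kernel)
/-- every tuple satisfying `Rl` generates a group of order at most `20160` -/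
theorem bound : Bound Rl 7 20160 := bound0
theorem chain_of {G Ω : Type*} [Group G] [MulAction G Ω] {g : ℕ → G} {pt : ℕ → Ω}
    (h : Act g pt P 8 7) (hR : Rels g Rl) : IsChain g pt 8 L :=
  IsChain.cons (L := [l1, l2, l3, l4, l5]) (IsChain.cons (L := [l2, l3, l4, l5]) (IsChain.cons (L := [l3, l4, l5]) (IsChain.cons (L := [l4, l5]) (IsChain.cons (L := [l5]) (IsChain.cons (L := []) (trivial) h hR tc5 lv5 rfl rfl rfl (by decide) sb5.1 sb5.2) h hR tc4 lv4 rfl rfl rfl (by decide) sb4.1 sb4.2) h hR tc3 lv3 rfl rfl rfl (by decide) sb3.1 sb3.2) h hR tc2 lv2 rfl rfl rfl (by decide) sb2.1 sb2.2) h hR tc1 lv1 rfl rfl rfl (by decide) sb1.1 sb1.2) h hR tc0 lv0 rfl rfl rfl (by decide) sb0.1 sb0.2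
theorem base_eq : chainBase L = B := by decide +kernel
theorem pe : ∀ k < 7, ∀ i < 8, (permEnt P (ivOf Rl) (nat_lit 8)) k i = 0 := allZ2_sound pe_a
/-- the letters -/
noncomputable def g : ℕ → Equiv.Perm (Fin 8) := permGen 8 P
theorem act : Act g (ptF 8) P 8 7 := act_permGen pe
theorem rels : Rels g Rl :=
  rels_perm pe ivc ivk (FixUpTo.first rf0)
theorem chain : IsChain g (ptF 8) 8 L := chain_of act rels
theorem card : Nat.card (gen g 7) = 20160 := chain.card' (ptF_inj 8) (by decide +kernel)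
theorem isBase : IsBase (gen g 7) (ptF 8) B := base_eq ▸ chain.isBase (ptF_inj 8)
theorem eq : gen g 7 = alternatingGroup (Fin 8) := by
  refine Equiv.Perm.eq_alternatingGroup_of_index_eq_two ?_
  have := (gen g 7).index_mul_card
  rw [Nat.card_perm, Nat.card_fin, card] at this
  simp only [Nat.factorial] at this
  omega

end H15.XA8
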