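import Cfsg.Agent.H16.Slp

/-! Generated by tools/h15/cs.py. -/

set_option maxRecDepth 100000
set_option maxHeartbeats 0

namespace H15.XMcLC

open H16

noncomputable def Rl : List (List ℕ) := [[nat_lit 0, nat_lit 1],
  [nat_lit 1, nat_lit 0],
  [nat_lit 2, nat_lit 2],
  [nat_lit 3, nat_lit 3],
  [nat_lit 0, nat_lit 0, nat_lit 0],
  [nat_lit 0, nat_lit 2, nat_lit 0, nat_lit 2, nat_lit 0, nat_lit 2, nat_lit 0, nat_lit 2, nat_lit 0, nat_lit 2, nat_lit 0, nat_lit 2, nat_lit 0, nat_lit 2],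
  [nat_lit 0, nat_lit 2, nat_lit 1, nat_lit 2, nat_lit 0, nat_lit 2, nat_lit 1, nat_lit 2, nat_lit 0, nat_lit 2, nat_lit 1, nat_lit 2, nat_lit 0, nat_lit 2, nat_lit 1, nat_lit 2],
  [nat_lit 0, nat_lit 3, nat_lit 1, nat_lit 3],
  [nat_lit 2, nat_lit 3, nat_lit 2, nat_lit 3, nat_lit 2, nat_lit 3],
  [nat_lit 0, nat_lit 2, nat_lit 0, nat_lit 2, nat_lit 1, nat_lit 3, nat_lit 2, nat_lit 0, nat_lit 2, nat_lit 0, nat_lit 2, nat_lit 3, nat_lit 2, nat_lit 1, nat_lit 2, nat_lit 1, nat_lit 2, nat_lit 0, nat_lit 3, nat_lit 2, nat_lit 1, nat_lit 2, nat_lit 1, nat_lit 2, nat_lit 3, nat_lit 2]]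
noncomputable def Pd : List ℕ := [nat_lit 0x3b04afe759a5d0773e36c8c3c731214adc739f418d515271faa97dc45f228752e58000589793e7a18bb8dc97708b8d66a0c29d5af6522761ef82086a004207a0610803a8e9baa87e09c08e9859c0ba2f4b2498a3346850f66c829a0cab350815e67f2537dc8e3249c438447aafd7ab46bb38104e87059a60783b4586b8518f5641201c244d101035940f4891358eb62da1d8c90292392a236c0c9768f652199acc36af8c08b2a1643ccf648e16a36318395f015613d28ae55084440968435561577a28a01d8632048da2d1550a5f1b970162d3b0d1e4bc5ba20a2c1181cd96432b224a61b6927820b00cc11748c2c26c3ed91da688af04985cc84b31198ce72423dc7eff6f0b0c2e023b89f4292020dda3e514086a79830ac99033c1bd84910526422398515c1a743f00988e56a01904a67884c0298,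
  nat_lit 0x25df49c70aacd4636783d3cd95386d86420c078e8dd16441fad37d895f2e01739166985e954063833bb8431287bdda10d81c1c10b95c099d6285d0adab0485180788b57a6a00075491d4c6b3e2b90a8426a1cf6624aa45920952854a0f559209625444905eca429a50f2b060285e6443a9c1ca73349bdf8d4730120ae35187d7e9978919c4fe1f0e824007632d1a711bb282890442398e4040198945249218ba2f11015b4d85e02e050b62bc038178615dae0c270c16cce0b3b506c474ba21cc2188c982353b8cc52812e3c99a5a4997cfc3f0712cbc7f24a3ca265392b12c191a2ed6f0613c2472b426371be231688145081db58207a2d9e03a5664229de4f663a8b02a0d3fc48f8692762261461b4dc9b1e9f4c8b52437886e71b2a8d0c60128022456d9d81b012c84cd8ad540197cd14f82802f4,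
  nat_lit 0x3212096bc397e076d2da22066cb340104043f1caf214ab045027da8dd2f85007d1ef44b401e2ec0b21c2af027091f22339abe029f71848646b532c10c994742e0e0287b596e056234806255db260cbd068299cc0638bd8ad35d3096ac886af9980f67b0d72b86ac2982182688066de732b8eafe4019416712cb7d442d7d29542f7720a04e8a0e9fdb898333cc6e3a289a510137ab6d1a3545a706c9177374de701608438ab4d068705c290ac6856341415a6c7385d5084429505c747015524772ea5d546431988c24a24114ce7c2d86d4e3b279e0d46e1c9ed26762bbad6642259807c5f21918bc3c239307a401f92482442c250a67d4aa25187958b846031631b548833d065fe9e4e899a0ea743f504b27b04536812d1f854b4393bdda14483883c105e039971254b2a210386421a80468b600305,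
  nat_lit 0x32988cb1104a130c058ca1b085f1720a3868409caac24a5920a1030250c8438bd8fe03793cc00dc21a38949241a51ce467481602e46fb88da2f71a14e6f033081b2d4099409cd85fb25a3032cb38342888449a4360fad04f11618d4745469c1caab310ae172ba160b848c65e2a4bc91012b819005023d6480412994a4106a35f8ab4c1a93a4d30194d29f43bf87aea1fbb160fd553b9448c0383cdc6f4bbe5bcf875a9c7ca87a9f0fa7e23908c2623b9d814086e915ee7044225c2250c27932642636d3468319e0f29b242c457062c06d9e5b2b9597ac015058a2d608355386725bb5fe5f3dba0e414779e9484049a052a3c1db04610416b2184340bc283239702d86eb72e94c38cc62898d8b511c3d76da638782a292d334626b199483a446bc38024f4503946ad859d5f47445bedcc047a2bc22f1]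
noncomputable def P (k u : ℕ) : ℕ := Nat.land (Nat.shiftRight (nth (nat_lit 0) Pd k) (Nat.mul u (nat_lit 9))) (nat_lit 511)
noncomputable def T0d : List ℕ := [nat_lit 0xd7c9af8f1f76be011deaf9acf3ead1b5a4b35f1f289ebc9daabb146a2be26fbed72d66715e8d56baecf56d04d8d9d456c75d429c64383b3a4a6e6ba4d5a0b6e35d0e5cc6977aa774656b9ad591b3875caeac525b6faf1153c8cd897ad6fa1c5bf8ed5bdae1755d6cddd50797549e1eb7ed9b22edca54eb7ad56042d0156d191d4eba2af66b66b6d5a7adbf5536ccfd6d9aa8e4e05488cd2681cb3e4eb64d539b31f5b0ea99d6c1aa5f6626a5fced1a25283beb5cd521ab0b5adea8dd97fad63545556a610fa95765ce8861565ad4b5416b51d5003eb863eea4dd0f9b2bf5a56a79d959395f3d56b47d4e87d975a36a71d94bad0f5376ca2d485b283435ec9fd67fa99f64f6c9bd679a98f64c6c96cf25ace752f6c8fd919acdb52d6c89ca92c95b3c26b32d4a9b20763feb2fd4a0393b3bdeb2dd499b1e27bb6634d8e7b1c35946a45d8db9da75936a41d8cdac9351f6c62d447a0ef62eeb20d471b16750fe72bd06bb14f58e6a31d89fa86f625e82ed891ac635156c44d42fb103413ec3dce75ac4f5116c37ce67ac4750f6c30ce59ac3f50d6c29ce4bac3750b6a0cd843a05360eea09d833a04360ae712d60da82f3876b05d411b02b603eb02d409b00f500ec00,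
  nat_lit 0xfd78bb72f1a9e211c9af5f5e914dcb1d2abab172ecefd9dcab835e36cec71bfa6ef5dc13d12387a7675d983d857cdaea725b27e1d34f679f4f469cfd748af763e064cc6dbd9f2734ee9c7d734a3534e26b95256ba639069caa1d716dafa1dfbdc26797a6e75c2aece156596a34ed8faed9b4260ca6b69afd6f439f80d6eb77cf5599d49d8ecd54383a6975b7ecd0d345adb3666eb6ad6d1ad974e5699bd6c9b3234cc6b61d32dad83662e792cb3f997e856698fd6b8faf34c66b5b857ba6275ac53a05f0f9e1365d6655d36fa6075a9697fd6a3b2d05bee77bcc9bb2c34bc6b4a9f2339274d5e973d68e7e7b4b86b46d94da5b75a1eca3ced352233216893d2cdacfcf396c9cd2c5acf364cec97d329a57759cec90d91ba56759b6c8a9aecc55b4c36953d665b20b640694fd65e353b4be694bd65bb1e732beb2bd8e9b1c74a26b28d8dda5af4a06b26d8cfa4f75926c63ce75988f62f6937d641b16b399e548cc3fb1534986b1cd8a19cb3626661bd069a4a758c6c45ce4bb10730bec3ed277a487589ec38d26ba477588ec31d25da467587ec2ad24fa457586e712d845983360f670ed835982760b6914d215ac1b4886907d60bb02f6046903d605b013480ec00,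
  nat_lit 0xb7df8bbb5f0a6ecd7b763aac74e5e8d7a1af36ef2ebc9d790fb77676ebc29fbd437dff16bb7d9d6a3460e214d6d756576136aeba6aba7ae953ed6ce7578fae8f6736b9fd73c9b2b6726ce3559fae5b2cec0d9d725b3835c6658e697fae2b5c4eb86731b96bf3506b84d9b9ae0b1c181b4d6f9adec2c0d2accd75ade75bc53b0d9aeaaab5b8eb70cae5b3536696b6ed99d69d75b5e7b9d999b32f262b28f6137ad8d733ac66d0c5b31b5afdc94d6bdb30f5aeb19067399b01d5decc1d6b3b2fb65eeb57d6abb2f35aa6cb8c96bb2d8358a4734affad435a6ecb3d965ad2f6576cadd693ad22cd1277447019a9f654eca8d689b292e22eb42d943ad06f34eb405f32b66359f6b3dd9359e5f59deb3ad92bb24f648eb38d66ecd6b645eb35d911accf643ec85d299acc75986c7e409facbb63ee853d8f5acb363bec76d655aca6db6ec6fd64fb1b36356c68d64bb1976326b23d8c3b183590ec5cd8b7ac7f62c6b1ed8adac776296c51d637b13b58d6c4ad633b11f6236b17d887ac5b61feb14d879a05761ceb12d86db0d36196b10d85fb0b7615eb0ed851b09b4916c24d617b0835856c1cd611b063583e70cd827b047404ec0fd81bac13581ec06d80bac076016c00,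
  nat_lit 0x5ddf87bb3f6a7e101d6a7aabf4ebd0cdcecf9b5e62fe4c1c7af1947626d4d77daee72ec97cfd768ab3b26eebad51ae5ec0be425e0d74b5b4b5d26ce82db8a76a2dfece56575ae735cd96d5316db38b2cbe796995dae312536b8b8d9bb37e6d0bb8dd70ac72f66f67b3d704671f5bf6cdbcd701e075bd16d631532f0f66c6778d6e9adcccd79b9ad6de8f07669ecd1cadd9db675ed28abd3e69c75b26ccad9926aa3133e466cd8ba3134b06b5ebb27ad7673cb090631fad6de5e6cc2d98146827b56958d2adad5365deb53d6a5b2dc459228040ffb2d74a76b4cd697b2c66c8e8acd29531235a3ecabd955ad18dcf1d65d94f9a8f4516943d68342275a05f68c7339660e386c9dca7d9cf731fea95d673b253649325cd91d94e339bea88d669aa1f5996c86d909b20d0a8e531ce61a9f7596ec7cd8f7a9df595cb76d8ebb1cb2956729d4d9ac9b635ec69cec3998f4316924d645ac8762fe65ad0b3a48358f6c57d63bb157328684fd239ac6b626eb19d89399174226918d62db10b58aea3cd627b0ef61d6a36d623b0d7619ea2fd61fb0bb6166a28d61bb09f612eb0bd847ac2b60feb08d837ac1f60beb06d829b04b582ec10d81db033604e804d207a80b5806c01]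
noncomputable def T0 (k u : ℕ) : ℕ := Nat.land (Nat.shiftRight (nth (nat_lit 0) T0d k) (Nat.mul u (nat_lit 15))) (nat_lit 32767)
noncomputable def I0d : List ℕ := [nat_lit 0x80204236146a01026000231802610c05088200800620c6008801204641808e18022191001208008c6718c4518022004010a880088010044300c8008c011002d18c43080200846318801110800900110022188620044200442200221002202480088400a480088e110801110011002218c40088601880110c4310022188622002220022200222002310c4310c4400480088400886b,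
  nat_lit 0x600000000001080012800000000000000000000000180000000000005010000000700000080000000000001000010002000000004000002000000000000000000020000000040000400000000000008001000020000100021000010800100000004200000000480084000800008001000200040000400080201000100401000010000100001000000802008020000000042000406,
  nat_lit 0x32c110412200040000200086008e8000cc0100012802003c21000600040040000000000800700000200070a0000042008c050840068000a84020040e2086100420004011046c2800108021000020082100640080409a4000800008420018200802120001100200802100001004210042008401080200802100401004200802008020084200842008481004010040208441080010802a,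
  nat_lit 0x208c029080414051004200043008002084001001000012000000400180601040000025008010000000020000a5000210006410001080001080010082100410800000020004471040000402010010804208840010061080100003004250800300c010844000c0108c00084001802128840000221000100442000200884000403004230042300423004200802008020084010842210c01]
noncomputable def I0 (k u : ℕ) : ℕ := Nat.land (Nat.shiftRight (nth (nat_lit 0) I0d k) (Nat.mul u (nat_lit 5))) (nat_lit 31)
noncomputable def D0d : ℕ := nat_lit 0xe478de1b81dbb5cd2343d0b36ccf26c8b1bc630abeee7b82deb4ecdb32b7abaa4a869aa5e96a4e91a428ea167e9ea739be699a25a9565492a338ca2f8b22a89a1a85e158521282e0a7edf97c9ee7ade97a1e6789dc74dcf719c26fdbd6f1ba6c5b06b9a86819464d916418e61584605805f97b5e9775d9715c16f5b56c599615815e559535494f52d4952145511424d9334bd2e4a5284992247d1d4711b465184490d4310a41d0640d023f4fc3e8f63c4f03b8ea39ce5390e2378d9360d634cce32cc9320c6308bd2f0ba2dcb52d0b22bcac2a8a6284a02789b26498258912408e22c87218812007e1ec7a1dc761c4701b86b1a867198611805e16c5a15c5213c4d1304a11c45110420fc3d0f03a0dc350d02f0b82b0a8230881f0781b0641805c1505012038090200600c00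
noncomputable def D0 (u : ℕ) : ℕ := Nat.land (Nat.shiftRight D0d (Nat.mul u (nat_lit 10))) (nat_lit 1023)
noncomputable def RL0 : List (List Rule) := [[.rel (nat_lit 0) (nat_lit 0) [nat_lit 1], .rel (nat_lit 8) (nat_lit 2) [nat_lit 0, nat_lit 0], .defn, .rel (nat_lit 14) (nat_lit 0) [nat_lit 3, nat_lit 1, nat_lit 3], .rel (nat_lit 8) (nat_lit 1) [nat_lit 0, nat_lit 0], .rel (nat_lit 10) (nat_lit 8) [nat_lit 2, nat_lit 0, nat_lit 2, nat_lit 0, nat_lit 2, nat_lit 0, nat_lit 2, nat_lit 0, nat_lit 2, nat_lit 0, nat_lit 2, nat_lit 0, nat_lit 2], .rel (nat_lit 10) (nat_lit 12) [nat_lit 2, nat_lit 0, nat_lit 2, nat_lit 0, nat_lit 2, nat_lit 0, nat_lit 2, nat_lit 0, nat_lit 2, nat_lit 0, nat_lit 2, nat_lit 0, nat_lit 2], .rel (nat_lit 10) (nat_lit 2) [nat_lit 2, nat_lit 0, nat_lit 2, nat_lit 0, nat_lit 2, nat_lit 0, nat_lit 2, nat_lit 0, nat_lit 2, nat_lit 0, nat_lit 2, nat_lit 0, nat_lit 2], .rel (nat_lit 10)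 (nat_lit 4) [nat_lit 2, nat_lit 0, nat_lit 2, nat_lit 0, nat_lit 2, nat_lit 0, nat_lit 2, nat_lit 0, nat_lit 2, nat_lit 0, nat_lit 2, nat_lit 0, nat_lit 2], .rel (nat_lit 10) (nat_lit 6) [nat_lit 2, nat_lit 0, nat_lit 2, nat_lit 0, nat_lit 2, nat_lit 0, nat_lit 2, nat_lit 0, nat_lit 2, nat_lit 0, nat_lit 2, nat_lit 0, nat_lit 2], .rel (nat_lit 10) (nat_lit 10) [nat_lit 2, nat_lit 0, nat_lit 2, nat_lit 0, nat_lit 2, nat_lit 0, nat_lit 2, nat_lit 0, nat_lit 2, nat_lit 0, nat_lit 2, nat_lit 0, nat_lit 2], .sub (nat_lit 0) [] [], .rel (nat_lit 12) (nat_lit 8) [nat_lit 2, nat_lit 1, nat_lit 2, nat_lit 0, nat_lit 2, nat_lit 1, nat_lit 2, nat_lit 0, nat_lit 2, nat_lit 1, nat_lit 2, nat_lit 0, nat_lit 2, nat_lit 1, nat_lit 2], .rel (nat_lit 18) (nat_lit 7) [nat_lit 2, nat_lit 0, nat_lit 2, nat_lit 3, nat_lit 2, nat_lit 1, nat_lit 2, nat_lit 1, nat_lit 2, nat_lit 0, nat_lit 3, nat_lit 2, nat_lit 1, nat_lit 2, nat_lit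 1, nat_lit 2, nat_lit 3, nat_lit 2, nat_lit 0, nat_lit 2, nat_lit 0, nat_lit 2, nat_lit 1, nat_lit 3, nat_lit 2], .rel (nat_lit 18) (nat_lit 9) [nat_lit 2, nat_lit 3, nat_lit 2, nat_lit 1, nat_lit 2, nat_lit 1, nat_lit 2, nat_lit 0, nat_lit 3, nat_lit 2, nat_lit 1, nat_lit 2, nat_lit 1, nat_lit 2, nat_lit 3, nat_lit 2, nat_lit 0, nat_lit 2, nat_lit 0, nat_lit 2, nat_lit 1, nat_lit 3, nat_lit 2, nat_lit 0, nat_lit 2]],
  [.rel (nat_lit 2) (nat_lit 0) [nat_lit 0], .defn, .rel (nat_lit 12) (nat_lit 10) [nat_lit 2, nat_lit 0, nat_lit 2, nat_lit 1, nat_lit 2, nat_lit 0, nat_lit 2, nat_lit 1, nat_lit 2, nat_lit 0, nat_lit 2, nat_lit 1, nat_lit 2, nat_lit 0, nat_lit 2], .rel (nat_lit 12) (nat_lit 14) [nat_lit 2, nat_lit 0, nat_lit 2, nat_lit 1, nat_lit 2, nat_lit 0, nat_lit 2, nat_lit 1, nat_lit 2, nat_lit 0, nat_lit 2, nat_lit 1, nat_lit 2, nat_lit 0, nat_lit 2], .rel (nat_lit 14) (nat_lit 2) [nat_lit 3, nat_lit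 0, nat_lit 3], .rel (nat_lit 18) (nat_lit 13) [nat_lit 2, nat_lit 1, nat_lit 2, nat_lit 0, nat_lit 3, nat_lit 2, nat_lit 1, nat_lit 2, nat_lit 1, nat_lit 2, nat_lit 3, nat_lit 2, nat_lit 0, nat_lit 2, nat_lit 0, nat_lit 2, nat_lit 1, nat_lit 3, nat_lit 2, nat_lit 0, nat_lit 2, nat_lit 0, nat_lit 2, nat_lit 3, nat_lit 2], .sub (nat_lit 2) [] [], .rel (nat_lit 12) (nat_lit 6) [nat_lit 2, nat_lit 0, nat_lit 2, nat_lit 1, nat_lit 2, nat_lit 0, nat_lit 2, nat_lit 1, nat_lit 2, nat_lit 0, nat_lit 2, nat_lit 1, nat_lit 2, nat_lit 0, nat_lit 2]],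
  [.rel (nat_lit 4) (nat_lit 0) [nat_lit 2], .defn, .rel (nat_lit 16) (nat_lit 4) [nat_lit 3, nat_lit 2, nat_lit 3, nat_lit 2, nat_lit 3], .rel (nat_lit 16) (nat_lit 2) [nat_lit 3, nat_lit 2, nat_lit 3, nat_lit 2, nat_lit 3], .rel (nat_lit 10) (nat_lit 7) [nat_lit 0, nat_lit 2, nat_lit 0, nat_lit 2, nat_lit 0, nat_lit 2, nat_lit 0, nat_lit 2, nat_lit 0, nat_lit 2, nat_lit 0, nat_lit 2, nat_lit 0], .rel (nat_lit 12) (nat_lit 9) [nat_lit 1, nat_lit 2, nat_lit 0, nat_lit 2, nat_lit 1, nat_lit 2, nat_lit 0, nat_lit 2, nat_lit 1, nat_lit 2, nat_lit 0, nat_lit 2, nat_lit 1, nat_lit 2, nat_lit 0], .rel (nat_lit 12) (nat_lit 11) [nat_lit 0, nat_lit 2, nat_lit 1, nat_lit 2, nat_lit 0, nat_lit 2, nat_lit 1, nat_lit 2, nat_lit 0, nat_lit 2, nat_lit 1, nat_lit 2, nat_lit 0, nat_lit 2, nat_lit 1], .rel (nat_lit 10) (nat_lit 5) [nat_lit 0, nat_lit 2, nat_lit 0, nat_lit 2, nat_lit 0, nat_lit 2, nat_lit 0, nat_lit 2, nat_lit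 0, nat_lit 2, nat_lit 0, nat_lit 2, nat_lit 0], .rel (nat_lit 10) (nat_lit 9) [nat_lit 0, nat_lit 2, nat_lit 0, nat_lit 2, nat_lit 0, nat_lit 2, nat_lit 0, nat_lit 2, nat_lit 0, nat_lit 2, nat_lit 0, nat_lit 2, nat_lit 0], .rel (nat_lit 10) (nat_lit 13) [nat_lit 0, nat_lit 2, nat_lit 0, nat_lit 2, nat_lit 0, nat_lit 2, nat_lit 0, nat_lit 2, nat_lit 0, nat_lit 2, nat_lit 0, nat_lit 2, nat_lit 0], .sub (nat_lit 4) [] [], .rel (nat_lit 10) (nat_lit 1) [nat_lit 0, nat_lit 2, nat_lit 0, nat_lit 2, nat_lit 0, nat_lit 2, nat_lit 0, nat_lit 2, nat_lit 0, nat_lit 2, nat_lit 0, nat_lit 2, nat_lit 0], .rel (nat_lit 10) (nat_lit 3) [nat_lit 0, nat_lit 2, nat_lit 0, nat_lit 2, nat_lit 0, nat_lit 2, nat_lit 0, nat_lit 2, nat_lit 0, nat_lit 2, nat_lit 0, nat_lit 2, nat_lit 0], .rel (nat_lit 10) (nat_lit 11) [nat_lit 0, nat_lit 2, nat_lit 0, nat_lit 2, nat_lit 0, nat_lit 2, nat_lit 0, nat_lit 2, nat_lit 0, nat_lit 2, nat_lit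 0, nat_lit 2, nat_lit 0], .rel (nat_lit 12) (nat_lit 5) [nat_lit 1, nat_lit 2, nat_lit 0, nat_lit 2, nat_lit 1, nat_lit 2, nat_lit 0, nat_lit 2, nat_lit 1, nat_lit 2, nat_lit 0, nat_lit 2, nat_lit 1, nat_lit 2, nat_lit 0], .rel (nat_lit 12) (nat_lit 7) [nat_lit 0, nat_lit 2, nat_lit 1, nat_lit 2, nat_lit 0, nat_lit 2, nat_lit 1, nat_lit 2, nat_lit 0, nat_lit 2, nat_lit 1, nat_lit 2, nat_lit 0, nat_lit 2, nat_lit 1], .rel (nat_lit 12) (nat_lit 13) [nat_lit 1, nat_lit 2, nat_lit 0, nat_lit 2, nat_lit 1, nat_lit 2, nat_lit 0, nat_lit 2, nat_lit 1, nat_lit 2, nat_lit 0, nat_lit 2, nat_lit 1, nat_lit 2, nat_lit 0], .rel (nat_lit 16) (nat_lit 0) [nat_lit 3, nat_lit 2, nat_lit 3, nat_lit 2, nat_lit 3], .rel (nat_lit 18) (nat_lit 1) [nat_lit 0, nat_lit 2, nat_lit 1, nat_lit 3, nat_lit 2, nat_lit 0, nat_lit 2, nat_lit 0, nat_lit 2, nat_lit 3, nat_lit 2, nat_lit 1, nat_lit 2, nat_lit 1, nat_lit 2, nat_lit 0, nat_lit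 3, nat_lit 2, nat_lit 1, nat_lit 2, nat_lit 1, nat_lit 2, nat_lit 3, nat_lit 2, nat_lit 0], .rel (nat_lit 18) (nat_lit 6) [nat_lit 0, nat_lit 2, nat_lit 0, nat_lit 2, nat_lit 3, nat_lit 2, nat_lit 1, nat_lit 2, nat_lit 1, nat_lit 2, nat_lit 0, nat_lit 3, nat_lit 2, nat_lit 1, nat_lit 2, nat_lit 1, nat_lit 2, nat_lit 3, nat_lit 2, nat_lit 0, nat_lit 2, nat_lit 0, nat_lit 2, nat_lit 1, nat_lit 3], .rel (nat_lit 18) (nat_lit 8) [nat_lit 0, nat_lit 2, nat_lit 3, nat_lit 2, nat_lit 1, nat_lit 2, nat_lit 1, nat_lit 2, nat_lit 0, nat_lit 3, nat_lit 2, nat_lit 1, nat_lit 2, nat_lit 1, nat_lit 2, nat_lit 3, nat_lit 2, nat_lit 0, nat_lit 2, nat_lit 0, nat_lit 2, nat_lit 1, nat_lit 3, nat_lit 2, nat_lit 0], .rel (nat_lit 18) (nat_lit 21) [nat_lit 1, nat_lit 2, nat_lit 3, nat_lit 2, nat_lit 0, nat_lit 2, nat_lit 0, nat_lit 2, nat_lit 1, nat_lit 3, nat_lit 2, nat_lit 0, nat_lit 2, nat_lit 0, nat_lit 2, nat_lit 3, nat_lit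 2, nat_lit 1, nat_lit 2, nat_lit 1, nat_lit 2, nat_lit 0, nat_lit 3, nat_lit 2, nat_lit 1]],
  [.rel (nat_lit 6) (nat_lit 0) [nat_lit 3], .defn, .rel (nat_lit 14) (nat_lit 1) [nat_lit 1, nat_lit 3, nat_lit 0], .rel (nat_lit 16) (nat_lit 5) [nat_lit 2, nat_lit 3, nat_lit 2, nat_lit 3, nat_lit 2], .rel (nat_lit 14) (nat_lit 3) [nat_lit 0, nat_lit 3, nat_lit 1], .rel (nat_lit 16) (nat_lit 3) [nat_lit 2, nat_lit 3, nat_lit 2, nat_lit 3, nat_lit 2], .rel (nat_lit 18) (nat_lit 11) [nat_lit 2, nat_lit 1, nat_lit 2, nat_lit 1, nat_lit 2, nat_lit 0, nat_lit 3, nat_lit 2, nat_lit 1, nat_lit 2, nat_lit 1, nat_lit 2, nat_lit 3, nat_lit 2, nat_lit 0, nat_lit 2, nat_lit 0, nat_lit 2, nat_lit 1, nat_lit 3, nat_lit 2, nat_lit 0, nat_lit 2, nat_lit 0, nat_lit 2], .rel (nat_lit 16) (nat_lit 1) [nat_lit 2, nat_lit 3, nat_lit 2, nat_lit 3, nat_lit 2], .rel (nat_lit 18) (nat_lit 24) [nat_lit 2, nat_lit 0, nat_lit 2, nat_lit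 0, nat_lit 2, nat_lit 1, nat_lit 3, nat_lit 2, nat_lit 0, nat_lit 2, nat_lit 0, nat_lit 2, nat_lit 3, nat_lit 2, nat_lit 1, nat_lit 2, nat_lit 1, nat_lit 2, nat_lit 0, nat_lit 3, nat_lit 2, nat_lit 1, nat_lit 2, nat_lit 1, nat_lit 2]]]
noncomputable def c0 : TCert := ⟨240, 4, 255, T0, I0, D0, [[nat_lit 0],
  [nat_lit 1],
  [nat_lit 2]], RL0⟩
noncomputable def Pt0d : ℕ := nat_lit 0x57038ecd63818c96622b431f6ce2ba68a03a7e888fe3342301ea863bb7420c1308d190780b9500e0641b15924f39194a48f17a5048a845a41b0b636bae1ebc5891598f859bce007327381f2e734309aa3914ad4f236373b5a8d7840b0f627690c036480b2a910141e31830264e9c45cea4004c047547429c20f5e979e48c200a01a4d4b2b0d6e981b942a641abfd6e530e224942102abd7cd92d17c544718bbe0c6f4891168e27bc39560a56bb9b63245154469e2328d969c7f34011010e924c0815da09cd072e064866766a156012501a5940c43998d4e884bea20253a26c7cda67a9cf84c2e869bc99494492f0d88824d82085964fc4215b71d8bf622c817043d3c142d3548e1f87d810782201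
noncomputable def Pt0 (u : ℕ) : ℕ := Nat.land (Nat.shiftRight Pt0d (Nat.mul u (nat_lit 9))) (nat_lit 511)
noncomputable def Q0d : ℕ := nat_lit 0x1e1b2db95a1ce617862f9f4061000c770348b1724bdf05e52eadb45b00d900b281000a6256a211ba8c7830ac417600005c85ae0021d612552868bda0eca9a1089b004a27e43bb54d35c9d10092ca0f00aad4da106983b84300000071bca65db30eb7396aef577a599607c0260000004e00093700508f4c2ae220001d7b00c2001f5fbec4870080bf536e9533d83adbcb42448bdd1504259d0ba5d0d7ed882bb0c78eeb60a3bb19793136ab3c32c674eae8d3456682233f00671600e3e752ce70c500e1c8af7c24e96d4698644fb65e3d14007f0029009300e0a80600a473d2dc54639ac38d009e1365a77e9c902cc151de6c180002476f99223e91cf9775948a3801d584ee7d340d581a49cdcc6b0000890000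
noncomputable def Q0 (u : ℕ) : ℕ := Nat.land (Nat.shiftRight Q0d (Nat.mul u (nat_lit 8))) (nat_lit 255)
noncomputable def l0 : H16.Lev := ⟨240, 4, D0, Pt0, Q0⟩
noncomputable def T1d : List ℕ := [nat_lit 0x1dfaaddba9dd3a8dcba7dc3a6db8ab397f5fcff1fbfedfb39bd9399d8b98d81dae5b5df8d97f87dff7bdce3755e3353e2f51e2b4ff53d2f43cee1749e1347f23c6e0743f0bc0,
  nat_lit 0xdf35eab33ea731ea32fe9f2de9ba51b3f6fd3f2fc3ee2af23e6f21e671fe6397c7396f919ef8be056bddc538dc4b8cc438bc3b8af57d3f47cfc2385c1b84f27c7c0b81f0fc0,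
  nat_lit 0xeb2b28c131ab6f65d275cbaefbcff7e93a3e8b9fe7b9de73ebfabe9c82e1fa3e7f9be5e5393e4b91e438fc3bdbf6bd9f63d7f5b55e2788e1f86f37ccf2fcae0f82f17c4e03c1]
noncomputable def T1 (k u : ℕ) : ℕ := Nat.land (Nat.shiftRight (nth (nat_lit 0) T1d k) (Nat.mul u (nat_lit 10))) (nat_lit 1023)
noncomputable def I1d : List ℕ := [nat_lit 0xe8a28a289c0000228a351100011451440011440443,
  nat_lit 0x4924000000020904000000924000900a,
  nat_lit 0x1534210000012502490000012492c0009240241]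
noncomputable def I1 (k u : ℕ) : ℕ := Nat.land (Nat.shiftRight (nth (nat_lit 0) I1d k) (Nat.mul u (nat_lit 3))) (nat_lit 7)
noncomputable def D1d : ℕ := nat_lit 0x867f7e7c7b7978767573726f6e6b685f5c595652514c4b49484543423e3b3835322f2827252422211f1e1d1a1714100f0d0c0b0804030200
noncomputable def D1 (u : ℕ) : ℕ := Nat.land (Nat.shiftRight D1d (Nat.mul u (nat_lit 8))) (nat_lit 255)
noncomputable def RL1 : List (List Rule) := [[.defn, .rel (nat_lit 8) (nat_lit 2) [nat_lit 0, nat_lit 0], .rel (nat_lit 0) (nat_lit 0) [nat_lit 1], .sub (nat_lit 0) [] [], .rel (nat_lit 8) (nat_lit 1) [nat_lit 0, nat_lit 0], .rel (nat_lit 10) (nat_lit 4) [nat_lit 2, nat_lit 0, nat_lit 2, nat_lit 0, nat_lit 2, nat_lit 0, nat_lit 2, nat_lit 0, nat_lit 2, nat_lit 0, nat_lit 2, nat_lit 0, nat_lit 2], .rel (nat_lit 10) (nat_lit 8) [nat_lit 2, nat_lit 0, nat_lit 2, nat_lit 0, nat_lit 2, nat_lit 0, nat_lit 2, nat_lit 0, nat_lit 2, nat_lit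 0, nat_lit 2, nat_lit 0, nat_lit 2], .rel (nat_lit 10) (nat_lit 12) [nat_lit 2, nat_lit 0, nat_lit 2, nat_lit 0, nat_lit 2, nat_lit 0, nat_lit 2, nat_lit 0, nat_lit 2, nat_lit 0, nat_lit 2, nat_lit 0, nat_lit 2]],
  [.rel (nat_lit 2) (nat_lit 0) [nat_lit 0], .defn, .sub (nat_lit 2) [] []],
  [.rel (nat_lit 4) (nat_lit 0) [nat_lit 2], .defn, .rel (nat_lit 10) (nat_lit 7) [nat_lit 0, nat_lit 2, nat_lit 0, nat_lit 2, nat_lit 0, nat_lit 2, nat_lit 0, nat_lit 2, nat_lit 0, nat_lit 2, nat_lit 0, nat_lit 2, nat_lit 0], .rel (nat_lit 10) (nat_lit 13) [nat_lit 0, nat_lit 2, nat_lit 0, nat_lit 2, nat_lit 0, nat_lit 2, nat_lit 0, nat_lit 2, nat_lit 0, nat_lit 2, nat_lit 0, nat_lit 2, nat_lit 0], .rel (nat_lit 12) (nat_lit 9) [nat_lit 1, nat_lit 2, nat_lit 0, nat_lit 2, nat_lit 1, nat_lit 2, nat_lit 0, nat_lit 2, nat_lit 1, nat_lit 2, nat_lit 0, nat_lit 2, nat_lit 1, nat_lit 2, nat_lit 0], .rel (nat_lit 12) (nat_lit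 11) [nat_lit 0, nat_lit 2, nat_lit 1, nat_lit 2, nat_lit 0, nat_lit 2, nat_lit 1, nat_lit 2, nat_lit 0, nat_lit 2, nat_lit 1, nat_lit 2, nat_lit 0, nat_lit 2, nat_lit 1]]]
noncomputable def c1 : TCert := ⟨56, 3, 63, T1, I1, D1, [[nat_lit 0],
  [nat_lit 1]], RL1⟩
noncomputable def Pt1d : ℕ := nat_lit 0x8824d88a334413874064492e1e8131064fe80bb0fafc69b85d64e56395e03854ab61e73041e8fc0b3ab5dcf0315868b2af0c3794ee65a2c20e446c8f21006
noncomputable def Pt1 (u : ℕ) : ℕ := Nat.land (Nat.shiftRight Pt1d (Nat.mul u (nat_lit 9))) (nat_lit 511)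
noncomputable def Q1d : ℕ := nat_lit 0x2e03264000000000114000042b9c002802400000000000000001d00002684000044878000088000a0000000c04800008c000000000000000000002a00000000000000000000000700000630069f0006c0240000000000000031000000b400000000000000000340000000000000000159400160000004f060000000003500000003300000000000000000034000000000000002000000000000000400000000000200001c0000000290000000003c000000000000000002c00000e00b000000000dc000002f500d97000000000000
noncomputable def Q1 (u : ℕ) : ℕ := Nat.land (Nat.shiftRight Q1d (Nat.mul u (nat_lit 6))) (nat_lit 63)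
noncomputable def l1 : H16.Lev := ⟨56, 3, D1, Pt1, Q1⟩
noncomputable def T2d : List ℕ := [nat_lit 0x86d,
  nat_lit 0x18e]
noncomputable def T2 (k u : ℕ) : ℕ := Nat.land (Nat.shiftRight (nth (nat_lit 0) T2d k) (Nat.mul u (nat_lit 4))) (nat_lit 15)
noncomputable def I2d : List ℕ := [nat_lit 9,
  nat_lit 1]
noncomputable def I2 (k u : ℕ) : ℕ := Nat.land (Nat.shiftRight (nth (nat_lit 0) I2d k) (Nat.mul u (nat_lit 2))) (nat_lit 3)
noncomputable def D2d : ℕ := nat_lit 4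
noncomputable def D2 (u : ℕ) : ℕ := Nat.land (Nat.shiftRight D2d (Nat.mul u (nat_lit 1))) (nat_lit 1)
noncomputable def RL2 : List (List Rule) := [[.rel (nat_lit 0) (nat_lit 0) [nat_lit 1], .defn, .rel (nat_lit 8) (nat_lit 2) [nat_lit 0, nat_lit 0]],
  [.rel (nat_lit 2) (nat_lit 0) [nat_lit 0], .defn]]
noncomputable def c2 : TCert := ⟨3, 2, 3, T2, I2, D2, [], RL2⟩
noncomputable def Pt2d : ℕ := nat_lit 0x445f425
noncomputable def Pt2 (u : ℕ) : ℕ := Nat.land (Nat.shiftRight Pt2d (Nat.mul u (nat_lit 9))) (nat_lit 511)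
noncomputable def Q2d : ℕ := nat_lit 0x80000000000100000000000000000000000000000000000000000000000000000000000000000000000000000000000000000000000000000000000000000000000000000
noncomputable def Q2 (u : ℕ) : ℕ := Nat.land (Nat.shiftRight Q2d (Nat.mul u (nat_lit 2))) (nat_lit 3)
noncomputable def l2 : H16.Lev := ⟨3, 2, D2, Pt2, Q2⟩
noncomputable def B : List ℕ := [nat_lit 1, nat_lit 6, nat_lit 37]
noncomputable def L : List H16.Lev := [l0, l1, l2]

theorem tc0e_a : allZ2 (entryChk T0 (selR RL0 I0) D0 (nat_lit 255) (nat_lit 240) (nat_lit 4)) (nat_lit 4) (nat_lit 240) = true := by decide +kernel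
theorem tc0r : rulesChk Rl c0.Sl RL0 (nat_lit 4) = true := by decide +kernel
theorem ivc : ivChk Rl (nat_lit 4) = true := by decide +kernel
theorem lv0e_0 : allZ (l0.ent P) (nat_lit 0) (nat_lit 239) = true := by decide +kernel
theorem lv0b : Nat.blt (Pt0 (nat_lit 0)) (nat_lit 275) = true ∧ Q0 (Pt0 (nat_lit 0)) = 0 ∧ Pt0 (nat_lit 0) = 1 := by decide +kernel
theorem sb0 : H16.allL (ltAll (nat_lit 3)) c0.Sl = true ∧ fixLetters P (nat_lit 3) (Pt0 (nat_lit 0)) = true := by decide +kernel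
theorem tc1e_a : allZ2 (entryChk T1 (selR RL1 I1) D1 (nat_lit 63) (nat_lit 56) (nat_lit 3)) (nat_lit 3) (nat_lit 56) = true := by decide +kernel
theorem tc1r : rulesChk Rl c1.Sl RL1 (nat_lit 3) = true := by decide +kernel
theorem lv1e_0 : allZ (l1.ent P) (nat_lit 0) (nat_lit 55) = true := by decide +kernel
theorem lv1b : Nat.blt (Pt1 (nat_lit 0)) (nat_lit 275) = true ∧ Q1 (Pt1 (nat_lit 0)) = 0 ∧ Pt1 (nat_lit 0) = 6 := by decide +kernel
theorem sb1 : H16.allL (ltAll (nat_lit 2)) c1.Sl = true ∧ fixLetters P (nat_lit 2) (Pt1 (nat_lit 0)) = true := by decide +kernel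
theorem tc2e_a : allZ2 (entryChk T2 (selR RL2 I2) D2 (nat_lit 3) (nat_lit 3) (nat_lit 2)) (nat_lit 2) (nat_lit 3) = true := by decide +kernel
theorem tc2r : rulesChk Rl c2.Sl RL2 (nat_lit 2) = true := by decide +kernel
theorem lv2e_0 : allZ (l2.ent P) (nat_lit 0) (nat_lit 2) = true := by decide +kernel
theorem lv2b : Nat.blt (Pt2 (nat_lit 0)) (nat_lit 275) = true ∧ Q2 (Pt2 (nat_lit 0)) = 0 ∧ Pt2 (nat_lit 0) = 37 := by decide +kernel
theorem sb2 : H16.allL (ltAll (nat_lit 0)) c2.Sl = true ∧ fixLetters P (nat_lit 0) (Pt2 (nat_lit 0)) = true := by decide +kernel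
theorem Blt : ltAll (nat_lit 275) B = 0 := by decide +kernel

theorem tc0e : ∀ k < 4, ∀ i < 240, (entryChk T0 (selR RL0 I0) D0 (nat_lit 255) (nat_lit 240) (nat_lit 4)) k i = 0 := allZ2_sound tc0e_a
theorem tc0 : c0.OK Rl 4 := ⟨by decide, by decide, by decide, ivc, tc0r, tc0e⟩
theorem lv0e : ∀ i < 239, (l0.ent P) i = 0 := allZ_sound0 lv0e_0
theorem lv0 : l0.OK P 275 := ⟨by decide, by decide, lt_of_blt lv0b.1, lv0b.2.1, lv0e⟩
theorem tc1e : ∀ k < 3, ∀ i < 56, (entryChk T1 (selR RL1 I1) D1 (nat_lit 63) (nat_lit 56) (nat_lit 3)) k i = 0 := allZ2_sound tc1e_a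
theorem tc1 : c1.OK Rl 4 := ⟨by decide, by decide, by decide, ivc, tc1r, tc1e⟩
theorem lv1e : ∀ i < 55, (l1.ent P) i = 0 := allZ_sound0 lv1e_0
theorem lv1 : l1.OK P 275 := ⟨by decide, by decide, lt_of_blt lv1b.1, lv1b.2.1, lv1e⟩
theorem tc2e : ∀ k < 2, ∀ i < 3, (entryChk T2 (selR RL2 I2) D2 (nat_lit 3) (nat_lit 3) (nat_lit 2)) k i = 0 := allZ2_sound tc2e_a
theorem tc2 : c2.OK Rl 4 := ⟨by decide, by decide, by decide, ivc, tc2r, tc2e⟩
theorem lv2e : ∀ i < 2, (l2.ent P) i = 0 := allZ_sound0 lv2e_0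
theorem lv2 : l2.OK P 275 := ⟨by decide, by decide, lt_of_blt lv2b.1, lv2b.2.1, lv2e⟩
theorem bound2 : Bound Rl 2 3 := Bound.step' (Bound.zero Rl) tc2 sb2.1 (by decide +kernel)
theorem bound1 : Bound Rl 3 168 := Bound.step' (bound2) tc1 sb1.1 (by decide +kernel)
theorem bound0 : Bound Rl 4 40320 := Bound.step' (bound1) tc0 sb0.1 (by decide +kernel)
/-- every tuple satisfying `Rl` generates a group of order at most `40320` -/
theorem bound : Bound Rl 4 40320 := bound0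
theorem chain_of {G Ω : Type*} [Group G] [MulAction G Ω] {g : ℕ → G} {pt : ℕ → Ω}
    (h : Act g pt P 275 4) (hR : Rels g Rl) : IsChain g pt 275 L :=
  IsChain.cons (L := [l1, l2]) (IsChain.cons (L := [l2]) (IsChain.cons (L := []) (trivial) h hR tc2 lv2 rfl rfl rfl (by decide) sb2.1 sb2.2) h hR tc1 lv1 rfl rfl rfl (by decide) sb1.1 sb1.2) h hR tc0 lv0 rfl rfl rfl (by decide) sb0.1 sb0.2
theorem base_eq : chainBase L = B := by decide +kernel

end H15.XMcLC
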