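import Cfsg.Agent.H16.Slp
import Cfsg.Agent.H15.MM

/-! Generated by tools/h15/cs.py. -/

set_option maxRecDepth 100000
set_option maxHeartbeats 0
set_option linter.unusedVariables false

namespace H15.XL52

open H16

noncomputable def Rl : List (List ℕ) := [[nat_lit 0, nat_lit 0],
  [nat_lit 1, nat_lit 1],
  [nat_lit 2, nat_lit 2],
  [nat_lit 3, nat_lit 3],
  [nat_lit 4, nat_lit 4],
  [nat_lit 5, nat_lit 5],
  [nat_lit 6, nat_lit 6],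
  [nat_lit 7, nat_lit 7],
  [nat_lit 2, nat_lit 3, nat_lit 2, nat_lit 3],
  [nat_lit 1, nat_lit 2, nat_lit 1, nat_lit 2],
  [nat_lit 1, nat_lit 3, nat_lit 1, nat_lit 3],
  [nat_lit 0, nat_lit 1, nat_lit 0, nat_lit 1],
  [nat_lit 0, nat_lit 2, nat_lit 0, nat_lit 2],
  [nat_lit 0, nat_lit 3, nat_lit 0, nat_lit 3],
  [nat_lit 0, nat_lit 4, nat_lit 0, nat_lit 4, nat_lit 0, nat_lit 4],
  [nat_lit 1, nat_lit 4, nat_lit 1, nat_lit 4, nat_lit 1, nat_lit 4],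
  [nat_lit 2, nat_lit 4, nat_lit 2, nat_lit 4, nat_lit 2, nat_lit 4],
  [nat_lit 0, nat_lit 3, nat_lit 4, nat_lit 0, nat_lit 3, nat_lit 4, nat_lit 3, nat_lit 0, nat_lit 4],
  [nat_lit 1, nat_lit 3, nat_lit 4, nat_lit 1, nat_lit 3, nat_lit 4, nat_lit 3, nat_lit 1, nat_lit 4],
  [nat_lit 2, nat_lit 3, nat_lit 4, nat_lit 2, nat_lit 3, nat_lit 4, nat_lit 3, nat_lit 2, nat_lit 4],
  [nat_lit 0, nat_lit 1, nat_lit 2, nat_lit 4, nat_lit 0, nat_lit 1, nat_lit 2, nat_lit 4, nat_lit 2, nat_lit 1, nat_lit 0, nat_lit 4],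
  [nat_lit 0, nat_lit 5, nat_lit 0, nat_lit 5],
  [nat_lit 1, nat_lit 5, nat_lit 1, nat_lit 5],
  [nat_lit 2, nat_lit 5, nat_lit 3, nat_lit 5],
  [nat_lit 4, nat_lit 5, nat_lit 4, nat_lit 5, nat_lit 4, nat_lit 5],
  [nat_lit 1, nat_lit 6, nat_lit 1, nat_lit 6],
  [nat_lit 4, nat_lit 6, nat_lit 4, nat_lit 6],
  [nat_lit 0, nat_lit 3, nat_lit 6, nat_lit 0, nat_lit 6],
  [nat_lit 3, nat_lit 4, nat_lit 5, nat_lit 6, nat_lit 5, nat_lit 4, nat_lit 3, nat_lit 4, nat_lit 5, nat_lit 6, nat_lit 5, nat_lit 6, nat_lit 4],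
  [nat_lit 0, nat_lit 7, nat_lit 0, nat_lit 7],
  [nat_lit 1, nat_lit 7, nat_lit 1, nat_lit 7],
  [nat_lit 4, nat_lit 7, nat_lit 4, nat_lit 7],
  [nat_lit 5, nat_lit 7, nat_lit 5, nat_lit 7, nat_lit 5, nat_lit 7],
  [nat_lit 5, nat_lit 6, nat_lit 5, nat_lit 6, nat_lit 7, nat_lit 5, nat_lit 6, nat_lit 5, nat_lit 7]]
noncomputable def Pd : List ℕ := [nat_lit 0xbdab49ca30ffbbcdeb387b9ac5a928398a418820,
  nat_lit 0xad2f68c272ef3fece37a7b9ac5a928398a418820,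
  nat_lit 0x84653a56d7c675be77df7b9ac5a928398a418820,
  nat_lit 0xdeb38ffbbc9ca30bdab47b9ac5a928398a418820,
  nat_lit 0xffbbcdeb38635cf4254ba56d784653398a418820,
  nat_lit 0xffbbc84653bdab4c675b214c75a928635cf18820,
  nat_lit 0xffb38debbc9cab4bda307b9285a9ac188a439820,
  nat_lit 0xfebb8dfb3cbcab09da345b92c7a9a819824388a0]
noncomputable def P (k u : ℕ) : ℕ := Nat.land (Nat.shiftRight (nth (nat_lit 0) Pd k) (Nat.mul u (nat_lit 5))) (nat_lit 31)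
noncomputable def T0d : List ℕ := [nat_lit 0x978cea7c5b66e94cb9852ee518ab766e6f35d8bcc796c39d93b075f01e034057d4fa5f4423888f8a00c40,
  nat_lit 0x5f93e99c6f6a68dcb9866ecc9bab6d6a6c59d8c0a812b39aa3a774cfc1f7c24718e2e11c4888af8a00c40,
  nat_lit 0x1f92ea7c3b6a695ca583ef041dab6c766ba988bf6850b3993b5484ab4a1244f61b08e25c4988ce89d0c40,
  nat_lit 0x8f93ea9c5769e94caf84ef0bd3ac2b2e70a538c288acbba134258a9092294508471362644a88ef09e0c40,
  nat_lit 0x6f96e9dc4770d21925886075a15c5a8531661445765f09d56aac8aacaa29c5189ce19e2bc484510e00c40,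
  nat_lit 0x27a1d4393f71762e43142e8594aaf43267ca2c22f4a0db986acb558724d526874cf1d429847c708621440,
  nat_lit 0x10f00ec5e8703e889c5b6e263c7a914272525abba836cc3896b0c216d90b939064e499e2b4a7c7009f0c40,
  nat_lit 0x1f81e8bc3b0154699bb32e33c3d08b1f2425c89701ec4382310c168528993a824e1b5e2b847c700a10441]
noncomputable def T0 (k u : ℕ) : ℕ := Nat.land (Nat.shiftRight (nth (nat_lit 0) T0d k) (Nat.mul u (nat_lit 11))) (nat_lit 2047)
noncomputable def I0d : List ℕ := [nat_lit 0x42241121310131391000a87000062b5,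
  nat_lit 0x42241124319b0187a033000000552c6,
  nat_lit 0x220062424211071111311333005,
  nat_lit 0x2332443203030201200101101111225,
  nat_lit 0x5445004030101012032151113270186,
  nat_lit 0x9008220141515203143030703441026,
  nat_lit 0x630203202120048241111055102967,
  nat_lit 0x6446000502020221201315331112407]
noncomputable def I0 (k u : ℕ) : ℕ := Nat.land (Nat.shiftRight (nth (nat_lit 0) I0d k) (Nat.mul u (nat_lit 4))) (nat_lit 15)
noncomputable def D0d : ℕ := nat_lit 0xe6d5cdc6a4948d847b5c5b4c4b4443423c332b2a2322211b1a1918140d0700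
noncomputable def D0 (u : ℕ) : ℕ := Nat.land (Nat.shiftRight D0d (Nat.mul u (nat_lit 8))) (nat_lit 255)
noncomputable def RL0 : List (List Rule) := [[.rel (nat_lit 0) (nat_lit 0) [nat_lit 0], .rel (nat_lit 28) (nat_lit 4) [nat_lit 4, nat_lit 0, nat_lit 4, nat_lit 0, nat_lit 4], .rel (nat_lit 42) (nat_lit 2) [nat_lit 5, nat_lit 0, nat_lit 5], .rel (nat_lit 26) (nat_lit 2) [nat_lit 3, nat_lit 0, nat_lit 3], .rel (nat_lit 54) (nat_lit 3) [nat_lit 6, nat_lit 0, nat_lit 3, nat_lit 6], .sub (nat_lit 0) [] [], .defn, .rel (nat_lit 22) (nat_lit 0) [nat_lit 1, nat_lit 0, nat_lit 1], .rel (nat_lit 24) (nat_lit 0) [nat_lit 2, nat_lit 0, nat_lit 2], .rel (nat_lit 24) (nat_lit 2) [nat_lit 2, nat_lit 0, nat_lit 2], .rel (nat_lit 26) (nat_lit 0) [nat_lit 3, nat_lit 0, nat_lit 3], .rel (nat_lit 58) (nat_lit 0) [nat_lit 7, nat_lit 0, nat_lit 7]],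
  [.rel (nat_lit 2) (nat_lit 0) [nat_lit 1], .rel (nat_lit 30) (nat_lit 4) [nat_lit 4, nat_lit 1, nat_lit 4, nat_lit 1, nat_lit 4], .rel (nat_lit 44) (nat_lit 2) [nat_lit 5, nat_lit 1, nat_lit 5], .rel (nat_lit 22) (nat_lit 3) [nat_lit 0, nat_lit 1, nat_lit 0], .rel (nat_lit 50) (nat_lit 2) [nat_lit 6, nat_lit 1, nat_lit 6], .defn, .sub (nat_lit 2) [] [], .rel (nat_lit 18) (nat_lit 0) [nat_lit 2, nat_lit 1, nat_lit 2], .rel (nat_lit 20) (nat_lit 0) [nat_lit 3, nat_lit 1, nat_lit 3], .rel (nat_lit 20) (nat_lit 2) [nat_lit 3, nat_lit 1, nat_lit 3], .rel (nat_lit 36) (nat_lit 7) [nat_lit 4, nat_lit 1, nat_lit 3, nat_lit 4, nat_lit 1, nat_lit 3, nat_lit 4, nat_lit 3], .rel (nat_lit 40) (nat_lit 9) [nat_lit 0, nat_lit 4, nat_lit 0, nat_lit 1, nat_lit 2, nat_lit 4, nat_lit 0, nat_lit 1, nat_lit 2, nat_lit 4, nat_lit 2], .rel (nat_lit 60) (nat_lit 0) [nat_lit 7, nat_lit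 1, nat_lit 7]],
  [.rel (nat_lit 46) (nat_lit 0) [nat_lit 5, nat_lit 3, nat_lit 5], .rel (nat_lit 4) (nat_lit 0) [nat_lit 2], .rel (nat_lit 32) (nat_lit 4) [nat_lit 4, nat_lit 2, nat_lit 4, nat_lit 2, nat_lit 4], .defn, .rel (nat_lit 24) (nat_lit 3) [nat_lit 0, nat_lit 2, nat_lit 0], .sub (nat_lit 4) [] [], .rel (nat_lit 16) (nat_lit 0) [nat_lit 3, nat_lit 2, nat_lit 3], .rel (nat_lit 18) (nat_lit 3) [nat_lit 1, nat_lit 2, nat_lit 1]],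
  [.rel (nat_lit 6) (nat_lit 0) [nat_lit 3], .defn, .rel (nat_lit 54) (nat_lit 1) [nat_lit 6, nat_lit 0, nat_lit 6, nat_lit 0], .rel (nat_lit 46) (nat_lit 2) [nat_lit 5, nat_lit 2, nat_lit 5], .rel (nat_lit 38) (nat_lit 6) [nat_lit 2, nat_lit 4, nat_lit 2, nat_lit 3, nat_lit 4, nat_lit 2, nat_lit 3, nat_lit 4], .sub (nat_lit 6) [] []],
  [.rel (nat_lit 8) (nat_lit 0) [nat_lit 4], .defn, .rel (nat_lit 30) (nat_lit 3) [nat_lit 1, nat_lit 4, nat_lit 1, nat_lit 4, nat_lit 1], .rel (nat_lit 32) (nat_lit 3) [nat_lit 2, nat_lit 4, nat_lit 2, nat_lit 4, nat_lit 2], .rel (nat_lit 48) (nat_lit 4) [nat_lit 5, nat_lit 4, nat_lit 5, nat_lit 4, nat_lit 5], .rel (nat_lit 52) (nat_lit 2) [nat_lit 6, nat_lit 4, nat_lit 6], .sub (nat_lit 8) [] [], .rel (nat_lit 28) (nat_lit 3) [nat_lit 0, nat_lit 4, nat_lit 0, nat_lit 4, nat_lit 0], .rel (nat_lit 62) (nat_lit 0) [nat_lit 7, nat_lit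 4, nat_lit 7]],
  [.rel (nat_lit 10) (nat_lit 0) [nat_lit 5], .rel (nat_lit 48) (nat_lit 3) [nat_lit 4, nat_lit 5, nat_lit 4, nat_lit 5, nat_lit 4], .defn, .rel (nat_lit 46) (nat_lit 1) [nat_lit 3, nat_lit 5, nat_lit 2], .rel (nat_lit 46) (nat_lit 3) [nat_lit 2, nat_lit 5, nat_lit 3], .rel (nat_lit 44) (nat_lit 3) [nat_lit 1, nat_lit 5, nat_lit 1], .sub (nat_lit 10) [] [], .rel (nat_lit 42) (nat_lit 3) [nat_lit 0, nat_lit 5, nat_lit 0], .rel (nat_lit 56) (nat_lit 2) [nat_lit 6, nat_lit 5, nat_lit 4, nat_lit 3, nat_lit 4, nat_lit 5, nat_lit 6, nat_lit 5, nat_lit 6, nat_lit 4, nat_lit 3, nat_lit 4], .rel (nat_lit 66) (nat_lit 2) [nat_lit 6, nat_lit 7, nat_lit 5, nat_lit 6, nat_lit 5, nat_lit 7, nat_lit 5, nat_lit 6]],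
  [.rel (nat_lit 12) (nat_lit 0) [nat_lit 6], .rel (nat_lit 50) (nat_lit 3) [nat_lit 1, nat_lit 6, nat_lit 1], .rel (nat_lit 52) (nat_lit 3) [nat_lit 4, nat_lit 6, nat_lit 4], .defn, .rel (nat_lit 54) (nat_lit 2) [nat_lit 0, nat_lit 6, nat_lit 0, nat_lit 3], .rel (nat_lit 54) (nat_lit 4) [nat_lit 0, nat_lit 3, nat_lit 6, nat_lit 0], .rel (nat_lit 66) (nat_lit 3) [nat_lit 7, nat_lit 5, nat_lit 6, nat_lit 5, nat_lit 7, nat_lit 5, nat_lit 6, nat_lit 5], .sub (nat_lit 12) [] [], .rel (nat_lit 56) (nat_lit 11) [nat_lit 4, nat_lit 3, nat_lit 4, nat_lit 5, nat_lit 6, nat_lit 5, nat_lit 4, nat_lit 3, nat_lit 4, nat_lit 5, nat_lit 6, nat_lit 5], .rel (nat_lit 66) (nat_lit 6) [nat_lit 5, nat_lit 7, nat_lit 5, nat_lit 6, nat_lit 5, nat_lit 6, nat_lit 7, nat_lit 5]],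
  [.rel (nat_lit 14) (nat_lit 0) [nat_lit 7], .rel (nat_lit 60) (nat_lit 3) [nat_lit 1, nat_lit 7, nat_lit 1], .rel (nat_lit 62) (nat_lit 3) [nat_lit 4, nat_lit 7, nat_lit 4], .rel (nat_lit 58) (nat_lit 3) [nat_lit 0, nat_lit 7, nat_lit 0], .rel (nat_lit 64) (nat_lit 5) [nat_lit 5, nat_lit 7, nat_lit 5, nat_lit 7, nat_lit 5], .rel (nat_lit 66) (nat_lit 4) [nat_lit 5, nat_lit 6, nat_lit 5, nat_lit 7, nat_lit 5, nat_lit 6, nat_lit 5, nat_lit 6], .rel (nat_lit 66) (nat_lit 8) [nat_lit 5, nat_lit 6, nat_lit 5, nat_lit 6, nat_lit 7, nat_lit 5, nat_lit 6, nat_lit 5], .defn]]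
noncomputable def c0 : TCert := ⟨31, 8, 31, T0, I0, D0, [[nat_lit 0],
  [nat_lit 1],
  [nat_lit 2],
  [nat_lit 3],
  [nat_lit 4],
  [nat_lit 5],
  [nat_lit 6]], RL0⟩
noncomputable def Pt0d : ℕ := nat_lit 0x8861bda7471744d993c2bdb866578ebfdab8a1
noncomputable def Pt0 (u : ℕ) : ℕ := Nat.land (Nat.shiftRight Pt0d (Nat.mul u (nat_lit 5))) (nat_lit 31)
noncomputable def Q0d : ℕ := nat_lit 0x2b4966194f44874824ebd0b31aba77c703ddf800
noncomputable def Q0 (u : ℕ) : ℕ := Nat.land (Nat.shiftRight Q0d (Nat.mul u (nat_lit 5))) (nat_lit 31)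
noncomputable def l0 : H16.Lev := ⟨31, 8, D0, Pt0, Q0⟩
noncomputable def T1d : List ℕ := [nat_lit 0x10ea3c376968ecc387af0d1fac168671ba28c6d8d914a2844f95129e5348b915226619849cb20a50ce0,
  nat_lit 0xee9fc4768692cc382aef4a0ac0e7e6eda28cab954fd22444792123e62c2d85930e74c649cd20a50ce0,
  nat_lit 0x1ea1c336f68acb9852f2c22ac0d8a6e2e18c96992f21fa4c66e531677bae9873b2751c49cf188a0ce0,
  nat_lit 0xfebbc2768e8dcc1876f33d8accc267329d8cc99ed31e634f498b3ca784c39dd3b6759a49d058a40ce0,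
  nat_lit 0x1aeb7c4f7352692f89a09da664fa9953e664cf781e7b9f6cf52d73ce78c8488f19a32ca898538e50ce0,
  nat_lit 0x2ecda9b33f27dcd156ead99ab942a6a4a7c2cf5e0eb9b634d4d492d84c478d0c9912c24907306714e0,
  nat_lit 0x26e4fd0362541ca987ae0d83d0cc1e6149e8bf01de21e030b4796429f4c430dd0b5e2cc28d1392604e1]
noncomputable def T1 (k u : ℕ) : ℕ := Nat.land (Nat.shiftRight (nth (nat_lit 0) T1d k) (Nat.mul u (nat_lit 11))) (nat_lit 2047)
noncomputable def I1d : List ℕ := [nat_lit 0x422112131013139000a870000b6245,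
  nat_lit 0x522a121319101870330000004542b6,
  nat_lit 0x111221162424800700003003323115,
  nat_lit 0x322442302020301001011011121335,
  nat_lit 0x833003020101012561411025490167,
  nat_lit 0x900110434545102320207023384016,
  nat_lit 0x36226210425241100175001102303]
noncomputable def I1 (k u : ℕ) : ℕ := Nat.land (Nat.shiftRight (nth (nat_lit 0) I1d k) (Nat.mul u (nat_lit 4))) (nat_lit 15)
noncomputable def D1d : ℕ := nat_lit 0xcabbb490827c746c58574a49434241342d2c2625241817161514120c0600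
noncomputable def D1 (u : ℕ) : ℕ := Nat.land (Nat.shiftRight D1d (Nat.mul u (nat_lit 8))) (nat_lit 255)
noncomputable def RL1 : List (List Rule) := [[.rel (nat_lit 0) (nat_lit 0) [nat_lit 0], .rel (nat_lit 28) (nat_lit 4) [nat_lit 4, nat_lit 0, nat_lit 4, nat_lit 0, nat_lit 4], .rel (nat_lit 42) (nat_lit 2) [nat_lit 5, nat_lit 0, nat_lit 5], .rel (nat_lit 26) (nat_lit 2) [nat_lit 3, nat_lit 0, nat_lit 3], .rel (nat_lit 54) (nat_lit 3) [nat_lit 6, nat_lit 0, nat_lit 3, nat_lit 6], .sub (nat_lit 0) [] [], .defn, .rel (nat_lit 22) (nat_lit 0) [nat_lit 1, nat_lit 0, nat_lit 1], .rel (nat_lit 24) (nat_lit 0) [nat_lit 2, nat_lit 0, nat_lit 2], .rel (nat_lit 24) (nat_lit 2) [nat_lit 2, nat_lit 0, nat_lit 2], .rel (nat_lit 26) (nat_lit 0) [nat_lit 3, nat_lit 0, nat_lit 3], .rel (nat_lit 54) (nat_lit 0) [nat_lit 3, nat_lit 6, nat_lit 0, nat_lit 6]],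
  [.rel (nat_lit 2) (nat_lit 0) [nat_lit 1], .rel (nat_lit 30) (nat_lit 4) [nat_lit 4, nat_lit 1, nat_lit 4, nat_lit 1, nat_lit 4], .rel (nat_lit 44) (nat_lit 2) [nat_lit 5, nat_lit 1, nat_lit 5], .rel (nat_lit 22) (nat_lit 3) [nat_lit 0, nat_lit 1, nat_lit 0], .defn, .rel (nat_lit 50) (nat_lit 2) [nat_lit 6, nat_lit 1, nat_lit 6], .sub (nat_lit 2) [] [], .rel (nat_lit 18) (nat_lit 0) [nat_lit 2, nat_lit 1, nat_lit 2], .rel (nat_lit 20) (nat_lit 0) [nat_lit 3, nat_lit 1, nat_lit 3], .rel (nat_lit 20) (nat_lit 2) [nat_lit 3, nat_lit 1, nat_lit 3], .rel (nat_lit 36) (nat_lit 7) [nat_lit 4, nat_lit 1, nat_lit 3, nat_lit 4, nat_lit 1, nat_lit 3, nat_lit 4, nat_lit 3], .rel (nat_lit 50) (nat_lit 0) [nat_lit 6, nat_lit 1, nat_lit 6]],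
  [.rel (nat_lit 4) (nat_lit 0) [nat_lit 2], .rel (nat_lit 46) (nat_lit 0) [nat_lit 5, nat_lit 3, nat_lit 5], .rel (nat_lit 32) (nat_lit 4) [nat_lit 4, nat_lit 2, nat_lit 4, nat_lit 2, nat_lit 4], .defn, .rel (nat_lit 24) (nat_lit 3) [nat_lit 0, nat_lit 2, nat_lit 0], .sub (nat_lit 4) [] [], .rel (nat_lit 16) (nat_lit 0) [nat_lit 3, nat_lit 2, nat_lit 3], .rel (nat_lit 18) (nat_lit 3) [nat_lit 1, nat_lit 2, nat_lit 1], .rel (nat_lit 40) (nat_lit 8) [nat_lit 1, nat_lit 0, nat_lit 4, nat_lit 0, nat_lit 1, nat_lit 2, nat_lit 4, nat_lit 0, nat_lit 1, nat_lit 2, nat_lit 4]],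
  [.rel (nat_lit 6) (nat_lit 0) [nat_lit 3], .defn, .rel (nat_lit 46) (nat_lit 2) [nat_lit 5, nat_lit 2, nat_lit 5], .rel (nat_lit 54) (nat_lit 1) [nat_lit 6, nat_lit 0, nat_lit 6, nat_lit 0], .rel (nat_lit 34) (nat_lit 6) [nat_lit 0, nat_lit 4, nat_lit 0, nat_lit 3, nat_lit 4, nat_lit 0, nat_lit 3, nat_lit 4], .sub (nat_lit 6) [] []],
  [.rel (nat_lit 8) (nat_lit 0) [nat_lit 4], .defn, .rel (nat_lit 32) (nat_lit 3) [nat_lit 2, nat_lit 4, nat_lit 2, nat_lit 4, nat_lit 2], .rel (nat_lit 48) (nat_lit 4) [nat_lit 5, nat_lit 4, nat_lit 5, nat_lit 4, nat_lit 5], .rel (nat_lit 28) (nat_lit 3) [nat_lit 0, nat_lit 4, nat_lit 0, nat_lit 4, nat_lit 0], .rel (nat_lit 30) (nat_lit 3) [nat_lit 1, nat_lit 4, nat_lit 1, nat_lit 4, nat_lit 1], .rel (nat_lit 52) (nat_lit 0) [nat_lit 6, nat_lit 4, nat_lit 6], .sub (nat_lit 8) [] [], .rel (nat_lit 52) (nat_lit 2) [nat_lit 6, nat_lit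 4, nat_lit 6], .rel (nat_lit 56) (nat_lit 12) [nat_lit 3, nat_lit 4, nat_lit 5, nat_lit 6, nat_lit 5, nat_lit 4, nat_lit 3, nat_lit 4, nat_lit 5, nat_lit 6, nat_lit 5, nat_lit 6]],
  [.rel (nat_lit 10) (nat_lit 0) [nat_lit 5], .defn, .rel (nat_lit 46) (nat_lit 1) [nat_lit 3, nat_lit 5, nat_lit 2], .rel (nat_lit 46) (nat_lit 3) [nat_lit 2, nat_lit 5, nat_lit 3], .rel (nat_lit 48) (nat_lit 3) [nat_lit 4, nat_lit 5, nat_lit 4, nat_lit 5, nat_lit 4], .rel (nat_lit 44) (nat_lit 3) [nat_lit 1, nat_lit 5, nat_lit 1], .sub (nat_lit 10) [] [], .rel (nat_lit 42) (nat_lit 3) [nat_lit 0, nat_lit 5, nat_lit 0], .rel (nat_lit 48) (nat_lit 1) [nat_lit 4, nat_lit 5, nat_lit 4, nat_lit 5, nat_lit 4], .rel (nat_lit 56) (nat_lit 2) [nat_lit 6, nat_lit 5, nat_lit 4, nat_lit 3, nat_lit 4, nat_lit 5, nat_lit 6, nat_lit 5, nat_lit 6, nat_lit 4, nat_lit 3, nat_lit 4]],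
  [.rel (nat_lit 12) (nat_lit 0) [nat_lit 6], .rel (nat_lit 50) (nat_lit 3) [nat_lit 1, nat_lit 6, nat_lit 1], .rel (nat_lit 52) (nat_lit 3) [nat_lit 4, nat_lit 6, nat_lit 4], .defn, .rel (nat_lit 54) (nat_lit 2) [nat_lit 0, nat_lit 6, nat_lit 0, nat_lit 3], .rel (nat_lit 54) (nat_lit 4) [nat_lit 0, nat_lit 3, nat_lit 6, nat_lit 0], .rel (nat_lit 56) (nat_lit 9) [nat_lit 5, nat_lit 6, nat_lit 4, nat_lit 3, nat_lit 4, nat_lit 5, nat_lit 6, nat_lit 5, nat_lit 4, nat_lit 3, nat_lit 4, nat_lit 5], .rel (nat_lit 56) (nat_lit 11) [nat_lit 4, nat_lit 3, nat_lit 4, nat_lit 5, nat_lit 6, nat_lit 5, nat_lit 4, nat_lit 3, nat_lit 4, nat_lit 5, nat_lit 6, nat_lit 5]]]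
noncomputable def c1 : TCert := ⟨30, 7, 31, T1, I1, D1, [[nat_lit 0],
  [nat_lit 1],
  [nat_lit 2],
  [nat_lit 3],
  [nat_lit 4],
  [nat_lit 5]], RL1⟩
noncomputable def Pt1d : ℕ := nat_lit 0x672b1c45fd17555f0df713d4692cf3c9b34c2
noncomputable def Pt1 (u : ℕ) : ℕ := Nat.land (Nat.shiftRight Pt1d (Nat.mul u (nat_lit 5))) (nat_lit 31)
noncomputable def Q1d : ℕ := nat_lit 0xb15c67aceda0e49621508e45abcc95e0778e8000
noncomputable def Q1 (u : ℕ) : ℕ := Nat.land (Nat.shiftRight Q1d (Nat.mul u (nat_lit 5))) (nat_lit 31)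
noncomputable def l1 : H16.Lev := ⟨30, 7, D1, Pt1, Q1⟩
noncomputable def T2d : List ℕ := [nat_lit 0x16d9a1e5b8a5cf69cc34956b2ab2b0aaeaa4b691a3e8eb9ae5b92c9b22c7c0b23b8720,
  nat_lit 0x66c5a6e478a5d3684654930327d6b0ba6e82b633a1a85b3ecec0e6b9ab02c9f24b8720,
  nat_lit 0x1ed7a2e57825c76bbeb492eb272430b57076b6068cf046c703cb9ecc0b2aca325b8720,
  nat_lit 0x26d5a2659805d16c3894c2852c20b0c1f3563705c1333c0f31cbf02cb32bca726b8720,
  nat_lit 0x6ecbac4f114df0f2570ace708ce307cd84ec19cc32f3452732cc32db16c4b0f01c8b20,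
  nat_lit 0xc6718cef3ac40363d4b474c72347374392fa35ec6a98b2a08951ea5b196418ee2c0321]
noncomputable def T2 (k u : ℕ) : ℕ := Nat.land (Nat.shiftRight (nth (nat_lit 0) T2d k) (Nat.mul u (nat_lit 10))) (nat_lit 1023)
noncomputable def I2d : List ℕ := [nat_lit 0x33113a21012128100097600005b4,
  nat_lit 0x3311312181017610220000004495,
  nat_lit 0x3318316141410017000020022235,
  nat_lit 0x2275260202040120010110111123,
  nat_lit 0x2200209010101708314111463015,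
  nat_lit 0x11043454510263202070233601]
noncomputable def I2 (k u : ℕ) : ℕ := Nat.land (Nat.shiftRight (nth (nat_lit 0) I2d k) (Nat.mul u (nat_lit 4))) (nat_lit 15)
noncomputable def D2d : ℕ := nat_lit 0x9b95766a655e57403f34332e2d2c28211b1a1514130f0e0d0c0a0500
noncomputable def D2 (u : ℕ) : ℕ := Nat.land (Nat.shiftRight D2d (Nat.mul u (nat_lit 8))) (nat_lit 255)
noncomputable def RL2 : List (List Rule) := [[.rel (nat_lit 0) (nat_lit 0) [nat_lit 0], .rel (nat_lit 28) (nat_lit 4) [nat_lit 4, nat_lit 0, nat_lit 4, nat_lit 0, nat_lit 4], .rel (nat_lit 26) (nat_lit 2) [nat_lit 3, nat_lit 0, nat_lit 3], .rel (nat_lit 42) (nat_lit 2) [nat_lit 5, nat_lit 0, nat_lit 5], .sub (nat_lit 0) [] [], .defn, .rel (nat_lit 22) (nat_lit 0) [nat_lit 1, nat_lit 0, nat_lit 1], .rel (nat_lit 24) (nat_lit 0) [nat_lit 2, nat_lit 0, nat_lit 2], .rel (nat_lit 24) (nat_lit 2) [nat_lit 2, nat_lit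 0, nat_lit 2], .rel (nat_lit 26) (nat_lit 0) [nat_lit 3, nat_lit 0, nat_lit 3], .rel (nat_lit 34) (nat_lit 7) [nat_lit 4, nat_lit 0, nat_lit 3, nat_lit 4, nat_lit 0, nat_lit 3, nat_lit 4, nat_lit 3], .rel (nat_lit 42) (nat_lit 0) [nat_lit 5, nat_lit 0, nat_lit 5]],
  [.rel (nat_lit 2) (nat_lit 0) [nat_lit 1], .rel (nat_lit 30) (nat_lit 4) [nat_lit 4, nat_lit 1, nat_lit 4, nat_lit 1, nat_lit 4], .rel (nat_lit 22) (nat_lit 3) [nat_lit 0, nat_lit 1, nat_lit 0], .rel (nat_lit 44) (nat_lit 2) [nat_lit 5, nat_lit 1, nat_lit 5], .defn, .sub (nat_lit 2) [] [], .rel (nat_lit 18) (nat_lit 0) [nat_lit 2, nat_lit 1, nat_lit 2], .rel (nat_lit 20) (nat_lit 0) [nat_lit 3, nat_lit 1, nat_lit 3], .rel (nat_lit 20) (nat_lit 2) [nat_lit 3, nat_lit 1, nat_lit 3], .rel (nat_lit 44) (nat_lit 0) [nat_lit 5, nat_lit 1, nat_lit 5]],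
  [.rel (nat_lit 4) (nat_lit 0) [nat_lit 2], .rel (nat_lit 32) (nat_lit 4) [nat_lit 4, nat_lit 2, nat_lit 4, nat_lit 2, nat_lit 4], .defn, .rel (nat_lit 46) (nat_lit 0) [nat_lit 5, nat_lit 3, nat_lit 5], .rel (nat_lit 24) (nat_lit 3) [nat_lit 0, nat_lit 2, nat_lit 0], .sub (nat_lit 4) [] [], .rel (nat_lit 16) (nat_lit 0) [nat_lit 3, nat_lit 2, nat_lit 3], .rel (nat_lit 18) (nat_lit 3) [nat_lit 1, nat_lit 2, nat_lit 1], .rel (nat_lit 38) (nat_lit 7) [nat_lit 4, nat_lit 2, nat_lit 3, nat_lit 4, nat_lit 2, nat_lit 3, nat_lit 4, nat_lit 3]],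
  [.rel (nat_lit 6) (nat_lit 0) [nat_lit 3], .defn, .rel (nat_lit 46) (nat_lit 2) [nat_lit 5, nat_lit 2, nat_lit 5], .sub (nat_lit 6) [] [], .rel (nat_lit 34) (nat_lit 4) [nat_lit 4, nat_lit 3, nat_lit 0, nat_lit 4, nat_lit 0, nat_lit 3, nat_lit 4, nat_lit 0], .rel (nat_lit 34) (nat_lit 6) [nat_lit 0, nat_lit 4, nat_lit 0, nat_lit 3, nat_lit 4, nat_lit 0, nat_lit 3, nat_lit 4], .rel (nat_lit 36) (nat_lit 6) [nat_lit 1, nat_lit 4, nat_lit 1, nat_lit 3, nat_lit 4, nat_lit 1, nat_lit 3, nat_lit 4], .rel (nat_lit 38) (nat_lit 6) [nat_lit 2, nat_lit 4, nat_lit 2, nat_lit 3, nat_lit 4, nat_lit 2, nat_lit 3, nat_lit 4]],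
  [.rel (nat_lit 8) (nat_lit 0) [nat_lit 4], .defn, .rel (nat_lit 48) (nat_lit 4) [nat_lit 5, nat_lit 4, nat_lit 5, nat_lit 4, nat_lit 5], .rel (nat_lit 28) (nat_lit 3) [nat_lit 0, nat_lit 4, nat_lit 0, nat_lit 4, nat_lit 0], .rel (nat_lit 32) (nat_lit 3) [nat_lit 2, nat_lit 4, nat_lit 2, nat_lit 4, nat_lit 2], .sub (nat_lit 8) [] [], .rel (nat_lit 30) (nat_lit 3) [nat_lit 1, nat_lit 4, nat_lit 1, nat_lit 4, nat_lit 1], .rel (nat_lit 34) (nat_lit 2) [nat_lit 0, nat_lit 3, nat_lit 4, nat_lit 3, nat_lit 0, nat_lit 4, nat_lit 0, nat_lit 3], .rel (nat_lit 38) (nat_lit 8) [nat_lit 2, nat_lit 3, nat_lit 4, nat_lit 2, nat_lit 3, nat_lit 4, nat_lit 3, nat_lit 2], .rel (nat_lit 40) (nat_lit 3) [nat_lit 0, nat_lit 1, nat_lit 2, nat_lit 4, nat_lit 2, nat_lit 1, nat_lit 0, nat_lit 4, nat_lit 0, nat_lit 1, nat_lit 2]],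
  [.rel (nat_lit 10) (nat_lit 0) [nat_lit 5], .defn, .rel (nat_lit 46) (nat_lit 1) [nat_lit 3, nat_lit 5, nat_lit 2], .rel (nat_lit 46) (nat_lit 3) [nat_lit 2, nat_lit 5, nat_lit 3], .rel (nat_lit 48) (nat_lit 3) [nat_lit 4, nat_lit 5, nat_lit 4, nat_lit 5, nat_lit 4], .rel (nat_lit 44) (nat_lit 3) [nat_lit 1, nat_lit 5, nat_lit 1], .rel (nat_lit 48) (nat_lit 5) [nat_lit 4, nat_lit 5, nat_lit 4, nat_lit 5, nat_lit 4], .rel (nat_lit 42) (nat_lit 3) [nat_lit 0, nat_lit 5, nat_lit 0]]]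
noncomputable def c2 : TCert := ⟨28, 6, 31, T2, I2, D2, [[nat_lit 0],
  [nat_lit 1],
  [nat_lit 2],
  [nat_lit 3],
  [nat_lit 4]], RL2⟩
noncomputable def Pt2d : ℕ := nat_lit 0x29dcc327aaaa2ed9657fd4713b437ee51e4
noncomputable def Pt2 (u : ℕ) : ℕ := Nat.land (Nat.shiftRight Pt2d (Nat.mul u (nat_lit 5))) (nat_lit 31)
noncomputable def Q2d : ℕ := nat_lit 0x612a32adc989e6243d460e6186d2d2d5f6000000
noncomputable def Q2 (u : ℕ) : ℕ := Nat.land (Nat.shiftRight Q2d (Nat.mul u (nat_lit 5))) (nat_lit 31)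
noncomputable def l2 : H16.Lev := ⟨28, 6, D2, Pt2, Q2⟩
noncomputable def T3d : List ℕ := [nat_lit 0x15db62d67204e54ac6ababeaaaa52ca428ea36e5b92e3b22c7b1b01c8b20,
  nat_lit 0x6dc564d61094e4b045f4b3ee8b9cec8ca85a12ceb37029aa69c0726c8f20,
  nat_lit 0x2dd76256eeb4e4ab45c803ed4c19ac81632c0db0c0b2d7af01ca727c9320,
  nat_lit 0x25d962570d2cf094c7072bf06cd10cc1303ccb02cc32ec072bcab28c9720,
  nat_lit 0xc4b10c3874c2737c1f36c1b350b70572ccaccd48cc72fcb2e4b8ee2c0321]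
noncomputable def T3 (k u : ℕ) : ℕ := Nat.land (Nat.shiftRight (nth (nat_lit 0) T3d k) (Nat.mul u (nat_lit 10))) (nat_lit 1023)
noncomputable def I3d : List ℕ := [nat_lit 0x111210121271000865000043,
  nat_lit 0x111217101658022000000334,
  nat_lit 0x178513131001600002002224,
  nat_lit 0x622030305012001011011114,
  nat_lit 0x201010170841211165301]
noncomputable def I3 (k u : ℕ) : ℕ := Nat.land (Nat.shiftRight (nth (nat_lit 0) I3d k) (Nat.mul u (nat_lit 4))) (nat_lit 15)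
noncomputable def D3d : ℕ := nat_lit 0xbd5254462c13a6448501d2e4888d182c4070c14200
noncomputable def D3 (u : ℕ) : ℕ := Nat.land (Nat.shiftRight D3d (Nat.mul u (nat_lit 7))) (nat_lit 127)
noncomputable def RL3 : List (List Rule) := [[.rel (nat_lit 0) (nat_lit 0) [nat_lit 0], .rel (nat_lit 28) (nat_lit 4) [nat_lit 4, nat_lit 0, nat_lit 4, nat_lit 0, nat_lit 4], .rel (nat_lit 26) (nat_lit 2) [nat_lit 3, nat_lit 0, nat_lit 3], .sub (nat_lit 0) [] [], .defn, .rel (nat_lit 22) (nat_lit 0) [nat_lit 1, nat_lit 0, nat_lit 1], .rel (nat_lit 24) (nat_lit 0) [nat_lit 2, nat_lit 0, nat_lit 2], .rel (nat_lit 24) (nat_lit 2) [nat_lit 2, nat_lit 0, nat_lit 2], .rel (nat_lit 26) (nat_lit 0) [nat_lit 3, nat_lit 0, nat_lit 3]],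
  [.rel (nat_lit 2) (nat_lit 0) [nat_lit 1], .rel (nat_lit 30) (nat_lit 4) [nat_lit 4, nat_lit 1, nat_lit 4, nat_lit 1, nat_lit 4], .rel (nat_lit 22) (nat_lit 3) [nat_lit 0, nat_lit 1, nat_lit 0], .defn, .sub (nat_lit 2) [] [], .rel (nat_lit 18) (nat_lit 0) [nat_lit 2, nat_lit 1, nat_lit 2], .rel (nat_lit 20) (nat_lit 0) [nat_lit 3, nat_lit 1, nat_lit 3], .rel (nat_lit 20) (nat_lit 2) [nat_lit 3, nat_lit 1, nat_lit 3], .rel (nat_lit 36) (nat_lit 7) [nat_lit 4, nat_lit 1, nat_lit 3, nat_lit 4, nat_lit 1, nat_lit 3, nat_lit 4, nat_lit 3]],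
  [.rel (nat_lit 4) (nat_lit 0) [nat_lit 2], .rel (nat_lit 32) (nat_lit 4) [nat_lit 4, nat_lit 2, nat_lit 4, nat_lit 2, nat_lit 4], .defn, .rel (nat_lit 24) (nat_lit 3) [nat_lit 0, nat_lit 2, nat_lit 0], .sub (nat_lit 4) [] [], .rel (nat_lit 16) (nat_lit 0) [nat_lit 3, nat_lit 2, nat_lit 3], .rel (nat_lit 18) (nat_lit 3) [nat_lit 1, nat_lit 2, nat_lit 1], .rel (nat_lit 38) (nat_lit 7) [nat_lit 4, nat_lit 2, nat_lit 3, nat_lit 4, nat_lit 2, nat_lit 3, nat_lit 4, nat_lit 3], .rel (nat_lit 40) (nat_lit 8) [nat_lit 1, nat_lit 0, nat_lit 4, nat_lit 0, nat_lit 1, nat_lit 2, nat_lit 4, nat_lit 0, nat_lit 1, nat_lit 2, nat_lit 4]],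
  [.rel (nat_lit 6) (nat_lit 0) [nat_lit 3], .defn, .rel (nat_lit 34) (nat_lit 6) [nat_lit 0, nat_lit 4, nat_lit 0, nat_lit 3, nat_lit 4, nat_lit 0, nat_lit 3, nat_lit 4], .rel (nat_lit 38) (nat_lit 4) [nat_lit 4, nat_lit 3, nat_lit 2, nat_lit 4, nat_lit 2, nat_lit 3, nat_lit 4, nat_lit 2], .sub (nat_lit 6) [] [], .rel (nat_lit 34) (nat_lit 4) [nat_lit 4, nat_lit 3, nat_lit 0, nat_lit 4, nat_lit 0, nat_lit 3, nat_lit 4, nat_lit 0], .rel (nat_lit 38) (nat_lit 6) [nat_lit 2, nat_lit 4, nat_lit 2, nat_lit 3, nat_lit 4, nat_lit 2, nat_lit 3, nat_lit 4]],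
  [.rel (nat_lit 8) (nat_lit 0) [nat_lit 4], .defn, .rel (nat_lit 32) (nat_lit 3) [nat_lit 2, nat_lit 4, nat_lit 2, nat_lit 4, nat_lit 2], .rel (nat_lit 28) (nat_lit 5) [nat_lit 0, nat_lit 4, nat_lit 0, nat_lit 4, nat_lit 0], .rel (nat_lit 30) (nat_lit 3) [nat_lit 1, nat_lit 4, nat_lit 1, nat_lit 4, nat_lit 1], .rel (nat_lit 30) (nat_lit 5) [nat_lit 1, nat_lit 4, nat_lit 1, nat_lit 4, nat_lit 1], .rel (nat_lit 32) (nat_lit 5) [nat_lit 2, nat_lit 4, nat_lit 2, nat_lit 4, nat_lit 2], .rel (nat_lit 34) (nat_lit 2) [nat_lit 0, nat_lit 3, nat_lit 4, nat_lit 3, nat_lit 0, nat_lit 4, nat_lit 0, nat_lit 3], .rel (nat_lit 38) (nat_lit 8) [nat_lit 2, nat_lit 3, nat_lit 4, nat_lit 2, nat_lit 3, nat_lit 4, nat_lit 3, nat_lit 2]]]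
noncomputable def c3 : TCert := ⟨24, 5, 31, T3, I3, D3, [[nat_lit 0],
  [nat_lit 1],
  [nat_lit 2],
  [nat_lit 3]], RL3⟩
noncomputable def Pt3d : ℕ := nat_lit 0x4adda6c9f0557ccc76dfa46fccee68
noncomputable def Pt3 (u : ℕ) : ℕ := Nat.land (Nat.shiftRight Pt3d (Nat.mul u (nat_lit 5))) (nat_lit 31)
noncomputable def Q3d : ℕ := nat_lit 0x435441506b2a5c70c8d08d66cb3ee00000000000
noncomputable def Q3 (u : ℕ) : ℕ := Nat.land (Nat.shiftRight Q3d (Nat.mul u (nat_lit 5))) (nat_lit 31)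
noncomputable def l3 : H16.Lev := ⟨24, 5, D3, Pt3, Q3⟩
noncomputable def T4d : List ℕ := [nat_lit 0x6e5f8a89887d7c7ba4a3a2979695b0c1,
  nat_lit 0x3d5a2fa7a64e74739c9bb16968b0c5c2,
  nat_lit 0xac59179fb5344eb20db1cb2ab0c8c6c3,
  nat_lit 0xbbb8b6b5cfb3b2ceb1cdccb0cac9c7c4]
noncomputable def T4 (k u : ℕ) : ℕ := Nat.land (Nat.shiftRight (nth (nat_lit 0) T4d k) (Nat.mul u (nat_lit 8))) (nat_lit 255)
noncomputable def I4d : List ℕ := [nat_lit 0x209a00d18002,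
  nat_lit 0x344609000012,
  nat_lit 0x690100008049,
  nat_lit 0x201048249]
noncomputable def I4 (k u : ℕ) : ℕ := Nat.land (Nat.shiftRight (nth (nat_lit 0) I4d k) (Nat.mul u (nat_lit 3))) (nat_lit 7)
noncomputable def D4d : ℕ := nat_lit 0xbe36d758f2ca1c6143081000
noncomputable def D4 (u : ℕ) : ℕ := Nat.land (Nat.shiftRight D4d (Nat.mul u (nat_lit 6))) (nat_lit 63)
noncomputable def RL4 : List (List Rule) := [[.rel (nat_lit 0) (nat_lit 0) [nat_lit 0], .rel (nat_lit 26) (nat_lit 2) [nat_lit 3, nat_lit 0, nat_lit 3], .defn, .rel (nat_lit 22) (nat_lit 0) [nat_lit 1, nat_lit 0, nat_lit 1], .rel (nat_lit 24) (nat_lit 0) [nat_lit 2, nat_lit 0, nat_lit 2], .rel (nat_lit 24) (nat_lit 2) [nat_lit 2, nat_lit 0, nat_lit 2], .rel (nat_lit 26) (nat_lit 0) [nat_lit 3, nat_lit 0, nat_lit 3]],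
  [.rel (nat_lit 2) (nat_lit 0) [nat_lit 1], .rel (nat_lit 22) (nat_lit 3) [nat_lit 0, nat_lit 1, nat_lit 0], .defn, .rel (nat_lit 18) (nat_lit 0) [nat_lit 2, nat_lit 1, nat_lit 2], .rel (nat_lit 20) (nat_lit 0) [nat_lit 3, nat_lit 1, nat_lit 3], .rel (nat_lit 20) (nat_lit 2) [nat_lit 3, nat_lit 1, nat_lit 3]],
  [.rel (nat_lit 4) (nat_lit 0) [nat_lit 2], .defn, .rel (nat_lit 24) (nat_lit 3) [nat_lit 0, nat_lit 2, nat_lit 0], .rel (nat_lit 16) (nat_lit 0) [nat_lit 3, nat_lit 2, nat_lit 3], .rel (nat_lit 18) (nat_lit 3) [nat_lit 1, nat_lit 2, nat_lit 1]],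
  [.rel (nat_lit 6) (nat_lit 0) [nat_lit 3], .defn]]
noncomputable def c4 : TCert := ⟨16, 4, 15, T4, I4, D4, [], RL4⟩
noncomputable def Pt4d : ℕ := nat_lit 0xcc676eefd5e5e54feb10
noncomputable def Pt4 (u : ℕ) : ℕ := Nat.land (Nat.shiftRight Pt4d (Nat.mul u (nat_lit 5))) (nat_lit 31)
noncomputable def Q4d : ℕ := nat_lit 0x39b7a2f16c84d5e00000000000000000
noncomputable def Q4 (u : ℕ) : ℕ := Nat.land (Nat.shiftRight Q4d (Nat.mul u (nat_lit 4))) (nat_lit 15)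
noncomputable def l4 : H16.Lev := ⟨16, 4, D4, Pt4, Q4⟩
noncomputable def B : List ℕ := [nat_lit 1, nat_lit 2, nat_lit 4, nat_lit 8, nat_lit 16]
noncomputable def L : List H16.Lev := [l0, l1, l2, l3, l4]

theorem tc0e_a : allZ2 (entryChk T0 (selR RL0 I0) D0 (nat_lit 31) (nat_lit 31) (nat_lit 8)) (nat_lit 8) (nat_lit 31) = true := by decide +kernel
theorem tc0r : rulesChk Rl c0.Sl RL0 (nat_lit 8) = true := by decide +kernel
theorem ivc : ivChk Rl (nat_lit 8) = true := by decide +kernel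
theorem lv0e_0 : allZ (l0.ent P) (nat_lit 0) (nat_lit 30) = true := by decide +kernel
theorem lv0b : Nat.blt (Pt0 (nat_lit 0)) (nat_lit 32) = true ∧ Q0 (Pt0 (nat_lit 0)) = 0 ∧ Pt0 (nat_lit 0) = 1 := by decide +kernel
theorem sb0 : H16.allL (ltAll (nat_lit 7)) c0.Sl = true ∧ fixLetters P (nat_lit 7) (Pt0 (nat_lit 0)) = true := by decide +kernel
theorem tc1e_a : allZ2 (entryChk T1 (selR RL1 I1) D1 (nat_lit 31) (nat_lit 30) (nat_lit 7)) (nat_lit 7) (nat_lit 30) = true := by decide +kernel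
theorem tc1r : rulesChk Rl c1.Sl RL1 (nat_lit 7) = true := by decide +kernel
theorem lv1e_0 : allZ (l1.ent P) (nat_lit 0) (nat_lit 29) = true := by decide +kernel
theorem lv1b : Nat.blt (Pt1 (nat_lit 0)) (nat_lit 32) = true ∧ Q1 (Pt1 (nat_lit 0)) = 0 ∧ Pt1 (nat_lit 0) = 2 := by decide +kernel
theorem sb1 : H16.allL (ltAll (nat_lit 6)) c1.Sl = true ∧ fixLetters P (nat_lit 6) (Pt1 (nat_lit 0)) = true := by decide +kernel
theorem tc2e_a : allZ2 (entryChk T2 (selR RL2 I2) D2 (nat_lit 31) (nat_lit 28) (nat_lit 6)) (nat_lit 6) (nat_lit 28) = true := by decide +kernel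
theorem tc2r : rulesChk Rl c2.Sl RL2 (nat_lit 6) = true := by decide +kernel
theorem lv2e_0 : allZ (l2.ent P) (nat_lit 0) (nat_lit 27) = true := by decide +kernel
theorem lv2b : Nat.blt (Pt2 (nat_lit 0)) (nat_lit 32) = true ∧ Q2 (Pt2 (nat_lit 0)) = 0 ∧ Pt2 (nat_lit 0) = 4 := by decide +kernel
theorem sb2 : H16.allL (ltAll (nat_lit 5)) c2.Sl = true ∧ fixLetters P (nat_lit 5) (Pt2 (nat_lit 0)) = true := by decide +kernel
theorem tc3e_a : allZ2 (entryChk T3 (selR RL3 I3) D3 (nat_lit 31) (nat_lit 24) (nat_lit 5)) (nat_lit 5) (nat_lit 24) = true := by decide +kernel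
theorem tc3r : rulesChk Rl c3.Sl RL3 (nat_lit 5) = true := by decide +kernel
theorem lv3e_0 : allZ (l3.ent P) (nat_lit 0) (nat_lit 23) = true := by decide +kernel
theorem lv3b : Nat.blt (Pt3 (nat_lit 0)) (nat_lit 32) = true ∧ Q3 (Pt3 (nat_lit 0)) = 0 ∧ Pt3 (nat_lit 0) = 8 := by decide +kernel
theorem sb3 : H16.allL (ltAll (nat_lit 4)) c3.Sl = true ∧ fixLetters P (nat_lit 4) (Pt3 (nat_lit 0)) = true := by decide +kernel
theorem tc4e_a : allZ2 (entryChk T4 (selR RL4 I4) D4 (nat_lit 15) (nat_lit 16) (nat_lit 4)) (nat_lit 4) (nat_lit 16) = true := by decide +kernel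
theorem tc4r : rulesChk Rl c4.Sl RL4 (nat_lit 4) = true := by decide +kernel
theorem lv4e_0 : allZ (l4.ent P) (nat_lit 0) (nat_lit 15) = true := by decide +kernel
theorem lv4b : Nat.blt (Pt4 (nat_lit 0)) (nat_lit 32) = true ∧ Q4 (Pt4 (nat_lit 0)) = 0 ∧ Pt4 (nat_lit 0) = 16 := by decide +kernel
theorem sb4 : H16.allL (ltAll (nat_lit 0)) c4.Sl = true ∧ fixLetters P (nat_lit 0) (Pt4 (nat_lit 0)) = true := by decide +kernel
theorem Blt : ltAll (nat_lit 32) B = 0 := by decide +kernel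

theorem tc0e : ∀ k < 8, ∀ i < 31, (entryChk T0 (selR RL0 I0) D0 (nat_lit 31) (nat_lit 31) (nat_lit 8)) k i = 0 := allZ2_sound tc0e_a
theorem tc0 : c0.OK Rl 8 := ⟨by decide, by decide, by decide, ivc, tc0r, tc0e⟩
theorem lv0e : ∀ i < 30, (l0.ent P) i = 0 := allZ_sound0 lv0e_0
theorem lv0 : l0.OK P 32 := ⟨by decide, by decide, lt_of_blt lv0b.1, lv0b.2.1, lv0e⟩
theorem tc1e : ∀ k < 7, ∀ i < 30, (entryChk T1 (selR RL1 I1) D1 (nat_lit 31) (nat_lit 30) (nat_lit 7)) k i = 0 := allZ2_sound tc1e_a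
theorem tc1 : c1.OK Rl 8 := ⟨by decide, by decide, by decide, ivc, tc1r, tc1e⟩
theorem lv1e : ∀ i < 29, (l1.ent P) i = 0 := allZ_sound0 lv1e_0
theorem lv1 : l1.OK P 32 := ⟨by decide, by decide, lt_of_blt lv1b.1, lv1b.2.1, lv1e⟩
theorem tc2e : ∀ k < 6, ∀ i < 28, (entryChk T2 (selR RL2 I2) D2 (nat_lit 31) (nat_lit 28) (nat_lit 6)) k i = 0 := allZ2_sound tc2e_a
theorem tc2 : c2.OK Rl 8 := ⟨by decide, by decide, by decide, ivc, tc2r, tc2e⟩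
theorem lv2e : ∀ i < 27, (l2.ent P) i = 0 := allZ_sound0 lv2e_0
theorem lv2 : l2.OK P 32 := ⟨by decide, by decide, lt_of_blt lv2b.1, lv2b.2.1, lv2e⟩
theorem tc3e : ∀ k < 5, ∀ i < 24, (entryChk T3 (selR RL3 I3) D3 (nat_lit 31) (nat_lit 24) (nat_lit 5)) k i = 0 := allZ2_sound tc3e_a
theorem tc3 : c3.OK Rl 8 := ⟨by decide, by decide, by decide, ivc, tc3r, tc3e⟩
theorem lv3e : ∀ i < 23, (l3.ent P) i = 0 := allZ_sound0 lv3e_0
theorem lv3 : l3.OK P 32 := ⟨by decide, by decide, lt_of_blt lv3b.1, lv3b.2.1, lv3e⟩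
theorem tc4e : ∀ k < 4, ∀ i < 16, (entryChk T4 (selR RL4 I4) D4 (nat_lit 15) (nat_lit 16) (nat_lit 4)) k i = 0 := allZ2_sound tc4e_a
theorem tc4 : c4.OK Rl 8 := ⟨by decide, by decide, by decide, ivc, tc4r, tc4e⟩
theorem lv4e : ∀ i < 15, (l4.ent P) i = 0 := allZ_sound0 lv4e_0
theorem lv4 : l4.OK P 32 := ⟨by decide, by decide, lt_of_blt lv4b.1, lv4b.2.1, lv4e⟩
theorem bound4 : Bound Rl 4 16 := Bound.step' (Bound.zero Rl) tc4 sb4.1 (by decide +kernel)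
theorem bound3 : Bound Rl 5 384 := Bound.step' (bound4) tc3 sb3.1 (by decide +kernel)
theorem bound2 : Bound Rl 6 10752 := Bound.step' (bound3) tc2 sb2.1 (by decide +kernel)
theorem bound1 : Bound Rl 7 322560 := Bound.step' (bound2) tc1 sb1.1 (by decide +kernel)
theorem bound0 : Bound Rl 8 9999360 := Bound.step' (bound1) tc0 sb0.1 (by decide +kernel)
/-- every tuple satisfying `Rl` generates a group of order at most `9999360` -/
theorem bound : Bound Rl 8 9999360 := bound0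
theorem chain_of {G Ω : Type*} [Group G] [MulAction G Ω] {g : ℕ → G} {pt : ℕ → Ω}
    (h : Act g pt P 32 8) (hR : Rels g Rl) : IsChain g pt 32 L :=
  IsChain.cons (L := [l1, l2, l3, l4]) (IsChain.cons (L := [l2, l3, l4]) (IsChain.cons (L := [l3, l4]) (IsChain.cons (L := [l4]) (IsChain.cons (L := []) (trivial) h hR tc4 lv4 rfl rfl rfl (by decide) sb4.1 sb4.2) h hR tc3 lv3 rfl rfl rfl (by decide) sb3.1 sb3.2) h hR tc2 lv2 rfl rfl rfl (by decide) sb2.1 sb2.2) h hR tc1 lv1 rfl rfl rfl (by decide) sb1.1 sb1.2) h hR tc0 lv0 rfl rfl rfl (by decide) sb0.1 sb0.2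
theorem base_eq : chainBase L = B := by decide +kernel
open Cfsg H0.TR
def ix : Fin 5 → ℕ := fun i => i
def iv : List ℕ := [0, 1, 2, 3, 4, 5, 6, 7]
theorem ok0 : MM.mt 2 ix (P 0) * MM.mt 2 ix (P (nth 0 iv 0)) = 1 ∧
    ∀ i < 32, P 0 i < 32 ∧ (MM.mt 2 ix (P 0)).mulVec (MM.vec 2 ix i) = MM.vec 2 ix (P 0 i) := by
  decide +kernel
theorem ok1 : MM.mt 2 ix (P 1) * MM.mt 2 ix (P (nth 0 iv 1)) = 1 ∧
    ∀ i < 32, P 1 i < 32 ∧ (MM.mt 2 ix (P 1)).mulVec (MM.vec 2 ix i) = MM.vec 2 ix (P 1 i) := by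
  decide +kernel
theorem ok2 : MM.mt 2 ix (P 2) * MM.mt 2 ix (P (nth 0 iv 2)) = 1 ∧
    ∀ i < 32, P 2 i < 32 ∧ (MM.mt 2 ix (P 2)).mulVec (MM.vec 2 ix i) = MM.vec 2 ix (P 2 i) := by
  decide +kernel
theorem ok3 : MM.mt 2 ix (P 3) * MM.mt 2 ix (P (nth 0 iv 3)) = 1 ∧
    ∀ i < 32, P 3 i < 32 ∧ (MM.mt 2 ix (P 3)).mulVec (MM.vec 2 ix i) = MM.vec 2 ix (P 3 i) := by
  decide +kernel
theorem ok4 : MM.mt 2 ix (P 4) * MM.mt 2 ix (P (nth 0 iv 4)) = 1 ∧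
    ∀ i < 32, P 4 i < 32 ∧ (MM.mt 2 ix (P 4)).mulVec (MM.vec 2 ix i) = MM.vec 2 ix (P 4 i) := by
  decide +kernel
theorem ok5 : MM.mt 2 ix (P 5) * MM.mt 2 ix (P (nth 0 iv 5)) = 1 ∧
    ∀ i < 32, P 5 i < 32 ∧ (MM.mt 2 ix (P 5)).mulVec (MM.vec 2 ix i) = MM.vec 2 ix (P 5 i) := by
  decide +kernel
theorem ok6 : MM.mt 2 ix (P 6) * MM.mt 2 ix (P (nth 0 iv 6)) = 1 ∧
    ∀ i < 32, P 6 i < 32 ∧ (MM.mt 2 ix (P 6)).mulVec (MM.vec 2 ix i) = MM.vec 2 ix (P 6 i) := by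
  decide +kernel
theorem ok7 : MM.mt 2 ix (P 7) * MM.mt 2 ix (P (nth 0 iv 7)) = 1 ∧
    ∀ i < 32, P 7 i < 32 ∧ (MM.mt 2 ix (P 7)).mulVec (MM.vec 2 ix i) = MM.vec 2 ix (P 7 i) := by
  decide +kernel
theorem ok : MM.OK 2 ix P iv 32 8 :=
  ⟨fun k hk => match k, hk with | 0, _ => ok0 | 1, _ => ok1 | 2, _ => ok2 | 3, _ => ok3 | 4, _ => ok4 | 5, _ => ok5 | 6, _ => ok6 | 7, _ => ok7, by decide +kernel⟩
theorem rf : H16.allL (fixRange P 8 0 32) Rl = true := by decide +kernel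
/-- the letters -/
noncomputable def g : ℕ → GL (Fin 5) (ZMod 2) := MM.gl 2 ix P iv
theorem mem : ∀ k < 8, g k ∈ (Matrix.SpecialLinearGroup.toGL (n := Fin 5) (R := ZMod 2)).range := fun k hk =>
  MM.mem_sl (MM.det_two _)
theorem cardH : Nat.card ((Matrix.SpecialLinearGroup.toGL (n := Fin 5) (R := ZMod 2)).range) = 9999360 := by
  have := MM.card_sl (F := ZMod 2) (n := 5)
  generalize Nat.card _ = a at this ⊢
  simpa [Fin.prod_univ_succ] using this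
theorem md : ∃ (_ : MulAction ((Matrix.SpecialLinearGroup.toGL (n := Fin 5) (R := ZMod 2)).range) (Fin 5 → ZMod 2)) (h : ℕ → (Matrix.SpecialLinearGroup.toGL (n := Fin 5) (R := ZMod 2)).range),
    Md h (MM.vec 2 ix) P 32 8 B 9999360 ∧ ∀ k < 8, (h k : GL (Fin 5) (ZMod 2)) = g k :=
  MM.md_sub ok.act ok.inj (chain_of ok.act (ok.rels rf)) mem cardH (by decide +kernel)

end H15.XL52
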