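import Cfsg.Agent.H16.Slp

/-! Generated by tools/h15/cs.py. -/

set_option maxRecDepth 100000
set_option maxHeartbeats 0

namespace H15.XM24C

open H16

noncomputable def Rl : List (List ℕ) := [[nat_lit 0, nat_lit 0],
  [nat_lit 1, nat_lit 1],
  [nat_lit 2, nat_lit 2],
  [nat_lit 3, nat_lit 3],
  [nat_lit 4, nat_lit 4],
  [nat_lit 5, nat_lit 5],
  [nat_lit 1, nat_lit 2, nat_lit 1, nat_lit 2],
  [nat_lit 0, nat_lit 1, nat_lit 0, nat_lit 1],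
  [nat_lit 0, nat_lit 2, nat_lit 0, nat_lit 2],
  [nat_lit 0, nat_lit 3, nat_lit 0, nat_lit 3, nat_lit 0, nat_lit 3],
  [nat_lit 1, nat_lit 3, nat_lit 1, nat_lit 3, nat_lit 1, nat_lit 3],
  [nat_lit 0, nat_lit 2, nat_lit 3, nat_lit 0, nat_lit 2, nat_lit 3, nat_lit 2, nat_lit 0, nat_lit 3],
  [nat_lit 1, nat_lit 2, nat_lit 3, nat_lit 1, nat_lit 2, nat_lit 3, nat_lit 2, nat_lit 1, nat_lit 3],
  [nat_lit 0, nat_lit 4, nat_lit 2, nat_lit 4],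
  [nat_lit 1, nat_lit 4, nat_lit 1, nat_lit 4],
  [nat_lit 3, nat_lit 4, nat_lit 3, nat_lit 4, nat_lit 3, nat_lit 4],
  [nat_lit 3, nat_lit 5, nat_lit 3, nat_lit 5],
  [nat_lit 1, nat_lit 5, nat_lit 1, nat_lit 5],
  [nat_lit 0, nat_lit 1, nat_lit 3, nat_lit 4, nat_lit 5, nat_lit 4, nat_lit 3, nat_lit 0, nat_lit 1, nat_lit 5, nat_lit 3, nat_lit 4, nat_lit 5, nat_lit 4, nat_lit 3]]
noncomputable def Pd : List ℕ := [nat_lit 0xbce95b0a11225ab629c8298ef1c820,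
  nat_lit 0xbc12e8be76951a72aaa86196219020,
  nat_lit 0xbba304aeb42d9a292a68219e71b020,
  nat_lit 0xa5ab751628239a714c7061a4f4ac20,
  nat_lit 0xbdab173e9094c67229216184b69500,
  nat_lit 0x1c5c984ad37d40c5a28a384a4b88cd]
noncomputable def P (k u : ℕ) : ℕ := Nat.land (Nat.shiftRight (nth (nat_lit 0) Pd k) (Nat.mul u (nat_lit 5))) (nat_lit 31)
noncomputable def T0d : List ℕ := [nat_lit 0xf8f8da8a759f32f36c4d234724dad0963b0,
  nat_lit 0x6fbb9faa985e5d3985c568f3174db60b23b0,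
  nat_lit 0x79789a687de9b4a5cd1eeb7314dbb0a63b0,
  nat_lit 0x379fb398dd3c69b394ddddaab88d16cf23b0,
  nat_lit 0x17eb77c8ca5da2b35ab2ddaef24c1e8765b0,
  nat_lit 0xd76ff57a7deb2575a3de596eda2dc6d341b1]
noncomputable def T0 (k u : ℕ) : ℕ := Nat.land (Nat.shiftRight (nth (nat_lit 0) T0d k) (Nat.mul u (nat_lit 9))) (nat_lit 511)
noncomputable def I0d : List ℕ := [nat_lit 0x8175106001024213,
  nat_lit 0x1213760000815234,
  nat_lit 0x50611112202403,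
  nat_lit 0x4310036127400215,
  nat_lit 0x8017326002593014,
  nat_lit 0x100130010201101]
noncomputable def I0 (k u : ℕ) : ℕ := Nat.land (Nat.shiftRight (nth (nat_lit 0) I0d k) (Nat.mul u (nat_lit 4))) (nat_lit 15)
noncomputable def D0d : ℕ := nat_lit 0xb34a3af5a99017284c9111e28280
noncomputable def D0 (u : ℕ) : ℕ := Nat.land (Nat.shiftRight D0d (Nat.mul u (nat_lit 7))) (nat_lit 127)
noncomputable def RL0 : List (List Rule) := [[.rel (nat_lit 0) (nat_lit 0) [nat_lit 0], .rel (nat_lit 26) (nat_lit 0) [nat_lit 4, nat_lit 2, nat_lit 4], .rel (nat_lit 18) (nat_lit 4) [nat_lit 3, nat_lit 0, nat_lit 3, nat_lit 0, nat_lit 3], .sub (nat_lit 0) [] [], .defn, .rel (nat_lit 14) (nat_lit 2) [nat_lit 1, nat_lit 0, nat_lit 1], .rel (nat_lit 16) (nat_lit 0) [nat_lit 2, nat_lit 0, nat_lit 2], .rel (nat_lit 18) (nat_lit 2) [nat_lit 3, nat_lit 0, nat_lit 3, nat_lit 0, nat_lit 3], .rel (nat_lit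 36) (nat_lit 0) [nat_lit 1, nat_lit 3, nat_lit 4, nat_lit 5, nat_lit 4, nat_lit 3, nat_lit 0, nat_lit 1, nat_lit 5, nat_lit 3, nat_lit 4, nat_lit 5, nat_lit 4, nat_lit 3]],
  [.rel (nat_lit 2) (nat_lit 0) [nat_lit 1], .rel (nat_lit 34) (nat_lit 2) [nat_lit 5, nat_lit 1, nat_lit 5], .rel (nat_lit 28) (nat_lit 2) [nat_lit 4, nat_lit 1, nat_lit 4], .rel (nat_lit 34) (nat_lit 0) [nat_lit 5, nat_lit 1, nat_lit 5], .sub (nat_lit 2) [] [], .defn, .rel (nat_lit 12) (nat_lit 0) [nat_lit 2, nat_lit 1, nat_lit 2], .rel (nat_lit 20) (nat_lit 4) [nat_lit 3, nat_lit 1, nat_lit 3, nat_lit 1, nat_lit 3], .rel (nat_lit 36) (nat_lit 8) [nat_lit 5, nat_lit 3, nat_lit 4, nat_lit 5, nat_lit 4, nat_lit 3, nat_lit 0, nat_lit 1, nat_lit 3, nat_lit 4, nat_lit 5, nat_lit 4, nat_lit 3, nat_lit 0]],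
  [.rel (nat_lit 26) (nat_lit 2) [nat_lit 4, nat_lit 0, nat_lit 4], .rel (nat_lit 4) (nat_lit 0) [nat_lit 2], .defn, .sub (nat_lit 4) [] [], .rel (nat_lit 22) (nat_lit 4) [nat_lit 3, nat_lit 2, nat_lit 0, nat_lit 3, nat_lit 0, nat_lit 2, nat_lit 3, nat_lit 0], .rel (nat_lit 22) (nat_lit 6) [nat_lit 0, nat_lit 3, nat_lit 0, nat_lit 2, nat_lit 3, nat_lit 0, nat_lit 2, nat_lit 3], .rel (nat_lit 24) (nat_lit 6) [nat_lit 1, nat_lit 3, nat_lit 1, nat_lit 2, nat_lit 3, nat_lit 1, nat_lit 2, nat_lit 3]],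
  [.rel (nat_lit 6) (nat_lit 0) [nat_lit 3], .rel (nat_lit 32) (nat_lit 0) [nat_lit 5, nat_lit 3, nat_lit 5], .defn, .rel (nat_lit 30) (nat_lit 4) [nat_lit 4, nat_lit 3, nat_lit 4, nat_lit 3, nat_lit 4], .rel (nat_lit 32) (nat_lit 2) [nat_lit 5, nat_lit 3, nat_lit 5], .sub (nat_lit 6) [] [], .rel (nat_lit 18) (nat_lit 3) [nat_lit 0, nat_lit 3, nat_lit 0, nat_lit 3, nat_lit 0], .rel (nat_lit 20) (nat_lit 3) [nat_lit 1, nat_lit 3, nat_lit 1, nat_lit 3, nat_lit 1]],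
  [.rel (nat_lit 8) (nat_lit 0) [nat_lit 4], .defn, .rel (nat_lit 28) (nat_lit 3) [nat_lit 1, nat_lit 4, nat_lit 1], .rel (nat_lit 30) (nat_lit 3) [nat_lit 3, nat_lit 4, nat_lit 3, nat_lit 4, nat_lit 3], .sub (nat_lit 8) [] [], .rel (nat_lit 26) (nat_lit 1) [nat_lit 2, nat_lit 4, nat_lit 0], .rel (nat_lit 26) (nat_lit 3) [nat_lit 0, nat_lit 4, nat_lit 2], .rel (nat_lit 28) (nat_lit 1) [nat_lit 1, nat_lit 4, nat_lit 1], .rel (nat_lit 36) (nat_lit 11) [nat_lit 5, nat_lit 4, nat_lit 3, nat_lit 0, nat_lit 1, nat_lit 3, nat_lit 4, nat_lit 5, nat_lit 4, nat_lit 3, nat_lit 0, nat_lit 1, nat_lit 5, nat_lit 3], .rel (nat_lit 36) (nat_lit 13) [nat_lit 3, nat_lit 0, nat_lit 1, nat_lit 3, nat_lit 4, nat_lit 5, nat_lit 4, nat_lit 3, nat_lit 0, nat_lit 1, nat_lit 5, nat_lit 3, nat_lit 4, nat_lit 5]],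
  [.rel (nat_lit 10) (nat_lit 0) [nat_lit 5], .defn, .rel (nat_lit 34) (nat_lit 1) [nat_lit 1, nat_lit 5, nat_lit 1], .rel (nat_lit 36) (nat_lit 12) [nat_lit 4, nat_lit 3, nat_lit 0, nat_lit 1, nat_lit 3, nat_lit 4, nat_lit 5, nat_lit 4, nat_lit 3, nat_lit 0, nat_lit 1, nat_lit 5, nat_lit 3, nat_lit 4]]]
noncomputable def c0 : TCert := ⟨16, 6, 15, T0, I0, D0, [[nat_lit 0],
  [nat_lit 1],
  [nat_lit 2],
  [nat_lit 3],
  [nat_lit 4]], RL0⟩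
noncomputable def Pt0d : ℕ := nat_lit 0x30510546d49d5d748da0
noncomputable def Pt0 (u : ℕ) : ℕ := Nat.land (Nat.shiftRight Pt0d (Nat.mul u (nat_lit 5))) (nat_lit 31)
noncomputable def Q0d : ℕ := nat_lit 0x496870ac05100b3d0f0020e0
noncomputable def Q0 (u : ℕ) : ℕ := Nat.land (Nat.shiftRight Q0d (Nat.mul u (nat_lit 4))) (nat_lit 15)
noncomputable def l0 : H16.Lev := ⟨16, 6, D0, Pt0, Q0⟩
noncomputable def T1d : List ℕ := [nat_lit 0x3d5c9b98198ab5b4a7a6c2d3b1d0,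
  nat_lit 0x2d3c9bb75985aac378c2d6d4b1d0,
  nat_lit 0x4d4c4bc609c4c3dac2d8d7d5b1d0,
  nat_lit 0x2dcac6dcc56827dbd9a4a3c1d2d0,
  nat_lit 0xccdd5b3a4986479853a465b2c0d1]
noncomputable def T1 (k u : ℕ) : ℕ := Nat.land (Nat.shiftRight (nth (nat_lit 0) T1d k) (Nat.mul u (nat_lit 8))) (nat_lit 255)
noncomputable def I1d : List ℕ := [nat_lit 0x21171065000423,
  nat_lit 0x86242500001173,
  nat_lit 0x24202001011123,
  nat_lit 0x60010521124013,
  nat_lit 0x2613054011302]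
noncomputable def I1 (k u : ℕ) : ℕ := Nat.land (Nat.shiftRight (nth (nat_lit 0) I1d k) (Nat.mul u (nat_lit 4))) (nat_lit 15)
noncomputable def D1d : ℕ := nat_lit 0x20354280e16224060b1420200
noncomputable def D1 (u : ℕ) : ℕ := Nat.land (Nat.shiftRight D1d (Nat.mul u (nat_lit 7))) (nat_lit 127)
noncomputable def RL1 : List (List Rule) := [[.rel (nat_lit 0) (nat_lit 0) [nat_lit 0], .rel (nat_lit 18) (nat_lit 4) [nat_lit 3, nat_lit 0, nat_lit 3, nat_lit 0, nat_lit 3], .rel (nat_lit 26) (nat_lit 0) [nat_lit 4, nat_lit 2, nat_lit 4], .sub (nat_lit 0) [] [], .defn, .rel (nat_lit 14) (nat_lit 0) [nat_lit 1, nat_lit 0, nat_lit 1], .rel (nat_lit 16) (nat_lit 0) [nat_lit 2, nat_lit 0, nat_lit 2], .rel (nat_lit 16) (nat_lit 2) [nat_lit 2, nat_lit 0, nat_lit 2]],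
  [.rel (nat_lit 2) (nat_lit 0) [nat_lit 1], .defn, .rel (nat_lit 20) (nat_lit 4) [nat_lit 3, nat_lit 1, nat_lit 3, nat_lit 1, nat_lit 3], .sub (nat_lit 2) [] [], .rel (nat_lit 12) (nat_lit 0) [nat_lit 2, nat_lit 1, nat_lit 2], .rel (nat_lit 14) (nat_lit 3) [nat_lit 0, nat_lit 1, nat_lit 0], .rel (nat_lit 24) (nat_lit 7) [nat_lit 3, nat_lit 1, nat_lit 2, nat_lit 3, nat_lit 1, nat_lit 2, nat_lit 3, nat_lit 2], .rel (nat_lit 28) (nat_lit 0) [nat_lit 4, nat_lit 1, nat_lit 4], .rel (nat_lit 28) (nat_lit 2) [nat_lit 4, nat_lit 1, nat_lit 4]],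
  [.rel (nat_lit 4) (nat_lit 0) [nat_lit 2], .defn, .rel (nat_lit 26) (nat_lit 2) [nat_lit 4, nat_lit 0, nat_lit 4], .sub (nat_lit 4) [] [], .rel (nat_lit 22) (nat_lit 6) [nat_lit 0, nat_lit 3, nat_lit 0, nat_lit 2, nat_lit 3, nat_lit 0, nat_lit 2, nat_lit 3]],
  [.rel (nat_lit 6) (nat_lit 0) [nat_lit 3], .defn, .rel (nat_lit 20) (nat_lit 3) [nat_lit 1, nat_lit 3, nat_lit 1, nat_lit 3, nat_lit 1], .sub (nat_lit 6) [] [], .rel (nat_lit 18) (nat_lit 3) [nat_lit 0, nat_lit 3, nat_lit 0, nat_lit 3, nat_lit 0], .rel (nat_lit 24) (nat_lit 8) [nat_lit 1, nat_lit 2, nat_lit 3, nat_lit 1, nat_lit 2, nat_lit 3, nat_lit 2, nat_lit 1], .rel (nat_lit 30) (nat_lit 4) [nat_lit 4, nat_lit 3, nat_lit 4, nat_lit 3, nat_lit 4]],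
  [.rel (nat_lit 8) (nat_lit 0) [nat_lit 4], .rel (nat_lit 28) (nat_lit 3) [nat_lit 1, nat_lit 4, nat_lit 1], .defn, .rel (nat_lit 30) (nat_lit 5) [nat_lit 3, nat_lit 4, nat_lit 3, nat_lit 4, nat_lit 3], .rel (nat_lit 26) (nat_lit 1) [nat_lit 2, nat_lit 4, nat_lit 0], .rel (nat_lit 26) (nat_lit 3) [nat_lit 0, nat_lit 4, nat_lit 2], .rel (nat_lit 30) (nat_lit 3) [nat_lit 3, nat_lit 4, nat_lit 3, nat_lit 4, nat_lit 3]]]
noncomputable def c1 : TCert := ⟨14, 5, 15, T1, I1, D1, [[nat_lit 0],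
  [nat_lit 1],
  [nat_lit 2],
  [nat_lit 3]], RL1⟩
noncomputable def Pt1d : ℕ := nat_lit 0x1a3526eeace968c101
noncomputable def Pt1 (u : ℕ) : ℕ := Nat.land (Nat.shiftRight Pt1d (Nat.mul u (nat_lit 5))) (nat_lit 31)
noncomputable def Q1d : ℕ := nat_lit 0x9475603208d00ba10000c000
noncomputable def Q1 (u : ℕ) : ℕ := Nat.land (Nat.shiftRight Q1d (Nat.mul u (nat_lit 4))) (nat_lit 15)
noncomputable def l1 : H16.Lev := ⟨14, 5, D1, Pt1, Q1⟩
noncomputable def T2d : List ℕ := [nat_lit 0x5b9a971889b4b3a6a5c1d2d0,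
  nat_lit 0x3baab65884a9c277c1d5d3d0,
  nat_lit 0x4b1ac508c3c2d9c1d7d6d4d0,
  nat_lit 0xc9c5dbc46726dad8b3b2c0d1]
noncomputable def T2 (k u : ℕ) : ℕ := Nat.land (Nat.shiftRight (nth (nat_lit 0) T2d k) (Nat.mul u (nat_lit 8))) (nat_lit 255)
noncomputable def I2d : List ℕ := [nat_lit 0x27116001a,
  nat_lit 0xca2a0004b,
  nat_lit 0x50200824b,
  nat_lit 0x8ac9881]
noncomputable def I2 (k u : ℕ) : ℕ := Nat.land (Nat.shiftRight (nth (nat_lit 0) I2d k) (Nat.mul u (nat_lit 3))) (nat_lit 7)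
noncomputable def D2d : ℕ := nat_lit 0x9d759338a2461440c0
noncomputable def D2 (u : ℕ) : ℕ := Nat.land (Nat.shiftRight D2d (Nat.mul u (nat_lit 6))) (nat_lit 63)
noncomputable def RL2 : List (List Rule) := [[.rel (nat_lit 0) (nat_lit 0) [nat_lit 0], .rel (nat_lit 18) (nat_lit 4) [nat_lit 3, nat_lit 0, nat_lit 3, nat_lit 0, nat_lit 3], .sub (nat_lit 0) [] [], .defn, .rel (nat_lit 14) (nat_lit 0) [nat_lit 1, nat_lit 0, nat_lit 1], .rel (nat_lit 16) (nat_lit 0) [nat_lit 2, nat_lit 0, nat_lit 2], .rel (nat_lit 16) (nat_lit 2) [nat_lit 2, nat_lit 0, nat_lit 2]],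
  [.rel (nat_lit 2) (nat_lit 0) [nat_lit 1], .defn, .rel (nat_lit 20) (nat_lit 4) [nat_lit 3, nat_lit 1, nat_lit 3, nat_lit 1, nat_lit 3], .sub (nat_lit 2) [] [], .rel (nat_lit 12) (nat_lit 0) [nat_lit 2, nat_lit 1, nat_lit 2], .rel (nat_lit 14) (nat_lit 3) [nat_lit 0, nat_lit 1, nat_lit 0], .rel (nat_lit 24) (nat_lit 7) [nat_lit 3, nat_lit 1, nat_lit 2, nat_lit 3, nat_lit 1, nat_lit 2, nat_lit 3, nat_lit 2]],
  [.rel (nat_lit 4) (nat_lit 0) [nat_lit 2], .defn, .rel (nat_lit 22) (nat_lit 6) [nat_lit 0, nat_lit 3, nat_lit 0, nat_lit 2, nat_lit 3, nat_lit 0, nat_lit 2, nat_lit 3], .sub (nat_lit 4) [] [], .rel (nat_lit 24) (nat_lit 4) [nat_lit 3, nat_lit 2, nat_lit 1, nat_lit 3, nat_lit 1, nat_lit 2, nat_lit 3, nat_lit 1]],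
  [.rel (nat_lit 6) (nat_lit 0) [nat_lit 3], .defn, .rel (nat_lit 18) (nat_lit 5) [nat_lit 0, nat_lit 3, nat_lit 0, nat_lit 3, nat_lit 0], .rel (nat_lit 20) (nat_lit 3) [nat_lit 1, nat_lit 3, nat_lit 1, nat_lit 3, nat_lit 1], .rel (nat_lit 20) (nat_lit 5) [nat_lit 1, nat_lit 3, nat_lit 1, nat_lit 3, nat_lit 1], .rel (nat_lit 24) (nat_lit 8) [nat_lit 1, nat_lit 2, nat_lit 3, nat_lit 1, nat_lit 2, nat_lit 3, nat_lit 2, nat_lit 1]]]
noncomputable def c2 : TCert := ⟨12, 4, 15, T2, I2, D2, [[nat_lit 0],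
  [nat_lit 1],
  [nat_lit 2]], RL2⟩
noncomputable def Pt2d : ℕ := nat_lit 0x45e0a8da93ab923
noncomputable def Pt2 (u : ℕ) : ℕ := Nat.land (Nat.shiftRight Pt2d (Nat.mul u (nat_lit 5))) (nat_lit 31)
noncomputable def Q2d : ℕ := nat_lit 0xa63540790200081b00000000
noncomputable def Q2 (u : ℕ) : ℕ := Nat.land (Nat.shiftRight Q2d (Nat.mul u (nat_lit 4))) (nat_lit 15)
noncomputable def l2 : H16.Lev := ⟨12, 4, D2, Pt2, Q2⟩
noncomputable def T3d : List ℕ := [nat_lit 0x58f8e275ca31,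
  nat_lit 0x94b7e91a8d32,
  nat_lit 0xb2aa77a36d73]
noncomputable def T3 (k u : ℕ) : ℕ := Nat.land (Nat.shiftRight (nth (nat_lit 0) T3d k) (Nat.mul u (nat_lit 6))) (nat_lit 63)
noncomputable def I3d : List ℕ := [nat_lit 0x81a001,
  nat_lit 0x4c0009,
  nat_lit 0x1049]
noncomputable def I3 (k u : ℕ) : ℕ := Nat.land (Nat.shiftRight (nth (nat_lit 0) I3d k) (Nat.mul u (nat_lit 3))) (nat_lit 7)
noncomputable def D3d : ℕ := nat_lit 0xe8542100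
noncomputable def D3 (u : ℕ) : ℕ := Nat.land (Nat.shiftRight D3d (Nat.mul u (nat_lit 4))) (nat_lit 15)
noncomputable def RL3 : List (List Rule) := [[.rel (nat_lit 0) (nat_lit 0) [nat_lit 0], .defn, .rel (nat_lit 14) (nat_lit 0) [nat_lit 1, nat_lit 0, nat_lit 1], .rel (nat_lit 16) (nat_lit 0) [nat_lit 2, nat_lit 0, nat_lit 2], .rel (nat_lit 16) (nat_lit 2) [nat_lit 2, nat_lit 0, nat_lit 2]],
  [.rel (nat_lit 2) (nat_lit 0) [nat_lit 1], .defn, .rel (nat_lit 12) (nat_lit 0) [nat_lit 2, nat_lit 1, nat_lit 2], .rel (nat_lit 14) (nat_lit 3) [nat_lit 0, nat_lit 1, nat_lit 0]],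
  [.rel (nat_lit 4) (nat_lit 0) [nat_lit 2], .defn]]
noncomputable def c3 : TCert := ⟨8, 3, 7, T3, I3, D3, [], RL3⟩
noncomputable def Pt3d : ℕ := nat_lit 0x846d49d5c9
noncomputable def Pt3 (u : ℕ) : ℕ := Nat.land (Nat.shiftRight Pt3d (Nat.mul u (nat_lit 5))) (nat_lit 31)
noncomputable def Q3d : ℕ := nat_lit 0x154637040000000000
noncomputable def Q3 (u : ℕ) : ℕ := Nat.land (Nat.shiftRight Q3d (Nat.mul u (nat_lit 3))) (nat_lit 7)
noncomputable def l3 : H16.Lev := ⟨8, 3, D3, Pt3, Q3⟩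
noncomputable def B : List ℕ := [nat_lit 0, nat_lit 1, nat_lit 3, nat_lit 9]
noncomputable def L : List H16.Lev := [l0, l1, l2, l3]

theorem tc0e_a : allZ2 (entryChk T0 (selR RL0 I0) D0 (nat_lit 15) (nat_lit 16) (nat_lit 6)) (nat_lit 6) (nat_lit 16) = true := by decide +kernel
theorem tc0r : rulesChk Rl c0.Sl RL0 (nat_lit 6) = true := by decide +kernel
theorem ivc : ivChk Rl (nat_lit 6) = true := by decide +kernel
theorem lv0e_0 : allZ (l0.ent P) (nat_lit 0) (nat_lit 15) = true := by decide +kernel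
theorem lv0b : Nat.blt (Pt0 (nat_lit 0)) (nat_lit 24) = true ∧ Q0 (Pt0 (nat_lit 0)) = 0 ∧ Pt0 (nat_lit 0) = 0 := by decide +kernel
theorem sb0 : H16.allL (ltAll (nat_lit 5)) c0.Sl = true ∧ fixLetters P (nat_lit 5) (Pt0 (nat_lit 0)) = true := by decide +kernel
theorem tc1e_a : allZ2 (entryChk T1 (selR RL1 I1) D1 (nat_lit 15) (nat_lit 14) (nat_lit 5)) (nat_lit 5) (nat_lit 14) = true := by decide +kernel
theorem tc1r : rulesChk Rl c1.Sl RL1 (nat_lit 5) = true := by decide +kernel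
theorem lv1e_0 : allZ (l1.ent P) (nat_lit 0) (nat_lit 13) = true := by decide +kernel
theorem lv1b : Nat.blt (Pt1 (nat_lit 0)) (nat_lit 24) = true ∧ Q1 (Pt1 (nat_lit 0)) = 0 ∧ Pt1 (nat_lit 0) = 1 := by decide +kernel
theorem sb1 : H16.allL (ltAll (nat_lit 4)) c1.Sl = true ∧ fixLetters P (nat_lit 4) (Pt1 (nat_lit 0)) = true := by decide +kernel
theorem tc2e_a : allZ2 (entryChk T2 (selR RL2 I2) D2 (nat_lit 15) (nat_lit 12) (nat_lit 4)) (nat_lit 4) (nat_lit 12) = true := by decide +kernel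
theorem tc2r : rulesChk Rl c2.Sl RL2 (nat_lit 4) = true := by decide +kernel
theorem lv2e_0 : allZ (l2.ent P) (nat_lit 0) (nat_lit 11) = true := by decide +kernel
theorem lv2b : Nat.blt (Pt2 (nat_lit 0)) (nat_lit 24) = true ∧ Q2 (Pt2 (nat_lit 0)) = 0 ∧ Pt2 (nat_lit 0) = 3 := by decide +kernel
theorem sb2 : H16.allL (ltAll (nat_lit 3)) c2.Sl = true ∧ fixLetters P (nat_lit 3) (Pt2 (nat_lit 0)) = true := by decide +kernel
theorem tc3e_a : allZ2 (entryChk T3 (selR RL3 I3) D3 (nat_lit 7) (nat_lit 8) (nat_lit 3)) (nat_lit 3) (nat_lit 8) = true := by decide +kernel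
theorem tc3r : rulesChk Rl c3.Sl RL3 (nat_lit 3) = true := by decide +kernel
theorem lv3e_0 : allZ (l3.ent P) (nat_lit 0) (nat_lit 7) = true := by decide +kernel
theorem lv3b : Nat.blt (Pt3 (nat_lit 0)) (nat_lit 24) = true ∧ Q3 (Pt3 (nat_lit 0)) = 0 ∧ Pt3 (nat_lit 0) = 9 := by decide +kernel
theorem sb3 : H16.allL (ltAll (nat_lit 0)) c3.Sl = true ∧ fixLetters P (nat_lit 0) (Pt3 (nat_lit 0)) = true := by decide +kernel
theorem Blt : ltAll (nat_lit 24) B = 0 := by decide +kernel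

theorem tc0e : ∀ k < 6, ∀ i < 16, (entryChk T0 (selR RL0 I0) D0 (nat_lit 15) (nat_lit 16) (nat_lit 6)) k i = 0 := allZ2_sound tc0e_a
theorem tc0 : c0.OK Rl 6 := ⟨by decide, by decide, by decide, ivc, tc0r, tc0e⟩
theorem lv0e : ∀ i < 15, (l0.ent P) i = 0 := allZ_sound0 lv0e_0
theorem lv0 : l0.OK P 24 := ⟨by decide, by decide, lt_of_blt lv0b.1, lv0b.2.1, lv0e⟩
theorem tc1e : ∀ k < 5, ∀ i < 14, (entryChk T1 (selR RL1 I1) D1 (nat_lit 15) (nat_lit 14) (nat_lit 5)) k i = 0 := allZ2_sound tc1e_a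
theorem tc1 : c1.OK Rl 6 := ⟨by decide, by decide, by decide, ivc, tc1r, tc1e⟩
theorem lv1e : ∀ i < 13, (l1.ent P) i = 0 := allZ_sound0 lv1e_0
theorem lv1 : l1.OK P 24 := ⟨by decide, by decide, lt_of_blt lv1b.1, lv1b.2.1, lv1e⟩
theorem tc2e : ∀ k < 4, ∀ i < 12, (entryChk T2 (selR RL2 I2) D2 (nat_lit 15) (nat_lit 12) (nat_lit 4)) k i = 0 := allZ2_sound tc2e_a
theorem tc2 : c2.OK Rl 6 := ⟨by decide, by decide, by decide, ivc, tc2r, tc2e⟩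
theorem lv2e : ∀ i < 11, (l2.ent P) i = 0 := allZ_sound0 lv2e_0
theorem lv2 : l2.OK P 24 := ⟨by decide, by decide, lt_of_blt lv2b.1, lv2b.2.1, lv2e⟩
theorem tc3e : ∀ k < 3, ∀ i < 8, (entryChk T3 (selR RL3 I3) D3 (nat_lit 7) (nat_lit 8) (nat_lit 3)) k i = 0 := allZ2_sound tc3e_a
theorem tc3 : c3.OK Rl 6 := ⟨by decide, by decide, by decide, ivc, tc3r, tc3e⟩
theorem lv3e : ∀ i < 7, (l3.ent P) i = 0 := allZ_sound0 lv3e_0
theorem lv3 : l3.OK P 24 := ⟨by decide, by decide, lt_of_blt lv3b.1, lv3b.2.1, lv3e⟩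
theorem bound3 : Bound Rl 3 8 := Bound.step' (Bound.zero Rl) tc3 sb3.1 (by decide +kernel)
theorem bound2 : Bound Rl 4 96 := Bound.step' (bound3) tc2 sb2.1 (by decide +kernel)
theorem bound1 : Bound Rl 5 1344 := Bound.step' (bound2) tc1 sb1.1 (by decide +kernel)
theorem bound0 : Bound Rl 6 21504 := Bound.step' (bound1) tc0 sb0.1 (by decide +kernel)
/-- every tuple satisfying `Rl` generates a group of order at most `21504` -/
theorem bound : Bound Rl 6 21504 := bound0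
theorem chain_of {G Ω : Type*} [Group G] [MulAction G Ω] {g : ℕ → G} {pt : ℕ → Ω}
    (h : Act g pt P 24 6) (hR : Rels g Rl) : IsChain g pt 24 L :=
  IsChain.cons (L := [l1, l2, l3]) (IsChain.cons (L := [l2, l3]) (IsChain.cons (L := [l3]) (IsChain.cons (L := []) (trivial) h hR tc3 lv3 rfl rfl rfl (by decide) sb3.1 sb3.2) h hR tc2 lv2 rfl rfl rfl (by decide) sb2.1 sb2.2) h hR tc1 lv1 rfl rfl rfl (by decide) sb1.1 sb1.2) h hR tc0 lv0 rfl rfl rfl (by decide) sb0.1 sb0.2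
theorem base_eq : chainBase L = B := by decide +kernel

end H15.XM24C
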