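import Cfsg.Agent.H16.Slp
import Cfsg.Agent.H15.MM

/-! Generated by tools/h15/cs.py. -/

set_option maxRecDepth 100000
set_option maxHeartbeats 0
set_option linter.unusedVariables false

namespace H15.XW6m

open H16

noncomputable def Rl : List (List ℕ) := [[nat_lit 0, nat_lit 0],
  [nat_lit 1, nat_lit 1],
  [nat_lit 2, nat_lit 2],
  [nat_lit 3, nat_lit 3],
  [nat_lit 4, nat_lit 4],
  [nat_lit 0, nat_lit 1, nat_lit 0, nat_lit 1],
  [nat_lit 1, nat_lit 2, nat_lit 1, nat_lit 2, nat_lit 1, nat_lit 2],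
  [nat_lit 0, nat_lit 1, nat_lit 2, nat_lit 0, nat_lit 2, nat_lit 0, nat_lit 1, nat_lit 2, nat_lit 0, nat_lit 2],
  [nat_lit 1, nat_lit 3, nat_lit 1, nat_lit 3, nat_lit 1, nat_lit 3],
  [nat_lit 0, nat_lit 2, nat_lit 3, nat_lit 2, nat_lit 0, nat_lit 2, nat_lit 3, nat_lit 2, nat_lit 3],
  [nat_lit 0, nat_lit 2, nat_lit 0, nat_lit 4, nat_lit 2, nat_lit 0, nat_lit 4, nat_lit 2, nat_lit 4],
  [nat_lit 1, nat_lit 3, nat_lit 1, nat_lit 4, nat_lit 1, nat_lit 3, nat_lit 4, nat_lit 1, nat_lit 4],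
  [nat_lit 1, nat_lit 2, nat_lit 1, nat_lit 4, nat_lit 1, nat_lit 4, nat_lit 2, nat_lit 1, nat_lit 4, nat_lit 2, nat_lit 4],
  [nat_lit 0, nat_lit 2, nat_lit 4, nat_lit 2, nat_lit 0, nat_lit 3, nat_lit 2, nat_lit 4, nat_lit 2, nat_lit 3, nat_lit 4]]
noncomputable def Pd : List ℕ := [nat_lit 0xa03f561ad4f8776223cd898dbc4e9106a53f6b13e4d1f84a889ddc3276725fc0a9e52b0794ec1b2e07b543b16ef95ac0,
  nat_lit 0xa2eaacaeda6f9e19639229a0e3eebcefde7fdf1d73d32db061e69c6dd65f5d155351259020e28c2cd24f1c1143102180,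
  nat_lit 0x61e69c6dd65f5d1553512590a2eaacaeda6f9e19639229a0e3eebcefde7fdf1d73d32db020e28c2cd24f1c1143102180,
  nat_lit 0x83ef63ee59b854b2163904cd48c3d125750a9f9ea4f2287f7c109c11a647ab4de9c6fb32b73c2eda8af560615b0dd780,
  nat_lit 0xc7ef7218928510b207cfcff049d79196aa669e8ae441f7138adba155a6565d86d482fb2304e342db9eb5d3be370cc3c0]
noncomputable def P (k u : ℕ) : ℕ := Nat.land (Nat.shiftRight (nth (nat_lit 0) Pd k) (Nat.mul u (nat_lit 6))) (nat_lit 63)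
noncomputable def T0d : List ℕ := [nat_lit 0xe32222611a02d96961d529c25b25a31f3514906de19d70d58c2923984d76ca5097545535c768f54ea0460ba03645a48a46902941a40,
  nat_lit 0x1234614a23a0a18a1449525ca1211aa11a5fa0ea0d4dda5e513a5ba59a0978aa57a5690c5467cfa50804a0358b945848a47a01a42a40,
  nat_lit 0x123a1fa1d1e0a6221ea61314716a1115955505375b5982dc017a0aa5a0c978d58e7cf5cca05a520908878c8906a4ba02a01a44a43a40,
  nat_lit 0xa22a63161a1b6192d631429ca6031a65f6cf79029e44d35da0b3d25ca7d7718a08415a07a53591a04a4ea4c8c6a02a49943a45901a40,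
  nat_lit 0xe312222121b69f3d6a13a121e021a559a0e75739ea0ca0ba5da5ca09550a08a58a07a55a54a04a51a4fa4d9c39c2a4a986985a00a41]
noncomputable def T0 (k u : ℕ) : ℕ := Nat.land (Nat.shiftRight (nth (nat_lit 0) T0d k) (Nat.mul u (nat_lit 12))) (nat_lit 4095)
noncomputable def I0d : List ℕ := [nat_lit 0x313300451210010027214050002070566148,
  nat_lit 0x2032000703010091211001120a1005861014,
  nat_lit 0x2002131400708340001902a201006b100115,
  nat_lit 0x15002031540004703224000100113018126,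
  nat_lit 0x253224000320200011040101101113610001]
noncomputable def I0 (k u : ℕ) : ℕ := Nat.land (Nat.shiftRight (nth (nat_lit 0) I0d k) (Nat.mul u (nat_lit 4))) (nat_lit 15)
noncomputable def D0d : ℕ := nat_lit 0xad9d938a7965635e5b57564a4742403b3a34312e2c2b27261b181714100f0d0c07060400
noncomputable def D0 (u : ℕ) : ℕ := Nat.land (Nat.shiftRight D0d (Nat.mul u (nat_lit 8))) (nat_lit 255)
noncomputable def RL0 : List (List Rule) := [[.rel (nat_lit 0) (nat_lit 0) [nat_lit 0], .rel (nat_lit 10) (nat_lit 2) [nat_lit 1, nat_lit 0, nat_lit 1], .rel (nat_lit 18) (nat_lit 0) [nat_lit 2, nat_lit 3, nat_lit 2, nat_lit 0, nat_lit 2, nat_lit 3, nat_lit 2, nat_lit 3], .rel (nat_lit 18) (nat_lit 4) [nat_lit 2, nat_lit 3, nat_lit 2, nat_lit 3, nat_lit 0, nat_lit 2, nat_lit 3, nat_lit 2], .rel (nat_lit 20) (nat_lit 2) [nat_lit 4, nat_lit 2, nat_lit 0, nat_lit 4, nat_lit 2, nat_lit 4, nat_lit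 0, nat_lit 2], .rel (nat_lit 20) (nat_lit 5) [nat_lit 4, nat_lit 2, nat_lit 4, nat_lit 0, nat_lit 2, nat_lit 0, nat_lit 4, nat_lit 2], .defn, .rel (nat_lit 20) (nat_lit 0) [nat_lit 2, nat_lit 0, nat_lit 4, nat_lit 2, nat_lit 0, nat_lit 4, nat_lit 2, nat_lit 4], .sub (nat_lit 0) [] []],
  [.rel (nat_lit 2) (nat_lit 0) [nat_lit 1], .defn, .rel (nat_lit 16) (nat_lit 4) [nat_lit 3, nat_lit 1, nat_lit 3, nat_lit 1, nat_lit 3], .rel (nat_lit 12) (nat_lit 4) [nat_lit 2, nat_lit 1, nat_lit 2, nat_lit 1, nat_lit 2], .sub (nat_lit 2) [] [], .rel (nat_lit 10) (nat_lit 3) [nat_lit 0, nat_lit 1, nat_lit 0], .rel (nat_lit 12) (nat_lit 0) [nat_lit 2, nat_lit 1, nat_lit 2, nat_lit 1, nat_lit 2], .rel (nat_lit 14) (nat_lit 1) [nat_lit 2, nat_lit 0, nat_lit 2, nat_lit 0, nat_lit 1, nat_lit 2, nat_lit 0, nat_lit 2, nat_lit 0], .rel (nat_lit 22) (nat_lit 0) [nat_lit 3, nat_lit 1, nat_lit 4, nat_lit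 1, nat_lit 3, nat_lit 4, nat_lit 1, nat_lit 4], .rel (nat_lit 22) (nat_lit 7) [nat_lit 4, nat_lit 1, nat_lit 3, nat_lit 1, nat_lit 4, nat_lit 1, nat_lit 3, nat_lit 4], .rel (nat_lit 24) (nat_lit 4) [nat_lit 4, nat_lit 2, nat_lit 1, nat_lit 4, nat_lit 2, nat_lit 4, nat_lit 1, nat_lit 2, nat_lit 1, nat_lit 4]],
  [.rel (nat_lit 4) (nat_lit 0) [nat_lit 2], .defn, .rel (nat_lit 18) (nat_lit 7) [nat_lit 3, nat_lit 0, nat_lit 2, nat_lit 3, nat_lit 2, nat_lit 0, nat_lit 2, nat_lit 3], .rel (nat_lit 12) (nat_lit 3) [nat_lit 1, nat_lit 2, nat_lit 1, nat_lit 2, nat_lit 1], .rel (nat_lit 26) (nat_lit 8) [nat_lit 3, nat_lit 4, nat_lit 0, nat_lit 2, nat_lit 4, nat_lit 2, nat_lit 0, nat_lit 3, nat_lit 2, nat_lit 4], .sub (nat_lit 4) [] [], .rel (nat_lit 14) (nat_lit 7) [nat_lit 0, nat_lit 2, nat_lit 0, nat_lit 1, nat_lit 2, nat_lit 0, nat_lit 2, nat_lit 0, nat_lit 1], .rel (nat_lit 14) (nat_lit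 9) [nat_lit 0, nat_lit 1, nat_lit 2, nat_lit 0, nat_lit 2, nat_lit 0, nat_lit 1, nat_lit 2, nat_lit 0], .rel (nat_lit 20) (nat_lit 1) [nat_lit 0, nat_lit 4, nat_lit 2, nat_lit 0, nat_lit 4, nat_lit 2, nat_lit 4, nat_lit 0], .rel (nat_lit 24) (nat_lit 1) [nat_lit 1, nat_lit 4, nat_lit 1, nat_lit 4, nat_lit 2, nat_lit 1, nat_lit 4, nat_lit 2, nat_lit 4, nat_lit 1], .rel (nat_lit 24) (nat_lit 9) [nat_lit 4, nat_lit 1, nat_lit 2, nat_lit 1, nat_lit 4, nat_lit 1, nat_lit 4, nat_lit 2, nat_lit 1, nat_lit 4], .rel (nat_lit 26) (nat_lit 3) [nat_lit 0, nat_lit 3, nat_lit 2, nat_lit 4, nat_lit 2, nat_lit 3, nat_lit 4, nat_lit 0, nat_lit 2, nat_lit 4]],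
  [.rel (nat_lit 6) (nat_lit 0) [nat_lit 3], .defn, .rel (nat_lit 16) (nat_lit 3) [nat_lit 1, nat_lit 3, nat_lit 1, nat_lit 3, nat_lit 1], .rel (nat_lit 18) (nat_lit 2) [nat_lit 2, nat_lit 0, nat_lit 2, nat_lit 3, nat_lit 2, nat_lit 3, nat_lit 0, nat_lit 2], .rel (nat_lit 22) (nat_lit 5) [nat_lit 4, nat_lit 1, nat_lit 4, nat_lit 1, nat_lit 3, nat_lit 1, nat_lit 4, nat_lit 1], .rel (nat_lit 18) (nat_lit 6) [nat_lit 2, nat_lit 3, nat_lit 0, nat_lit 2, nat_lit 3, nat_lit 2, nat_lit 0, nat_lit 2], .sub (nat_lit 6) [] [], .rel (nat_lit 22) (nat_lit 1) [nat_lit 1, nat_lit 4, nat_lit 1, nat_lit 3, nat_lit 4, nat_lit 1, nat_lit 4, nat_lit 1], .rel (nat_lit 26) (nat_lit 9) [nat_lit 4, nat_lit 0, nat_lit 2, nat_lit 4, nat_lit 2, nat_lit 0, nat_lit 3, nat_lit 2, nat_lit 4, nat_lit 2]],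
  [.rel (nat_lit 8) (nat_lit 0) [nat_lit 4], .defn, .rel (nat_lit 22) (nat_lit 3) [nat_lit 1, nat_lit 3, nat_lit 4, nat_lit 1, nat_lit 4, nat_lit 1, nat_lit 3, nat_lit 1], .rel (nat_lit 20) (nat_lit 6) [nat_lit 2, nat_lit 4, nat_lit 0, nat_lit 2, nat_lit 0, nat_lit 4, nat_lit 2, nat_lit 0], .rel (nat_lit 22) (nat_lit 8) [nat_lit 1, nat_lit 3, nat_lit 1, nat_lit 4, nat_lit 1, nat_lit 3, nat_lit 4, nat_lit 1], .rel (nat_lit 20) (nat_lit 3) [nat_lit 2, nat_lit 0, nat_lit 4, nat_lit 2, nat_lit 4, nat_lit 0, nat_lit 2, nat_lit 0], .rel (nat_lit 22) (nat_lit 6) [nat_lit 1, nat_lit 4, nat_lit 1, nat_lit 3, nat_lit 1, nat_lit 4, nat_lit 1, nat_lit 3]]]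
noncomputable def c0 : TCert := ⟨36, 5, 63, T0, I0, D0, [[nat_lit 0],
  [nat_lit 1],
  [nat_lit 2],
  [nat_lit 3]], RL0⟩
noncomputable def Pt0d : ℕ := nat_lit 0x3b390b52c8dcd99a53c11d3c421e4dc60587ca62bf6224a87efe05
noncomputable def Pt0 (u : ℕ) : ℕ := Nat.land (Nat.shiftRight Pt0d (Nat.mul u (nat_lit 6))) (nat_lit 63)
noncomputable def Q0d : ℕ := nat_lit 0x20001400044101b01588b3d708001e00064400a02174648e0c001c00068700d01f605593023400809000300000000000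
noncomputable def Q0 (u : ℕ) : ℕ := Nat.land (Nat.shiftRight Q0d (Nat.mul u (nat_lit 6))) (nat_lit 63)
noncomputable def l0 : H16.Lev := ⟨36, 5, D0, Pt0, Q0⟩
noncomputable def T1d : List ℕ := [nat_lit 0x4c921c4ac3a84e634d03a0cf8990b9120990e67995a270660,
  nat_lit 0x24cf144a4b729ce0b6489c1ef9166c492439a54799a4198a60,
  nat_lit 0xce5093e729c6499204c4a94b9ba6d59987796429066498e60,
  nat_lit 0x94a732c4ec9250e5b51091e469be449ae6a80e688962290261]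
noncomputable def T1 (k u : ℕ) : ℕ := Nat.land (Nat.shiftRight (nth (nat_lit 0) T1d k) (Nat.mul u (nat_lit 10))) (nat_lit 1023)
noncomputable def I1d : List ℕ := [nat_lit 0x7c849903200485d,
  nat_lit 0x6100902c100d20c,
  nat_lit 0x40120408917004b,
  nat_lit 0x70153008241501]
noncomputable def I1 (k u : ℕ) : ℕ := Nat.land (Nat.shiftRight (nth (nat_lit 0) I1d k) (Nat.mul u (nat_lit 3))) (nat_lit 7)
noncomputable def D1d : ℕ := nat_lit 0x9709f2d4e991213e6ca93203460a0c14180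
noncomputable def D1 (u : ℕ) : ℕ := Nat.land (Nat.shiftRight D1d (Nat.mul u (nat_lit 7))) (nat_lit 127)
noncomputable def RL1 : List (List Rule) := [[.rel (nat_lit 0) (nat_lit 0) [nat_lit 0], .rel (nat_lit 10) (nat_lit 2) [nat_lit 1, nat_lit 0, nat_lit 1], .rel (nat_lit 18) (nat_lit 0) [nat_lit 2, nat_lit 3, nat_lit 2, nat_lit 0, nat_lit 2, nat_lit 3, nat_lit 2, nat_lit 3], .rel (nat_lit 18) (nat_lit 4) [nat_lit 2, nat_lit 3, nat_lit 2, nat_lit 3, nat_lit 0, nat_lit 2, nat_lit 3, nat_lit 2], .defn, .sub (nat_lit 0) [] [], .rel (nat_lit 10) (nat_lit 0) [nat_lit 1, nat_lit 0, nat_lit 1], .rel (nat_lit 14) (nat_lit 8) [nat_lit 2, nat_lit 0, nat_lit 1, nat_lit 2, nat_lit 0, nat_lit 2, nat_lit 0, nat_lit 1, nat_lit 2]],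
  [.rel (nat_lit 2) (nat_lit 0) [nat_lit 1], .defn, .rel (nat_lit 12) (nat_lit 4) [nat_lit 2, nat_lit 1, nat_lit 2, nat_lit 1, nat_lit 2], .rel (nat_lit 16) (nat_lit 4) [nat_lit 3, nat_lit 1, nat_lit 3, nat_lit 1, nat_lit 3], .sub (nat_lit 2) [] [], .rel (nat_lit 12) (nat_lit 0) [nat_lit 2, nat_lit 1, nat_lit 2, nat_lit 1, nat_lit 2]],
  [.rel (nat_lit 4) (nat_lit 0) [nat_lit 2], .defn, .rel (nat_lit 18) (nat_lit 7) [nat_lit 3, nat_lit 0, nat_lit 2, nat_lit 3, nat_lit 2, nat_lit 0, nat_lit 2, nat_lit 3], .sub (nat_lit 4) [] [], .rel (nat_lit 14) (nat_lit 4) [nat_lit 0, nat_lit 1, nat_lit 2, nat_lit 0, nat_lit 2, nat_lit 0, nat_lit 1, nat_lit 2, nat_lit 0], .rel (nat_lit 14) (nat_lit 7) [nat_lit 0, nat_lit 2, nat_lit 0, nat_lit 1, nat_lit 2, nat_lit 0, nat_lit 2, nat_lit 0, nat_lit 1], .rel (nat_lit 18) (nat_lit 5) [nat_lit 3, nat_lit 2, nat_lit 3, nat_lit 0, nat_lit 2, nat_lit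 3, nat_lit 2, nat_lit 0]],
  [.rel (nat_lit 6) (nat_lit 0) [nat_lit 3], .defn, .rel (nat_lit 18) (nat_lit 8) [nat_lit 0, nat_lit 2, nat_lit 3, nat_lit 2, nat_lit 0, nat_lit 2, nat_lit 3, nat_lit 2], .rel (nat_lit 16) (nat_lit 3) [nat_lit 1, nat_lit 3, nat_lit 1, nat_lit 3, nat_lit 1], .rel (nat_lit 16) (nat_lit 5) [nat_lit 1, nat_lit 3, nat_lit 1, nat_lit 3, nat_lit 1], .rel (nat_lit 18) (nat_lit 2) [nat_lit 2, nat_lit 0, nat_lit 2, nat_lit 3, nat_lit 2, nat_lit 3, nat_lit 0, nat_lit 2], .rel (nat_lit 18) (nat_lit 6) [nat_lit 2, nat_lit 3, nat_lit 0, nat_lit 2, nat_lit 3, nat_lit 2, nat_lit 0, nat_lit 2]]]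
noncomputable def c1 : TCert := ⟨20, 4, 31, T1, I1, D1, [[nat_lit 0],
  [nat_lit 1],
  [nat_lit 2]], RL1⟩
noncomputable def Pt1d : ℕ := nat_lit 0x3b39148dc6694f4f39c56b26461d8b
noncomputable def Pt1 (u : ℕ) : ℕ := Nat.land (Nat.shiftRight Pt1d (Nat.mul u (nat_lit 6))) (nat_lit 63)
noncomputable def Q1d : ℕ := nat_lit 0x9001000040a900e0000050018001011780400000e001a0018105806004c00000000000000000
noncomputable def Q1 (u : ℕ) : ℕ := Nat.land (Nat.shiftRight Q1d (Nat.mul u (nat_lit 5))) (nat_lit 31)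
noncomputable def l1 : H16.Lev := ⟨20, 4, D1, Pt1, Q1⟩
noncomputable def T2d : List ℕ := [nat_lit 0x487556876354718280,
  nat_lit 0x761588077271848380,
  nat_lit 0x273874728663857081]
noncomputable def T2 (k u : ℕ) : ℕ := Nat.land (Nat.shiftRight (nth (nat_lit 0) T2d k) (Nat.mul u (nat_lit 8))) (nat_lit 255)
noncomputable def I2d : List ℕ := [nat_lit 0x414b00a,
  nat_lit 0x64004a,
  nat_lit 0x601441]
noncomputable def I2 (k u : ℕ) : ℕ := Nat.land (Nat.shiftRight (nth (nat_lit 0) I2d k) (Nat.mul u (nat_lit 3))) (nat_lit 7)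
noncomputable def D2d : ℕ := nat_lit 0x137b90720c40
noncomputable def D2 (u : ℕ) : ℕ := Nat.land (Nat.shiftRight D2d (Nat.mul u (nat_lit 5))) (nat_lit 31)
noncomputable def RL2 : List (List Rule) := [[.rel (nat_lit 0) (nat_lit 0) [nat_lit 0], .defn, .sub (nat_lit 0) [] [], .rel (nat_lit 10) (nat_lit 0) [nat_lit 1, nat_lit 0, nat_lit 1], .rel (nat_lit 10) (nat_lit 2) [nat_lit 1, nat_lit 0, nat_lit 1], .rel (nat_lit 14) (nat_lit 8) [nat_lit 2, nat_lit 0, nat_lit 1, nat_lit 2, nat_lit 0, nat_lit 2, nat_lit 0, nat_lit 1, nat_lit 2]],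
  [.rel (nat_lit 2) (nat_lit 0) [nat_lit 1], .defn, .sub (nat_lit 2) [] [], .rel (nat_lit 12) (nat_lit 2) [nat_lit 2, nat_lit 1, nat_lit 2, nat_lit 1, nat_lit 2]],
  [.rel (nat_lit 4) (nat_lit 0) [nat_lit 2], .defn, .rel (nat_lit 12) (nat_lit 5) [nat_lit 1, nat_lit 2, nat_lit 1, nat_lit 2, nat_lit 1], .rel (nat_lit 14) (nat_lit 9) [nat_lit 0, nat_lit 1, nat_lit 2, nat_lit 0, nat_lit 2, nat_lit 0, nat_lit 1, nat_lit 2, nat_lit 0]]]
noncomputable def c2 : TCert := ⟨9, 3, 15, T2, I2, D2, [[nat_lit 0],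
  [nat_lit 1]], RL2⟩
noncomputable def Pt2d : ℕ := nat_lit 0x2ab7de9a9dddd7
noncomputable def Pt2 (u : ℕ) : ℕ := Nat.land (Nat.shiftRight Pt2d (Nat.mul u (nat_lit 6))) (nat_lit 63)
noncomputable def Q2d : ℕ := nat_lit 0x60050010000000007008003000000000200400000000000000000000000000
noncomputable def Q2 (u : ℕ) : ℕ := Nat.land (Nat.shiftRight Q2d (Nat.mul u (nat_lit 4))) (nat_lit 15)
noncomputable def l2 : H16.Lev := ⟨9, 3, D2, Pt2, Q2⟩
noncomputable def T3d : List ℕ := [nat_lit 0x638d,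
  nat_lit 0x98fe]
noncomputable def T3 (k u : ℕ) : ℕ := Nat.land (Nat.shiftRight (nth (nat_lit 0) T3d k) (Nat.mul u (nat_lit 4))) (nat_lit 15)
noncomputable def I3d : List ℕ := [nat_lit 0x81,
  nat_lit 5]
noncomputable def I3 (k u : ℕ) : ℕ := Nat.land (Nat.shiftRight (nth (nat_lit 0) I3d k) (Nat.mul u (nat_lit 2))) (nat_lit 3)
noncomputable def D3d : ℕ := nat_lit 0xd0
noncomputable def D3 (u : ℕ) : ℕ := Nat.land (Nat.shiftRight D3d (Nat.mul u (nat_lit 2))) (nat_lit 3)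
noncomputable def RL3 : List (List Rule) := [[.rel (nat_lit 0) (nat_lit 0) [nat_lit 0], .defn, .rel (nat_lit 10) (nat_lit 0) [nat_lit 1, nat_lit 0, nat_lit 1]],
  [.rel (nat_lit 2) (nat_lit 0) [nat_lit 1], .defn]]
noncomputable def c3 : TCert := ⟨4, 2, 3, T3, I3, D3, [], RL3⟩
noncomputable def Pt3d : ℕ := nat_lit 0xec6ac1
noncomputable def Pt3 (u : ℕ) : ℕ := Nat.land (Nat.shiftRight Pt3d (Nat.mul u (nat_lit 6))) (nat_lit 63)
noncomputable def Q3d : ℕ := nat_lit 0xc00000004000000000000000002000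
noncomputable def Q3 (u : ℕ) : ℕ := Nat.land (Nat.shiftRight Q3d (Nat.mul u (nat_lit 2))) (nat_lit 3)
noncomputable def l3 : H16.Lev := ⟨4, 2, D3, Pt3, Q3⟩
noncomputable def B : List ℕ := [nat_lit 5, nat_lit 11, nat_lit 23, nat_lit 1]
noncomputable def L : List H16.Lev := [l0, l1, l2, l3]

theorem tc0e_a : allZ2 (entryChk T0 (selR RL0 I0) D0 (nat_lit 63) (nat_lit 36) (nat_lit 5)) (nat_lit 5) (nat_lit 36) = true := by decide +kernel
theorem tc0r : rulesChk Rl c0.Sl RL0 (nat_lit 5) = true := by decide +kernel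
theorem ivc : ivChk Rl (nat_lit 5) = true := by decide +kernel
theorem lv0e_0 : allZ (l0.ent P) (nat_lit 0) (nat_lit 35) = true := by decide +kernel
theorem lv0b : Nat.blt (Pt0 (nat_lit 0)) (nat_lit 64) = true ∧ Q0 (Pt0 (nat_lit 0)) = 0 ∧ Pt0 (nat_lit 0) = 5 := by decide +kernel
theorem sb0 : H16.allL (ltAll (nat_lit 4)) c0.Sl = true ∧ fixLetters P (nat_lit 4) (Pt0 (nat_lit 0)) = true := by decide +kernel
theorem tc1e_a : allZ2 (entryChk T1 (selR RL1 I1) D1 (nat_lit 31) (nat_lit 20) (nat_lit 4)) (nat_lit 4) (nat_lit 20) = true := by decide +kernel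
theorem tc1r : rulesChk Rl c1.Sl RL1 (nat_lit 4) = true := by decide +kernel
theorem lv1e_0 : allZ (l1.ent P) (nat_lit 0) (nat_lit 19) = true := by decide +kernel
theorem lv1b : Nat.blt (Pt1 (nat_lit 0)) (nat_lit 64) = true ∧ Q1 (Pt1 (nat_lit 0)) = 0 ∧ Pt1 (nat_lit 0) = 11 := by decide +kernel
theorem sb1 : H16.allL (ltAll (nat_lit 3)) c1.Sl = true ∧ fixLetters P (nat_lit 3) (Pt1 (nat_lit 0)) = true := by decide +kernel
theorem tc2e_a : allZ2 (entryChk T2 (selR RL2 I2) D2 (nat_lit 15) (nat_lit 9) (nat_lit 3)) (nat_lit 3) (nat_lit 9) = true := by decide +kernel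
theorem tc2r : rulesChk Rl c2.Sl RL2 (nat_lit 3) = true := by decide +kernel
theorem lv2e_0 : allZ (l2.ent P) (nat_lit 0) (nat_lit 8) = true := by decide +kernel
theorem lv2b : Nat.blt (Pt2 (nat_lit 0)) (nat_lit 64) = true ∧ Q2 (Pt2 (nat_lit 0)) = 0 ∧ Pt2 (nat_lit 0) = 23 := by decide +kernel
theorem sb2 : H16.allL (ltAll (nat_lit 2)) c2.Sl = true ∧ fixLetters P (nat_lit 2) (Pt2 (nat_lit 0)) = true := by decide +kernel
theorem tc3e_a : allZ2 (entryChk T3 (selR RL3 I3) D3 (nat_lit 3) (nat_lit 4) (nat_lit 2)) (nat_lit 2) (nat_lit 4) = true := by decide +kernel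
theorem tc3r : rulesChk Rl c3.Sl RL3 (nat_lit 2) = true := by decide +kernel
theorem lv3e_0 : allZ (l3.ent P) (nat_lit 0) (nat_lit 3) = true := by decide +kernel
theorem lv3b : Nat.blt (Pt3 (nat_lit 0)) (nat_lit 64) = true ∧ Q3 (Pt3 (nat_lit 0)) = 0 ∧ Pt3 (nat_lit 0) = 1 := by decide +kernel
theorem sb3 : H16.allL (ltAll (nat_lit 0)) c3.Sl = true ∧ fixLetters P (nat_lit 0) (Pt3 (nat_lit 0)) = true := by decide +kernel
theorem Blt : ltAll (nat_lit 64) B = 0 := by decide +kernel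

theorem tc0e : ∀ k < 5, ∀ i < 36, (entryChk T0 (selR RL0 I0) D0 (nat_lit 63) (nat_lit 36) (nat_lit 5)) k i = 0 := allZ2_sound tc0e_a
theorem tc0 : c0.OK Rl 5 := ⟨by decide, by decide, by decide, ivc, tc0r, tc0e⟩
theorem lv0e : ∀ i < 35, (l0.ent P) i = 0 := allZ_sound0 lv0e_0
theorem lv0 : l0.OK P 64 := ⟨by decide, by decide, lt_of_blt lv0b.1, lv0b.2.1, lv0e⟩
theorem tc1e : ∀ k < 4, ∀ i < 20, (entryChk T1 (selR RL1 I1) D1 (nat_lit 31) (nat_lit 20) (nat_lit 4)) k i = 0 := allZ2_sound tc1e_a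
theorem tc1 : c1.OK Rl 5 := ⟨by decide, by decide, by decide, ivc, tc1r, tc1e⟩
theorem lv1e : ∀ i < 19, (l1.ent P) i = 0 := allZ_sound0 lv1e_0
theorem lv1 : l1.OK P 64 := ⟨by decide, by decide, lt_of_blt lv1b.1, lv1b.2.1, lv1e⟩
theorem tc2e : ∀ k < 3, ∀ i < 9, (entryChk T2 (selR RL2 I2) D2 (nat_lit 15) (nat_lit 9) (nat_lit 3)) k i = 0 := allZ2_sound tc2e_a
theorem tc2 : c2.OK Rl 5 := ⟨by decide, by decide, by decide, ivc, tc2r, tc2e⟩
theorem lv2e : ∀ i < 8, (l2.ent P) i = 0 := allZ_sound0 lv2e_0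
theorem lv2 : l2.OK P 64 := ⟨by decide, by decide, lt_of_blt lv2b.1, lv2b.2.1, lv2e⟩
theorem tc3e : ∀ k < 2, ∀ i < 4, (entryChk T3 (selR RL3 I3) D3 (nat_lit 3) (nat_lit 4) (nat_lit 2)) k i = 0 := allZ2_sound tc3e_a
theorem tc3 : c3.OK Rl 5 := ⟨by decide, by decide, by decide, ivc, tc3r, tc3e⟩
theorem lv3e : ∀ i < 3, (l3.ent P) i = 0 := allZ_sound0 lv3e_0
theorem lv3 : l3.OK P 64 := ⟨by decide, by decide, lt_of_blt lv3b.1, lv3b.2.1, lv3e⟩
theorem bound3 : Bound Rl 2 4 := Bound.step' (Bound.zero Rl) tc3 sb3.1 (by decide +kernel)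
theorem bound2 : Bound Rl 3 36 := Bound.step' (bound3) tc2 sb2.1 (by decide +kernel)
theorem bound1 : Bound Rl 4 720 := Bound.step' (bound2) tc1 sb1.1 (by decide +kernel)
theorem bound0 : Bound Rl 5 25920 := Bound.step' (bound1) tc0 sb0.1 (by decide +kernel)
/-- every tuple satisfying `Rl` generates a group of order at most `25920` -/
theorem bound : Bound Rl 5 25920 := bound0
theorem chain_of {G Ω : Type*} [Group G] [MulAction G Ω] {g : ℕ → G} {pt : ℕ → Ω}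
    (h : Act g pt P 64 5) (hR : Rels g Rl) : IsChain g pt 64 L :=
  IsChain.cons (L := [l1, l2, l3]) (IsChain.cons (L := [l2, l3]) (IsChain.cons (L := [l3]) (IsChain.cons (L := []) (trivial) h hR tc3 lv3 rfl rfl rfl (by decide) sb3.1 sb3.2) h hR tc2 lv2 rfl rfl rfl (by decide) sb2.1 sb2.2) h hR tc1 lv1 rfl rfl rfl (by decide) sb1.1 sb1.2) h hR tc0 lv0 rfl rfl rfl (by decide) sb0.1 sb0.2
theorem base_eq : chainBase L = B := by decide +kernel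
open Cfsg H0.TR
def ix : (Fin 2 ⊕ Fin 2) ⊕ Fin 2 → ℕ := Sum.elim (Sum.elim (fun i => i) fun i => 2 + i) fun i => 4 + i
def iv : List ℕ := [0, 1, 2, 3, 4]
theorem ok0 : MM.mt 2 ix (P 0) * MM.mt 2 ix (P (nth 0 iv 0)) = 1 ∧
    ∀ i < 64, P 0 i < 64 ∧ (MM.mt 2 ix (P 0)).mulVec (MM.vec 2 ix i) = MM.vec 2 ix (P 0 i) := by
  decide +kernel
theorem ok1 : MM.mt 2 ix (P 1) * MM.mt 2 ix (P (nth 0 iv 1)) = 1 ∧
    ∀ i < 64, P 1 i < 64 ∧ (MM.mt 2 ix (P 1)).mulVec (MM.vec 2 ix i) = MM.vec 2 ix (P 1 i) := by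
  decide +kernel
theorem ok2 : MM.mt 2 ix (P 2) * MM.mt 2 ix (P (nth 0 iv 2)) = 1 ∧
    ∀ i < 64, P 2 i < 64 ∧ (MM.mt 2 ix (P 2)).mulVec (MM.vec 2 ix i) = MM.vec 2 ix (P 2 i) := by
  decide +kernel
theorem ok3 : MM.mt 2 ix (P 3) * MM.mt 2 ix (P (nth 0 iv 3)) = 1 ∧
    ∀ i < 64, P 3 i < 64 ∧ (MM.mt 2 ix (P 3)).mulVec (MM.vec 2 ix i) = MM.vec 2 ix (P 3 i) := by
  decide +kernel
theorem ok4 : MM.mt 2 ix (P 4) * MM.mt 2 ix (P (nth 0 iv 4)) = 1 ∧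
    ∀ i < 64, P 4 i < 64 ∧ (MM.mt 2 ix (P 4)).mulVec (MM.vec 2 ix i) = MM.vec 2 ix (P 4 i) := by
  decide +kernel
theorem ok : MM.OK 2 ix P iv 64 5 :=
  ⟨fun k hk => match k, hk with | 0, _ => ok0 | 1, _ => ok1 | 2, _ => ok2 | 3, _ => ok3 | 4, _ => ok4, by decide +kernel⟩
theorem rf : H16.allL (fixRange P 5 0 64) Rl = true := by decide +kernel
/-- the letters -/
noncomputable def g : ℕ → GL ((Fin 2 ⊕ Fin 2) ⊕ Fin 2) (ZMod 2) := MM.gl 2 ix P iv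
theorem mem : ∀ k < 5, g k ∈ isometryGroup (ZMod 2) (quadFormMinus 2 (ZMod 2) 1 1) := fun k hk =>
  ok.mem_iso (by decide +kernel) hk
theorem cardH : Nat.card (isometryGroup (ZMod 2) (quadFormMinus 2 (ZMod 2) 1 1)) = 2 * 25920 := by
  have := H11.card_O_minus (F := ZMod 2) 2 (a := 1) (b := 1) (by decide)
  generalize Nat.card _ = a at this ⊢
  simpa [Finset.prod_range_succ] using this
theorem cardC : Nat.card (commutator (isometryGroup (ZMod 2) (quadFormMinus 2 (ZMod 2) 1 1))) = 25920 := by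
  have := H11.card_omegaMinus_mul (F := ZMod 2) (m := 2) (by simp) (a := 1) (b := 1) (by decide)
  generalize Nat.card _ = a at this ⊢
  simpa [Finset.prod_range_succ] using this
theorem md : ∃ (_ : MulAction (commutator (isometryGroup (ZMod 2) (quadFormMinus 2 (ZMod 2) 1 1))) ((Fin 2 ⊕ Fin 2) ⊕ Fin 2 → ZMod 2)) (h : ℕ → commutator (isometryGroup (ZMod 2) (quadFormMinus 2 (ZMod 2) 1 1))),
    Md h (MM.vec 2 ix) P 64 5 B 25920 ∧ ∀ k < 5, ((h k : isometryGroup (ZMod 2) (quadFormMinus 2 (ZMod 2) 1 1)) : GL ((Fin 2 ⊕ Fin 2) ⊕ Fin 2) (ZMod 2)) = g k :=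
  MM.md_comm ok.act ok.inj (ok.rels rf) mem (fun _ => chain_of) cardH cardC (by decide +kernel)
theorem pom : Nonempty (POmega (ZMod 2) (quadFormMinus 2 (ZMod 2) 1 1) ≃* Omega (ZMod 2) (quadFormMinus 2 (ZMod 2) 1 1)) :=
  MM.quot_bot ((H11.card_center_omegaMinus (by simp) (by simp) (by decide)).trans (by simp))
theorem simple : IsSimpleGroup (Omega (ZMod 2) (quadFormMinus 2 (ZMod 2) 1 1)) :=
  have := H11.pomegaMinus_simple (F := ZMod 2) (m := 2) le_rfl (a := 1) (b := 1) (by decide)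
  pom.some.symm.isSimpleGroup

end H15.XW6m
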