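import Cfsg.Agent.H16.Slp

/-! Generated by tools/h16 and py/gen_models.py. -/

set_option maxRecDepth 100000
set_option maxHeartbeats 0

namespace H15.J2C

open H16
open scoped Pointwise

noncomputable def Rl : List (List ℕ) := [[nat_lit 0, nat_lit 1],
  [nat_lit 1, nat_lit 0],
  [nat_lit 2, nat_lit 3],
  [nat_lit 3, nat_lit 2],
  [nat_lit 4, nat_lit 4],
  [nat_lit 0, nat_lit 0, nat_lit 0],
  [nat_lit 0, nat_lit 2, nat_lit 2, nat_lit 0, nat_lit 3],
  [nat_lit 0, nat_lit 4, nat_lit 0, nat_lit 4, nat_lit 0, nat_lit 4],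
  [nat_lit 0, nat_lit 3, nat_lit 4, nat_lit 2, nat_lit 2, nat_lit 4, nat_lit 2, nat_lit 0, nat_lit 4]]
noncomputable def Pd : List ℕ := [nat_lit 0x9ee309d1cdd9101b78d8fc42eaa12f4a8b085381855e7ce5468222a3338cd4941282607ec4c57b4d932c44acf2814ba9c7bb72dd0be5ac43225643b7ce9e40284920c5ad59d98d0622a4a9d4b90d2e6139b584820ef4080,
  nat_lit 0x855f0bc4f695aa52dca25701aac85b4a8a8c73838914fa021584e291493c91c767c11d4078662bcd8b472b75d5096b8bb464406b01cd479988cea3f94c7049b3061b9a69911b10691dcb17ed98acbc2c6062e63d9a10080,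
  nat_lit 0x8e562129d2594a0551e19449d4e39948f5d8018be0a6de43440e82111eeca2cbd0aa873918d579e5919fc5400a83638edc61686abad86c436ae1f2a7ec5c905abd28930999cd100db21497e28a5c160d1182ecbd976c980,
  nat_lit 0xa8cd34c1cfe82c04a82a5709deda97484326f7ca530772f49c6e86e148f84cf3e842598518ea294451c82b74f2b342cdc05082ab0ac58c8f6b5c84769456bb5ee6c179adb141038221c86b94870c30c137938545256d880,
  nat_lit 0x82d52bc6171ede52e898f881a5c5280c58c08fc3b1aaf842150b6a572caf19b9d2aee041696240a57127446a65f14763398426dc768470b832ce43b004171780c918e390db53b20931eb0600d0a2bd5499b59bcfa44869f]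
noncomputable def P (k u : ℕ) : ℕ := Nat.land (Nat.shiftRight (nth (nat_lit 0) Pd k) (Nat.mul u (nat_lit 7))) (nat_lit 127)
noncomputable def T0d : List ℕ := [nat_lit 0x1b3d54e552d74c56f4f4925209ca2b0a2ae89192408904a2f44d853060fe2a98d362a488f12ad8a8c0b8349d0c362e629f88d06ba8a705c48d1e34518ca29888b19be68a97a83282294889a33b64d43318a463378ccdd1b06842a28869d9e8a2632b70321198a1e3258a1a21308761958a1620f8635c888a1220b865a31788423128c3a30a8a062038c0a300,
  nat_lit 0x193d4ce8af56cc53349483b288c98abe1c58ab853040d8a47870d1c45efd92a552e1bb8a9063260d40388a810c1628e1b38a7c5ad0a884c0270a34648ea1ab8a619a98cf972832de1a58a5233c8ce421c0474c278cd1d1a0646331727a19b825a32c8a221098442326864a2868c86187863a2858435b97862a2848c65c0c8c563138c3e30b860a2818c0e300,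
  nat_lit 0x73c3c45cf54cd5eecfc58ad22af2ed8532890843041262ac48e58aa8aa434e8aa234c8d2c8488d2a2a1389629f43191ae4aac4c70ae04bf32ce2988d0e3414c8e34062f95247a81db732997bc8cea19104754148cd628e8a361316641a96865e32d8256287804a3277a79f8f8c8a28586299898c7231b8c69b998a0e1938a09e8b8a0630c8c223068c12300,
  nat_lit 0x53c2be51322bc8aee2b93f0c8ba10c90353d2834e8ab61c58ab22aa10c19295b358245d2e2a347042317898b478a7e34930bc5c682704c48d211348a6234248cd8408cfe33d8a50c2536dd4a84aae2918ce1e278cd9e13028628d8a3228b6c2a32e8865a1a805d3a08421f958489a1b7c4a31e8c762847c1a20f643a2838c5a2828c422818c263078c16300,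
  nat_lit 0x8b2a2bd592cec55b3634f1d207c91300e2e3d322ad09047ba0b0c44710c592c8d3a1a586e474284ec1b686d01385e9a137888629e0efe29b8a68dc68d118be5e662978a5a295047583588f22938a4821c86ce28f8a3a332029c2a28cc232f60ae2888caa3298ca22868c923238a157878c8231f8a11a89862a20b6c3231860423148c4630d860a2038a02301]
noncomputable def T0 (k u : ℕ) : ℕ := Nat.land (Nat.shiftRight (nth (nat_lit 0) T0d k) (Nat.mul u (nat_lit 14))) (nat_lit 16383)
noncomputable def I0d : List ℕ := [nat_lit 0x6a1575133017543130201503344019062210146640127b0224415502140201340163013232220128,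
  nat_lit 0x10000100001100010010001000100100000001011110012,
  nat_lit 0x44322200303030220301101050233233401141025030153410020201202132100211130200011116,
  nat_lit 0x2000000000303000020010202100100110000001010000001200000020110220010101114,
  nat_lit 0x6105245006303710400540002000001000002220000001021120111011001100033131110201]
noncomputable def I0 (k u : ℕ) : ℕ := Nat.land (Nat.shiftRight (nth (nat_lit 0) I0d k) (Nat.mul u (nat_lit 4))) (nat_lit 15)
noncomputable def D0d : ℕ := nat_lit 0xbb4d6632e94c7e0eee75b9dcce571b7dbcd46833996b55a2c560a8502793a9c4da691a8b431ecf4793c1dce46d33194c8632f15cac4f2512488431f0e45c2c1409848220f8783a1c0d06430160a8502411068301007030140800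
noncomputable def D0 (u : ℕ) : ℕ := Nat.land (Nat.shiftRight D0d (Nat.mul u (nat_lit 9))) (nat_lit 511)
noncomputable def RL0 : List (List Rule) := [[.rel (nat_lit 0) (nat_lit 0) [nat_lit 1], .rel (nat_lit 10) (nat_lit 2) [nat_lit 0, nat_lit 0], .defn, .rel (nat_lit 12) (nat_lit 0) [nat_lit 2, nat_lit 2, nat_lit 0, nat_lit 3], .rel (nat_lit 10) (nat_lit 1) [nat_lit 0, nat_lit 0], .rel (nat_lit 12) (nat_lit 3) [nat_lit 3, nat_lit 0, nat_lit 2, nat_lit 2], .rel (nat_lit 14) (nat_lit 4) [nat_lit 4, nat_lit 0, nat_lit 4, nat_lit 0, nat_lit 4], .rel (nat_lit 16) (nat_lit 0) [nat_lit 3, nat_lit 4, nat_lit 2, nat_lit 2, nat_lit 4, nat_lit 2, nat_lit 0, nat_lit 4], .sub (nat_lit 0) [] [], .rel (nat_lit 14) (nat_lit 0) [nat_lit 4, nat_lit 0, nat_lit 4, nat_lit 0, nat_lit 4], .rel (nat_lit 14) (nat_lit 2) [nat_lit 4, nat_lit 0, nat_lit 4, nat_lit 0, nat_lit 4], .rel (nat_lit 16) (nat_lit 7) [nat_lit 4, nat_lit 0, nat_lit 3, nat_lit 4,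 nat_lit 2, nat_lit 2, nat_lit 4, nat_lit 2]],
  [.rel (nat_lit 2) (nat_lit 0) [nat_lit 0], .defn, .sub (nat_lit 2) [] []],
  [.rel (nat_lit 4) (nat_lit 0) [nat_lit 3], .defn, .rel (nat_lit 12) (nat_lit 2) [nat_lit 0, nat_lit 3, nat_lit 0, nat_lit 2], .rel (nat_lit 12) (nat_lit 1) [nat_lit 2, nat_lit 0, nat_lit 3, nat_lit 0], .rel (nat_lit 16) (nat_lit 6) [nat_lit 0, nat_lit 4, nat_lit 0, nat_lit 3, nat_lit 4, nat_lit 2, nat_lit 2, nat_lit 4], .rel (nat_lit 16) (nat_lit 4) [nat_lit 4, nat_lit 2, nat_lit 0, nat_lit 4, nat_lit 0, nat_lit 3, nat_lit 4, nat_lit 2], .sub (nat_lit 4) [] []],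
  [.rel (nat_lit 6) (nat_lit 0) [nat_lit 2], .defn, .rel (nat_lit 12) (nat_lit 4) [nat_lit 0, nat_lit 2, nat_lit 2, nat_lit 0], .rel (nat_lit 16) (nat_lit 1) [nat_lit 4, nat_lit 2, nat_lit 2, nat_lit 4, nat_lit 2, nat_lit 0, nat_lit 4, nat_lit 0], .sub (nat_lit 6) [] []],
  [.rel (nat_lit 8) (nat_lit 0) [nat_lit 4], .defn, .rel (nat_lit 14) (nat_lit 5) [nat_lit 0, nat_lit 4, nat_lit 0, nat_lit 4, nat_lit 0], .rel (nat_lit 16) (nat_lit 8) [nat_lit 0, nat_lit 3, nat_lit 4, nat_lit 2, nat_lit 2, nat_lit 4, nat_lit 2, nat_lit 0], .rel (nat_lit 14) (nat_lit 3) [nat_lit 0, nat_lit 4, nat_lit 0, nat_lit 4, nat_lit 0], .rel (nat_lit 16) (nat_lit 5) [nat_lit 2, nat_lit 0, nat_lit 4, nat_lit 0, nat_lit 3, nat_lit 4, nat_lit 2, nat_lit 2], .rel (nat_lit 16) (nat_lit 2) [nat_lit 2, nat_lit 2, nat_lit 4, nat_lit 2, nat_lit 0, nat_lit 4, nat_lit 0, nat_lit 3], .rel (nat_lit 14) (nat_lit 1) [nat_lit 0, nat_lit 4, nat_lit 0, nat_lit 4, nat_lit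 0]]]
noncomputable def c0 : TCert := ⟨80, 5, 127, T0, I0, D0, [[nat_lit 0],
  [nat_lit 1],
  [nat_lit 2],
  [nat_lit 3]], RL0⟩
noncomputable def Pt0d : ℕ := nat_lit 0xa4054d5b60c3cd5abe593794f046a2c46bd045092ea074d0c306c5882e2accc12e8f4560cae8483587287302f869271505b442a2b9f8d3c88eb275e7682e374309a3f94f8f80
noncomputable def Pt0 (u : ℕ) : ℕ := Nat.land (Nat.shiftRight Pt0d (Nat.mul u (nat_lit 7))) (nat_lit 127)
noncomputable def Q0d : ℕ := nat_lit 0x24000413a31289965d680008a615853dfb7263642c8a0cd901f01400001919e0809e4316a8f8010000050099f278ce238e28666a02200000000038a02a5b1a64d40335e0003a88e40160085eb462b95b09270c2494ee700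
noncomputable def Q0 (u : ℕ) : ℕ := Nat.land (Nat.shiftRight Q0d (Nat.mul u (nat_lit 7))) (nat_lit 127)
noncomputable def l0 : H16.Lev := ⟨80, 5, D0, Pt0, Q0⟩
noncomputable def T1d : List ℕ := [nat_lit 0x45a554de6832e1499a65942319924d39e6392a32a4e4ea3e8ca266090a81,
  nat_lit 0x454f78d9f299e0883a2f996268b2642ce2998e9432e91a428da2a2198282,
  nat_lit 0x9b02e1ca337c66673d776b6648a428a5a952d2628c2615aa60a2e87a1683,
  nat_lit 0x5426b9a8899505574e076c45663e9798d859340c98a929868e98288a1a84]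
noncomputable def T1 (k u : ℕ) : ℕ := Nat.land (Nat.shiftRight (nth (nat_lit 0) T1d k) (Nat.mul u (nat_lit 10))) (nat_lit 1023)
noncomputable def I1d : List ℕ := [nat_lit 0x7684c04c2814309211,
  nat_lit 0x1049201,
  nat_lit 0x10413402258400249,
  nat_lit 0x400081090041049]
noncomputable def I1 (k u : ℕ) : ℕ := Nat.land (Nat.shiftRight (nth (nat_lit 0) I1d k) (Nat.mul u (nat_lit 3))) (nat_lit 7)
noncomputable def D1d : ℕ := nat_lit 0xceeaa171b65551345038d30b287183081000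
noncomputable def D1 (u : ℕ) : ℕ := Nat.land (Nat.shiftRight D1d (Nat.mul u (nat_lit 6))) (nat_lit 63)
noncomputable def RL1 : List (List Rule) := [[.rel (nat_lit 0) (nat_lit 0) [nat_lit 1], .defn, .rel (nat_lit 10) (nat_lit 2) [nat_lit 0, nat_lit 0], .rel (nat_lit 10) (nat_lit 1) [nat_lit 0, nat_lit 0], .rel (nat_lit 12) (nat_lit 0) [nat_lit 2, nat_lit 2, nat_lit 0, nat_lit 3], .rel (nat_lit 12) (nat_lit 3) [nat_lit 3, nat_lit 0, nat_lit 2, nat_lit 2]],
  [.rel (nat_lit 2) (nat_lit 0) [nat_lit 0], .defn],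
  [.rel (nat_lit 4) (nat_lit 0) [nat_lit 3], .defn, .rel (nat_lit 12) (nat_lit 2) [nat_lit 0, nat_lit 3, nat_lit 0, nat_lit 2], .rel (nat_lit 12) (nat_lit 1) [nat_lit 2, nat_lit 0, nat_lit 3, nat_lit 0]],
  [.rel (nat_lit 6) (nat_lit 0) [nat_lit 2], .defn, .rel (nat_lit 12) (nat_lit 4) [nat_lit 0, nat_lit 2, nat_lit 2, nat_lit 0]]]
noncomputable def c1 : TCert := ⟨24, 4, 31, T1, I1, D1, [], RL1⟩
noncomputable def Pt1d : ℕ := nat_lit 0x9f0b1b43f1dfb7bcee4c07d5242c9482d1c4371510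
noncomputable def Pt1 (u : ℕ) : ℕ := Nat.land (Nat.shiftRight Pt1d (Nat.mul u (nat_lit 7))) (nat_lit 127)
noncomputable def Q1d : ℕ := nat_lit 0xa800003c02014000000a00000b800001da9900000580c8ac00700008001400000000080040000000000669800400000000000000000000000000000000000
noncomputable def Q1 (u : ℕ) : ℕ := Nat.land (Nat.shiftRight Q1d (Nat.mul u (nat_lit 5))) (nat_lit 31)
noncomputable def l1 : H16.Lev := ⟨24, 4, D1, Pt1, Q1⟩
noncomputable def B : List ℕ := [nat_lit 0, nat_lit 16]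
noncomputable def L : List H16.Lev := [l0, l1]

theorem tc0e_a : allZ2 (entryChk T0 (selR RL0 I0) D0 (nat_lit 127) (nat_lit 80) (nat_lit 5)) (nat_lit 5) (nat_lit 80) = true := by decide +kernel
theorem tc0r : rulesChk Rl c0.Sl RL0 (nat_lit 5) = true := by decide +kernel
theorem ivc : ivChk Rl (nat_lit 5) = true := by decide +kernel
theorem lv0e_0 : allZ (l0.ent P) (nat_lit 0) (nat_lit 79) = true := by decide +kernel
theorem lv0b : Nat.blt (Pt0 (nat_lit 0)) (nat_lit 100) = true ∧ Q0 (Pt0 (nat_lit 0)) = 0 ∧ Pt0 (nat_lit 0) = 0 := by decide +kernel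
theorem sb0 : H16.allL (ltAll (nat_lit 4)) c0.Sl = true ∧ fixLetters P (nat_lit 4) (Pt0 (nat_lit 0)) = true := by decide +kernel
theorem tc1e_a : allZ2 (entryChk T1 (selR RL1 I1) D1 (nat_lit 31) (nat_lit 24) (nat_lit 4)) (nat_lit 4) (nat_lit 24) = true := by decide +kernel
theorem tc1r : rulesChk Rl c1.Sl RL1 (nat_lit 4) = true := by decide +kernel
theorem lv1e_0 : allZ (l1.ent P) (nat_lit 0) (nat_lit 23) = true := by decide +kernel
theorem lv1b : Nat.blt (Pt1 (nat_lit 0)) (nat_lit 100) = true ∧ Q1 (Pt1 (nat_lit 0)) = 0 ∧ Pt1 (nat_lit 0) = 16 := by decide +kernel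
theorem sb1 : H16.allL (ltAll (nat_lit 0)) c1.Sl = true ∧ fixLetters P (nat_lit 0) (Pt1 (nat_lit 0)) = true := by decide +kernel
theorem Blt : ltAll (nat_lit 100) B = 0 := by decide +kernel
theorem ivk : ivLt Rl (nat_lit 5) = true := by decide +kernel
theorem pe_a : allZ2 (permEnt P (ivOf Rl) (nat_lit 100)) (nat_lit 5) (nat_lit 100) = true := by decide +kernel
theorem rf0 : H16.allL (fixRange P (nat_lit 5) (nat_lit 0) (nat_lit 100)) (Rl.drop (nat_lit 5)) = true := by decide +kernel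

theorem tc0e : ∀ k < 5, ∀ i < 80, (entryChk T0 (selR RL0 I0) D0 (nat_lit 127) (nat_lit 80) (nat_lit 5)) k i = 0 := allZ2_sound tc0e_a
theorem tc0 : c0.OK Rl 5 := ⟨by decide, by decide, by decide, ivc, tc0r, tc0e⟩
theorem lv0e : ∀ i < 79, (l0.ent P) i = 0 := allZ_sound0 lv0e_0
theorem lv0 : l0.OK P 100 := ⟨by decide, by decide, lt_of_blt lv0b.1, lv0b.2.1, lv0e⟩
theorem tc1e : ∀ k < 4, ∀ i < 24, (entryChk T1 (selR RL1 I1) D1 (nat_lit 31) (nat_lit 24) (nat_lit 4)) k i = 0 := allZ2_sound tc1e_a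
theorem tc1 : c1.OK Rl 5 := ⟨by decide, by decide, by decide, ivc, tc1r, tc1e⟩
theorem lv1e : ∀ i < 23, (l1.ent P) i = 0 := allZ_sound0 lv1e_0
theorem lv1 : l1.OK P 100 := ⟨by decide, by decide, lt_of_blt lv1b.1, lv1b.2.1, lv1e⟩
theorem bound1 : Bound Rl 4 24 := Bound.step' (Bound.zero Rl) tc1 sb1.1 (by decide +kernel)
theorem bound0 : Bound Rl 5 1920 := Bound.step' (bound1) tc0 sb0.1 (by decide +kernel)
/-- every tuple satisfying `Rl` generates a group of order at most `1920` -/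
theorem bound : Bound Rl 5 1920 := bound0
theorem chain_of {G Ω : Type*} [Group G] [MulAction G Ω] {g : ℕ → G} {pt : ℕ → Ω}
    (h : Act g pt P 100 5) (hR : Rels g Rl) : IsChain g pt 100 L :=
  IsChain.cons (L := [l1]) (IsChain.cons (L := []) (trivial) h hR tc1 lv1 rfl rfl rfl (by decide) sb1.1 sb1.2) h hR tc0 lv0 rfl rfl rfl (by decide) sb0.1 sb0.2
theorem base_eq : chainBase L = B := by decide +kernel
theorem pe : ∀ k < 5, ∀ i < 100, (permEnt P (ivOf Rl) (nat_lit 100)) k i = 0 := allZ2_sound pe_a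
/-- the letters -/
noncomputable def g : ℕ → Equiv.Perm (Fin 100) := permGen 100 P
theorem act : Act g (ptF 100) P 100 5 := act_permGen pe
theorem rels : Rels g Rl :=
  rels_perm pe ivc ivk (FixUpTo.first rf0)
theorem chain : IsChain g (ptF 100) 100 L := chain_of act rels
theorem card : Nat.card (gen g 5) = 1920 := chain.card' (ptF_inj 100) (by decide +kernel)
theorem isBase : IsBase (gen g 5) (ptF 100) B := base_eq ▸ chain.isBase (ptF_inj 100)

end H15.J2C
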