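import Cfsg.Agent.H16.Slp

/-! Generated by tools/h15/cs.py. -/

set_option maxRecDepth 100000
set_option maxHeartbeats 0
set_option linter.unusedVariables false

namespace H15.XM11C

open H16

noncomputable def Rl : List (List ℕ) := [[nat_lit 0, nat_lit 0],
  [nat_lit 1, nat_lit 1],
  [nat_lit 2, nat_lit 2],
  [nat_lit 0, nat_lit 1, nat_lit 0, nat_lit 1, nat_lit 0, nat_lit 1],
  [nat_lit 0, nat_lit 1, nat_lit 2, nat_lit 1, nat_lit 0, nat_lit 2, nat_lit 1, nat_lit 2]]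
noncomputable def Pd : List ℕ := [nat_lit 0x8ceabb22e379c4ca2932704a4834c0,
  nat_lit 0x99d74b91d07c441aa868b18b24b580,
  nat_lit 0x8dab428ae873c6652d303b2646c820]
noncomputable def P (k u : ℕ) : ℕ := Nat.land (Nat.shiftRight (nth (nat_lit 0) Pd k) (Nat.mul u (nat_lit 5))) (nat_lit 31)
noncomputable def T0d : List ℕ := [nat_lit 0x1ecaf6d69cb0,
  nat_lit 0x3dd9aaa74cf0,
  nat_lit 0xbb76e4952a31]
noncomputable def T0 (k u : ℕ) : ℕ := Nat.land (Nat.shiftRight (nth (nat_lit 0) T0d k) (Nat.mul u (nat_lit 6))) (nat_lit 63)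
noncomputable def I0d : List ℕ := [nat_lit 0x60120a,
  nat_lit 0x81804a,
  nat_lit 0x428c1]
noncomputable def I0 (k u : ℕ) : ℕ := Nat.land (Nat.shiftRight (nth (nat_lit 0) I0d k) (Nat.mul u (nat_lit 3))) (nat_lit 7)
noncomputable def D0d : ℕ := nat_lit 0xa312720c40
noncomputable def D0 (u : ℕ) : ℕ := Nat.land (Nat.shiftRight D0d (Nat.mul u (nat_lit 5))) (nat_lit 31)
noncomputable def RL0 : List (List Rule) := [[.rel (nat_lit 0) (nat_lit 0) [nat_lit 0], .defn, .sub (nat_lit 0) [] [], .rel (nat_lit 8) (nat_lit 4) [nat_lit 2, nat_lit 1, nat_lit 2, nat_lit 0, nat_lit 1, nat_lit 2, nat_lit 1]],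
  [.rel (nat_lit 2) (nat_lit 0) [nat_lit 1], .defn, .sub (nat_lit 2) [] [], .rel (nat_lit 6) (nat_lit 5) [nat_lit 0, nat_lit 1, nat_lit 0, nat_lit 1, nat_lit 0], .rel (nat_lit 8) (nat_lit 6) [nat_lit 2, nat_lit 0, nat_lit 1, nat_lit 2, nat_lit 1, nat_lit 0, nat_lit 2]],
  [.rel (nat_lit 4) (nat_lit 0) [nat_lit 2], .defn, .rel (nat_lit 8) (nat_lit 2) [nat_lit 1, nat_lit 0, nat_lit 2, nat_lit 1, nat_lit 2, nat_lit 0, nat_lit 1], .rel (nat_lit 8) (nat_lit 5) [nat_lit 1, nat_lit 2, nat_lit 0, nat_lit 1, nat_lit 2, nat_lit 1, nat_lit 0], .rel (nat_lit 8) (nat_lit 7) [nat_lit 0, nat_lit 1, nat_lit 2, nat_lit 1, nat_lit 0, nat_lit 2, nat_lit 1]]]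
noncomputable def c0 : TCert := ⟨8, 3, 7, T0, I0, D0, [[nat_lit 0],
  [nat_lit 1]], RL0⟩
noncomputable def Pt0d : ℕ := nat_lit 0x7ba27bda65
noncomputable def Pt0 (u : ℕ) : ℕ := Nat.land (Nat.shiftRight Pt0d (Nat.mul u (nat_lit 5))) (nat_lit 31)
noncomputable def Q0d : ℕ := nat_lit 0x680228f80000800000
noncomputable def Q0 (u : ℕ) : ℕ := Nat.land (Nat.shiftRight Q0d (Nat.mul u (nat_lit 3))) (nat_lit 7)
noncomputable def l0 : H16.Lev := ⟨8, 3, D0, Pt0, Q0⟩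
noncomputable def T1d : List ℕ := [nat_lit 0x272ef219,
  nat_lit 0x8d8c37a]
noncomputable def T1 (k u : ℕ) : ℕ := Nat.land (Nat.shiftRight (nth (nat_lit 0) T1d k) (Nat.mul u (nat_lit 5))) (nat_lit 31)
noncomputable def I1d : List ℕ := [nat_lit 0x51,
  nat_lit 0x205]
noncomputable def I1 (k u : ℕ) : ℕ := Nat.land (Nat.shiftRight (nth (nat_lit 0) I1d k) (Nat.mul u (nat_lit 2))) (nat_lit 3)
noncomputable def D1d : ℕ := nat_lit 0x34640
noncomputable def D1 (u : ℕ) : ℕ := Nat.land (Nat.shiftRight D1d (Nat.mul u (nat_lit 3))) (nat_lit 7)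
noncomputable def RL1 : List (List Rule) := [[.rel (nat_lit 0) (nat_lit 0) [nat_lit 0], .defn],
  [.rel (nat_lit 2) (nat_lit 0) [nat_lit 1], .defn, .rel (nat_lit 6) (nat_lit 5) [nat_lit 0, nat_lit 1, nat_lit 0, nat_lit 1, nat_lit 0]]]
noncomputable def c1 : TCert := ⟨6, 2, 7, T1, I1, D1, [], RL1⟩
noncomputable def Pt1d : ℕ := nat_lit 0x2f38d9c7
noncomputable def Pt1 (u : ℕ) : ℕ := Nat.land (Nat.shiftRight Pt1d (Nat.mul u (nat_lit 5))) (nat_lit 31)
noncomputable def Q1d : ℕ := nat_lit 0xa80818040000000000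
noncomputable def Q1 (u : ℕ) : ℕ := Nat.land (Nat.shiftRight Q1d (Nat.mul u (nat_lit 3))) (nat_lit 7)
noncomputable def l1 : H16.Lev := ⟨6, 2, D1, Pt1, Q1⟩
noncomputable def B : List ℕ := [nat_lit 5, nat_lit 7]
noncomputable def L : List H16.Lev := [l0, l1]

theorem tc0e_a : allZ2 (entryChk T0 (selR RL0 I0) D0 (nat_lit 7) (nat_lit 8) (nat_lit 3)) (nat_lit 3) (nat_lit 8) = true := by decide +kernel
theorem tc0r : rulesChk Rl c0.Sl RL0 (nat_lit 3) = true := by decide +kernel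
theorem ivc : ivChk Rl (nat_lit 3) = true := by decide +kernel
theorem lv0e_0 : allZ (l0.ent P) (nat_lit 0) (nat_lit 7) = true := by decide +kernel
theorem lv0b : Nat.blt (Pt0 (nat_lit 0)) (nat_lit 24) = true ∧ Q0 (Pt0 (nat_lit 0)) = 0 ∧ Pt0 (nat_lit 0) = 5 := by decide +kernel
theorem sb0 : H16.allL (ltAll (nat_lit 2)) c0.Sl = true ∧ fixLetters P (nat_lit 2) (Pt0 (nat_lit 0)) = true := by decide +kernel
theorem tc1e_a : allZ2 (entryChk T1 (selR RL1 I1) D1 (nat_lit 7) (nat_lit 6) (nat_lit 2)) (nat_lit 2) (nat_lit 6) = true := by decide +kernel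
theorem tc1r : rulesChk Rl c1.Sl RL1 (nat_lit 2) = true := by decide +kernel
theorem lv1e_0 : allZ (l1.ent P) (nat_lit 0) (nat_lit 5) = true := by decide +kernel
theorem lv1b : Nat.blt (Pt1 (nat_lit 0)) (nat_lit 24) = true ∧ Q1 (Pt1 (nat_lit 0)) = 0 ∧ Pt1 (nat_lit 0) = 7 := by decide +kernel
theorem sb1 : H16.allL (ltAll (nat_lit 0)) c1.Sl = true ∧ fixLetters P (nat_lit 0) (Pt1 (nat_lit 0)) = true := by decide +kernel
theorem Blt : ltAll (nat_lit 24) B = 0 := by decide +kernel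

theorem tc0e : ∀ k < 3, ∀ i < 8, (entryChk T0 (selR RL0 I0) D0 (nat_lit 7) (nat_lit 8) (nat_lit 3)) k i = 0 := allZ2_sound tc0e_a
theorem tc0 : c0.OK Rl 3 := ⟨by decide, by decide, by decide, ivc, tc0r, tc0e⟩
theorem lv0e : ∀ i < 7, (l0.ent P) i = 0 := allZ_sound0 lv0e_0
theorem lv0 : l0.OK P 24 := ⟨by decide, by decide, lt_of_blt lv0b.1, lv0b.2.1, lv0e⟩
theorem tc1e : ∀ k < 2, ∀ i < 6, (entryChk T1 (selR RL1 I1) D1 (nat_lit 7) (nat_lit 6) (nat_lit 2)) k i = 0 := allZ2_sound tc1e_a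
theorem tc1 : c1.OK Rl 3 := ⟨by decide, by decide, by decide, ivc, tc1r, tc1e⟩
theorem lv1e : ∀ i < 5, (l1.ent P) i = 0 := allZ_sound0 lv1e_0
theorem lv1 : l1.OK P 24 := ⟨by decide, by decide, lt_of_blt lv1b.1, lv1b.2.1, lv1e⟩
theorem bound1 : Bound Rl 2 6 := Bound.step' (Bound.zero Rl) tc1 sb1.1 (by decide +kernel)
theorem bound0 : Bound Rl 3 48 := Bound.step' (bound1) tc0 sb0.1 (by decide +kernel)
/-- every tuple satisfying `Rl` generates a group of order at most `48` -/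
theorem bound : Bound Rl 3 48 := bound0
theorem chain_of {G Ω : Type*} [Group G] [MulAction G Ω] {g : ℕ → G} {pt : ℕ → Ω}
    (h : Act g pt P 24 3) (hR : Rels g Rl) : IsChain g pt 24 L :=
  IsChain.cons (L := [l1]) (IsChain.cons (L := []) (trivial) h hR tc1 lv1 rfl rfl rfl (by decide) sb1.1 sb1.2) h hR tc0 lv0 rfl rfl rfl (by decide) sb0.1 sb0.2
theorem base_eq : chainBase L = B := by decide +kernel

end H15.XM11C
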