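import Cfsg.Agent.H15.M.Co1C.C0
import Cfsg.Agent.H15.M.Co1C.C1

/-! Generated by tools/h15/cs.py. -/

set_option maxRecDepth 100000
set_option maxHeartbeats 0
set_option linter.unusedVariables false

namespace H15.XCo1C

open H16

theorem tc0e : ∀ k < 15, ∀ i < 240, (entryChk T0 (selR RL0 I0) D0 (nat_lit 255) (nat_lit 240) (nat_lit 15)) k i = 0 := allZ2_sound tc0e_a
theorem tc0 : c0.OK Rl 15 := ⟨by decide, by decide, by decide, ivc, tc0r, tc0e⟩
theorem lv0e : ∀ i < 239, (l0.ent P) i = 0 := allZ_sound0 lv0e_0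
theorem lv0 : l0.OK P 4560 := ⟨by decide, by decide, lt_of_blt lv0b.1, lv0b.2.1, lv0e⟩
theorem tc1e : ∀ k < 14, ∀ i < 126, (entryChk T1 (selR RL1 I1) D1 (nat_lit 127) (nat_lit 126) (nat_lit 14)) k i = 0 := allZ2_sound tc1e_a
theorem tc1 : c1.OK Rl 15 := ⟨by decide, by decide, by decide, ivc, tc1r, tc1e⟩
theorem lv1e : ∀ i < 125, (l1.ent P) i = 0 := allZ_sound0 lv1e_0
theorem lv1 : l1.OK P 4560 := ⟨by decide, by decide, lt_of_blt lv1b.1, lv1b.2.1, lv1e⟩
theorem tc2e : ∀ k < 13, ∀ i < 60, (entryChk T2 (selR RL2 I2) D2 (nat_lit 63) (nat_lit 60) (nat_lit 13)) k i = 0 := allZ2_sound tc2e_a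
theorem tc2 : c2.OK Rl 15 := ⟨by decide, by decide, by decide, ivc, tc2r, tc2e⟩
theorem lv2e : ∀ i < 59, (l2.ent P) i = 0 := allZ_sound0 lv2e_0
theorem lv2 : l2.OK P 4560 := ⟨by decide, by decide, lt_of_blt lv2b.1, lv2b.2.1, lv2e⟩
theorem tc3e : ∀ k < 12, ∀ i < 24, (entryChk T3 (selR RL3 I3) D3 (nat_lit 31) (nat_lit 24) (nat_lit 12)) k i = 0 := allZ2_sound tc3e_a
theorem tc3 : c3.OK Rl 15 := ⟨by decide, by decide, by decide, ivc, tc3r, tc3e⟩
theorem lv3e : ∀ i < 23, (l3.ent P) i = 0 := allZ_sound0 lv3e_0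
theorem lv3 : l3.OK P 4560 := ⟨by decide, by decide, lt_of_blt lv3b.1, lv3b.2.1, lv3e⟩
theorem tc4e : ∀ k < 11, ∀ i < 8, (entryChk T4 (selR RL4 I4) D4 (nat_lit 7) (nat_lit 8) (nat_lit 11)) k i = 0 := allZ2_sound tc4e_a
theorem tc4 : c4.OK Rl 15 := ⟨by decide, by decide, by decide, ivc, tc4r, tc4e⟩
theorem lv4e : ∀ i < 7, (l4.ent P) i = 0 := allZ_sound0 lv4e_0
theorem lv4 : l4.OK P 4560 := ⟨by decide, by decide, lt_of_blt lv4b.1, lv4b.2.1, lv4e⟩
theorem tc5e : ∀ k < 8, ∀ i < 32, (entryChk T5 (selR RL5 I5) D5 (nat_lit 31) (nat_lit 32) (nat_lit 8)) k i = 0 := allZ2_sound tc5e_a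
theorem tc5 : c5.OK Rl 15 := ⟨by decide, by decide, by decide, ivc, tc5r, tc5e⟩
theorem lv5e : ∀ i < 31, (l5.ent P) i = 0 := allZ_sound0 lv5e_0
theorem lv5 : l5.OK P 4560 := ⟨by decide, by decide, lt_of_blt lv5b.1, lv5b.2.1, lv5e⟩
theorem tc6e : ∀ k < 4, ∀ i < 16, (entryChk T6 (selR RL6 I6) D6 (nat_lit 15) (nat_lit 16) (nat_lit 4)) k i = 0 := allZ2_sound tc6e_a
theorem tc6 : c6.OK Rl 15 := ⟨by decide, by decide, by decide, ivc, tc6r, tc6e⟩
theorem lv6e : ∀ i < 15, (l6.ent P) i = 0 := allZ_sound0 lv6e_0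
theorem lv6 : l6.OK P 4560 := ⟨by decide, by decide, lt_of_blt lv6b.1, lv6b.2.1, lv6e⟩
theorem bound6 : Bound Rl 4 16 := Bound.step' (Bound.zero Rl) tc6 sb6.1 (by decide +kernel)
theorem bound5 : Bound Rl 8 512 := Bound.step' (bound6) tc5 sb5.1 (by decide +kernel)
theorem bound4 : Bound Rl 11 4096 := Bound.step' (bound5) tc4 sb4.1 (by decide +kernel)
theorem bound3 : Bound Rl 12 98304 := Bound.step' (bound4) tc3 sb3.1 (by decide +kernel)
theorem bound2 : Bound Rl 13 5898240 := Bound.step' (bound3) tc2 sb2.1 (by decide +kernel)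
theorem bound1 : Bound Rl 14 743178240 := Bound.step' (bound2) tc1 sb1.1 (by decide +kernel)
theorem bound0 : Bound Rl 15 178362777600 := Bound.step' (bound1) tc0 sb0.1 (by decide +kernel)
/-- every tuple satisfying `Rl` generates a group of order at most `178362777600` -/
theorem bound : Bound Rl 15 178362777600 := bound0
theorem chain_of {G Ω : Type*} [Group G] [MulAction G Ω] {g : ℕ → G} {pt : ℕ → Ω}
    (h : Act g pt P 4560 15) (hR : Rels g Rl) : IsChain g pt 4560 L :=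
  IsChain.cons (L := [l1, l2, l3, l4, l5, l6]) (IsChain.cons (L := [l2, l3, l4, l5, l6]) (IsChain.cons (L := [l3, l4, l5, l6]) (IsChain.cons (L := [l4, l5, l6]) (IsChain.cons (L := [l5, l6]) (IsChain.cons (L := [l6]) (IsChain.cons (L := []) (trivial) h hR tc6 lv6 rfl rfl rfl (by decide) sb6.1 sb6.2) h hR tc5 lv5 rfl rfl rfl (by decide) sb5.1 sb5.2) h hR tc4 lv4 rfl rfl rfl (by decide) sb4.1 sb4.2) h hR tc3 lv3 rfl rfl rfl (by decide) sb3.1 sb3.2) h hR tc2 lv2 rfl rfl rfl (by decide) sb2.1 sb2.2) h hR tc1 lv1 rfl rfl rfl (by decide) sb1.1 sb1.2) h hR tc0 lv0 rfl rfl rfl (by decide) sb0.1 sb0.2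
theorem base_eq : chainBase L = B := by decide +kernel
theorem ml : H15.ML h C 15 := H15.ml_of mlc
theorem Ze : ∀ i < 4560, (H15.tabEnt Z (nat_lit 4560)) i = 0 := allZ_sound0 Ze_0
theorem relc_0 : ∀ i < 24, (H15.relV C (nat_lit 15) Rl (nat_lit 0)) i = 0 := allZ_sound0 relc_0_0
theorem relc_1 : ∀ i < 24, (H15.relV C (nat_lit 15) Rl (nat_lit 1)) i = 0 := allZ_sound0 relc_1_0
theorem relc_2 : ∀ i < 24, (H15.relV C (nat_lit 15) Rl (nat_lit 2)) i = 0 := allZ_sound0 relc_2_0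
theorem relc_3 : ∀ i < 24, (H15.relV C (nat_lit 15) Rl (nat_lit 3)) i = 0 := allZ_sound0 relc_3_0
theorem relc_4 : ∀ i < 24, (H15.relV C (nat_lit 15) Rl (nat_lit 4)) i = 0 := allZ_sound0 relc_4_0
theorem relc_5 : ∀ i < 24, (H15.relV C (nat_lit 15) Rl (nat_lit 5)) i = 0 := allZ_sound0 relc_5_0
theorem relc_6 : ∀ i < 24, (H15.relV C (nat_lit 15) Rl (nat_lit 6)) i = 0 := allZ_sound0 relc_6_0
theorem relc_7 : ∀ i < 24, (H15.relV C (nat_lit 15) Rl (nat_lit 7)) i = 0 := allZ_sound0 relc_7_0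
theorem relc_8 : ∀ i < 24, (H15.relV C (nat_lit 15) Rl (nat_lit 8)) i = 0 := allZ_sound0 relc_8_0
theorem relc_9 : ∀ i < 24, (H15.relV C (nat_lit 15) Rl (nat_lit 9)) i = 0 := allZ_sound0 relc_9_0
theorem relc_10 : ∀ i < 24, (H15.relV C (nat_lit 15) Rl (nat_lit 10)) i = 0 := allZ_sound0 relc_10_0
theorem relc_11 : ∀ i < 24, (H15.relV C (nat_lit 15) Rl (nat_lit 11)) i = 0 := allZ_sound0 relc_11_0
theorem relc_12 : ∀ i < 24, (H15.relV C (nat_lit 15) Rl (nat_lit 12)) i = 0 := allZ_sound0 relc_12_0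
theorem relc_13 : ∀ i < 24, (H15.relV C (nat_lit 15) Rl (nat_lit 13)) i = 0 := allZ_sound0 relc_13_0
theorem relc_14 : ∀ i < 24, (H15.relV C (nat_lit 15) Rl (nat_lit 14)) i = 0 := allZ_sound0 relc_14_0
theorem relc_15 : ∀ i < 24, (H15.relV C (nat_lit 15) Rl (nat_lit 15)) i = 0 := allZ_sound0 relc_15_0
theorem relc_16 : ∀ i < 24, (H15.relV C (nat_lit 15) Rl (nat_lit 16)) i = 0 := allZ_sound0 relc_16_0
theorem relc_17 : ∀ i < 24, (H15.relV C (nat_lit 15) Rl (nat_lit 17)) i = 0 := allZ_sound0 relc_17_0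
theorem relc_18 : ∀ i < 24, (H15.relV C (nat_lit 15) Rl (nat_lit 18)) i = 0 := allZ_sound0 relc_18_0
theorem relc_19 : ∀ i < 24, (H15.relV C (nat_lit 15) Rl (nat_lit 19)) i = 0 := allZ_sound0 relc_19_0
theorem relc_20 : ∀ i < 24, (H15.relV C (nat_lit 15) Rl (nat_lit 20)) i = 0 := allZ_sound0 relc_20_0
theorem relc_21 : ∀ i < 24, (H15.relV C (nat_lit 15) Rl (nat_lit 21)) i = 0 := allZ_sound0 relc_21_0
theorem relc_22 : ∀ i < 24, (H15.relV C (nat_lit 15) Rl (nat_lit 22)) i = 0 := allZ_sound0 relc_22_0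
theorem relc_23 : ∀ i < 24, (H15.relV C (nat_lit 15) Rl (nat_lit 23)) i = 0 := allZ_sound0 relc_23_0
theorem relc_24 : ∀ i < 24, (H15.relV C (nat_lit 15) Rl (nat_lit 24)) i = 0 := allZ_sound0 relc_24_0
theorem relc_25 : ∀ i < 24, (H15.relV C (nat_lit 15) Rl (nat_lit 25)) i = 0 := allZ_sound0 relc_25_0
theorem relc_26 : ∀ i < 24, (H15.relV C (nat_lit 15) Rl (nat_lit 26)) i = 0 := allZ_sound0 relc_26_0
theorem relc_27 : ∀ i < 24, (H15.relV C (nat_lit 15) Rl (nat_lit 27)) i = 0 := allZ_sound0 relc_27_0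
theorem relc_28 : ∀ i < 24, (H15.relV C (nat_lit 15) Rl (nat_lit 28)) i = 0 := allZ_sound0 relc_28_0
theorem relc_29 : ∀ i < 24, (H15.relV C (nat_lit 15) Rl (nat_lit 29)) i = 0 := allZ_sound0 relc_29_0
theorem relc_30 : ∀ i < 24, (H15.relV C (nat_lit 15) Rl (nat_lit 30)) i = 0 := allZ_sound0 relc_30_0
theorem relc_31 : ∀ i < 24, (H15.relV C (nat_lit 15) Rl (nat_lit 31)) i = 0 := allZ_sound0 relc_31_0
theorem relc_32 : ∀ i < 24, (H15.relV C (nat_lit 15) Rl (nat_lit 32)) i = 0 := allZ_sound0 relc_32_0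
theorem relc_33 : ∀ i < 24, (H15.relV C (nat_lit 15) Rl (nat_lit 33)) i = 0 := allZ_sound0 relc_33_0
theorem relc_34 : ∀ i < 24, (H15.relV C (nat_lit 15) Rl (nat_lit 34)) i = 0 := allZ_sound0 relc_34_0
theorem relc_35 : ∀ i < 24, (H15.relV C (nat_lit 15) Rl (nat_lit 35)) i = 0 := allZ_sound0 relc_35_0
theorem relc_36 : ∀ i < 24, (H15.relV C (nat_lit 15) Rl (nat_lit 36)) i = 0 := allZ_sound0 relc_36_0
theorem relc_37 : ∀ i < 24, (H15.relV C (nat_lit 15) Rl (nat_lit 37)) i = 0 := allZ_sound0 relc_37_0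
theorem relc_38 : ∀ i < 24, (H15.relV C (nat_lit 15) Rl (nat_lit 38)) i = 0 := allZ_sound0 relc_38_0
theorem relc_39 : ∀ i < 24, (H15.relV C (nat_lit 15) Rl (nat_lit 39)) i = 0 := allZ_sound0 relc_39_0
theorem relc_40 : ∀ i < 24, (H15.relV C (nat_lit 15) Rl (nat_lit 40)) i = 0 := allZ_sound0 relc_40_0
theorem relc_41 : ∀ i < 24, (H15.relV C (nat_lit 15) Rl (nat_lit 41)) i = 0 := allZ_sound0 relc_41_0
theorem relc_42 : ∀ i < 24, (H15.relV C (nat_lit 15) Rl (nat_lit 42)) i = 0 := allZ_sound0 relc_42_0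
theorem relc_43 : ∀ i < 24, (H15.relV C (nat_lit 15) Rl (nat_lit 43)) i = 0 := allZ_sound0 relc_43_0
theorem relc_44 : ∀ i < 24, (H15.relV C (nat_lit 15) Rl (nat_lit 44)) i = 0 := allZ_sound0 relc_44_0
theorem relc_45 : ∀ i < 24, (H15.relV C (nat_lit 15) Rl (nat_lit 45)) i = 0 := allZ_sound0 relc_45_0
theorem relc_46 : ∀ i < 24, (H15.relV C (nat_lit 15) Rl (nat_lit 46)) i = 0 := allZ_sound0 relc_46_0
theorem relc_47 : ∀ i < 24, (H15.relV C (nat_lit 15) Rl (nat_lit 47)) i = 0 := allZ_sound0 relc_47_0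
theorem relc_48 : ∀ i < 24, (H15.relV C (nat_lit 15) Rl (nat_lit 48)) i = 0 := allZ_sound0 relc_48_0
theorem relc_49 : ∀ i < 24, (H15.relV C (nat_lit 15) Rl (nat_lit 49)) i = 0 := allZ_sound0 relc_49_0
theorem relc_50 : ∀ i < 24, (H15.relV C (nat_lit 15) Rl (nat_lit 50)) i = 0 := allZ_sound0 relc_50_0
theorem relc_51 : ∀ i < 24, (H15.relV C (nat_lit 15) Rl (nat_lit 51)) i = 0 := allZ_sound0 relc_51_0
theorem relc_52 : ∀ i < 24, (H15.relV C (nat_lit 15) Rl (nat_lit 52)) i = 0 := allZ_sound0 relc_52_0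
theorem relc_53 : ∀ i < 24, (H15.relV C (nat_lit 15) Rl (nat_lit 53)) i = 0 := allZ_sound0 relc_53_0
theorem relc_54 : ∀ i < 24, (H15.relV C (nat_lit 15) Rl (nat_lit 54)) i = 0 := allZ_sound0 relc_54_0
theorem relc_55 : ∀ i < 24, (H15.relV C (nat_lit 15) Rl (nat_lit 55)) i = 0 := allZ_sound0 relc_55_0
theorem relc_56 : ∀ i < 24, (H15.relV C (nat_lit 15) Rl (nat_lit 56)) i = 0 := allZ_sound0 relc_56_0
theorem relc_57 : ∀ i < 24, (H15.relV C (nat_lit 15) Rl (nat_lit 57)) i = 0 := allZ_sound0 relc_57_0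
theorem relc_58 : ∀ i < 24, (H15.relV C (nat_lit 15) Rl (nat_lit 58)) i = 0 := allZ_sound0 relc_58_0
theorem relc_59 : ∀ i < 24, (H15.relV C (nat_lit 15) Rl (nat_lit 59)) i = 0 := allZ_sound0 relc_59_0
theorem relc_60 : ∀ i < 24, (H15.relV C (nat_lit 15) Rl (nat_lit 60)) i = 0 := allZ_sound0 relc_60_0
theorem relc_61 : ∀ i < 24, (H15.relV C (nat_lit 15) Rl (nat_lit 61)) i = 0 := allZ_sound0 relc_61_0
theorem relc_62 : ∀ i < 24, (H15.relV C (nat_lit 15) Rl (nat_lit 62)) i = 0 := allZ_sound0 relc_62_0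
theorem relc_63 : ∀ i < 24, (H15.relV C (nat_lit 15) Rl (nat_lit 63)) i = 0 := allZ_sound0 relc_63_0
theorem relc_64 : ∀ i < 24, (H15.relV C (nat_lit 15) Rl (nat_lit 64)) i = 0 := allZ_sound0 relc_64_0
theorem relc_65 : ∀ i < 24, (H15.relV C (nat_lit 15) Rl (nat_lit 65)) i = 0 := allZ_sound0 relc_65_0
theorem relc_66 : ∀ i < 24, (H15.relV C (nat_lit 15) Rl (nat_lit 66)) i = 0 := allZ_sound0 relc_66_0
theorem relc_67 : ∀ i < 24, (H15.relV C (nat_lit 15) Rl (nat_lit 67)) i = 0 := allZ_sound0 relc_67_0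
theorem relc_68 : ∀ i < 24, (H15.relV C (nat_lit 15) Rl (nat_lit 68)) i = 0 := allZ_sound0 relc_68_0
theorem relc_69 : ∀ i < 24, (H15.relV C (nat_lit 15) Rl (nat_lit 69)) i = 0 := allZ_sound0 relc_69_0
theorem relc_70 : ∀ i < 24, (H15.relV C (nat_lit 15) Rl (nat_lit 70)) i = 0 := allZ_sound0 relc_70_0
theorem relc_71 : ∀ i < 24, (H15.relV C (nat_lit 15) Rl (nat_lit 71)) i = 0 := allZ_sound0 relc_71_0
theorem relc_72 : ∀ i < 24, (H15.relV C (nat_lit 15) Rl (nat_lit 72)) i = 0 := allZ_sound0 relc_72_0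
theorem relc_73 : ∀ i < 24, (H15.relV C (nat_lit 15) Rl (nat_lit 73)) i = 0 := allZ_sound0 relc_73_0
theorem relc_74 : ∀ i < 24, (H15.relV C (nat_lit 15) Rl (nat_lit 74)) i = 0 := allZ_sound0 relc_74_0
theorem relc_75 : ∀ i < 24, (H15.relV C (nat_lit 15) Rl (nat_lit 75)) i = 0 := allZ_sound0 relc_75_0
theorem relc_76 : ∀ i < 24, (H15.relV C (nat_lit 15) Rl (nat_lit 76)) i = 0 := allZ_sound0 relc_76_0
theorem relc_77 : ∀ i < 24, (H15.relV C (nat_lit 15) Rl (nat_lit 77)) i = 0 := allZ_sound0 relc_77_0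
theorem relc : ∀ k < 78, ∀ i < 24, (H15.relV C (nat_lit 15) Rl) k i = 0 :=
  letters_glue (letters_glue (letters_glue (letters_glue (letters_glue (letters_glue (letters_glue (letters_glue (letters_glue (letters_glue (letters_glue (letters_glue (letters_glue (letters_glue (letters_glue (letters_glue (letters_glue (letters_glue (letters_glue (letters_glue (letters_glue (letters_glue (letters_glue (letters_glue (letters_glue (letters_glue (letters_glue (letters_glue (letters_glue (letters_glue (letters_glue (letters_glue (letters_glue (letters_glue (letters_glue (letters_glue (letters_glue (letters_glue (letters_glue (letters_glue (letters_glue (letters_glue (letters_glue (letters_glue (letters_glue (letters_glue (letters_glue (letters_glue (letters_glue (letters_glue (letters_glue (letters_glue (letters_glue (letters_glue (letters_glue (letters_glue (letters_glue (letters_glue (letters_glue (letters_glue (letters_glue (letters_glue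 (letters_glue (letters_glue (letters_glue (letters_glue (letters_glue (letters_glue (letters_glue (letters_glue (letters_glue (letters_glue (letters_glue (letters_glue (letters_glue (letters_glue (letters_glue (letters_glue (letters_nil) relc_0) relc_1) relc_2) relc_3) relc_4) relc_5) relc_6) relc_7) relc_8) relc_9) relc_10) relc_11) relc_12) relc_13) relc_14) relc_15) relc_16) relc_17) relc_18) relc_19) relc_20) relc_21) relc_22) relc_23) relc_24) relc_25) relc_26) relc_27) relc_28) relc_29) relc_30) relc_31) relc_32) relc_33) relc_34) relc_35) relc_36) relc_37) relc_38) relc_39) relc_40) relc_41) relc_42) relc_43) relc_44) relc_45) relc_46) relc_47) relc_48) relc_49) relc_50) relc_51) relc_52) relc_53) relc_54) relc_55) relc_56) relc_57) relc_58) relc_59) relc_60) relc_61) relc_62) relc_63) relc_64) relc_65) relc_66) relc_67) relc_68) relc_69) relc_70) relc_71) relc_72) relc_73) relc_74) relc_75) relc_76) relc_77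
theorem acte_0 : ∀ i < 4560, (H15.actEnt C Z P (nat_lit 4560) (nat_lit 0)) i = 0 := range_glue (range_glue (allZ_sound0 acte_0_0) acte_0_1) acte_0_2
theorem acte_1 : ∀ i < 4560, (H15.actEnt C Z P (nat_lit 4560) (nat_lit 1)) i = 0 := range_glue (range_glue (allZ_sound0 acte_1_0) acte_1_1) acte_1_2
theorem acte_2 : ∀ i < 4560, (H15.actEnt C Z P (nat_lit 4560) (nat_lit 2)) i = 0 := range_glue (range_glue (allZ_sound0 acte_2_0) acte_2_1) acte_2_2
theorem acte_3 : ∀ i < 4560, (H15.actEnt C Z P (nat_lit 4560) (nat_lit 3)) i = 0 := range_glue (range_glue (allZ_sound0 acte_3_0) acte_3_1) acte_3_2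
theorem acte_4 : ∀ i < 4560, (H15.actEnt C Z P (nat_lit 4560) (nat_lit 4)) i = 0 := range_glue (range_glue (allZ_sound0 acte_4_0) acte_4_1) acte_4_2
theorem acte_5 : ∀ i < 4560, (H15.actEnt C Z P (nat_lit 4560) (nat_lit 5)) i = 0 := range_glue (range_glue (allZ_sound0 acte_5_0) acte_5_1) acte_5_2
theorem acte_6 : ∀ i < 4560, (H15.actEnt C Z P (nat_lit 4560) (nat_lit 6)) i = 0 := range_glue (range_glue (allZ_sound0 acte_6_0) acte_6_1) acte_6_2
theorem acte_7 : ∀ i < 4560, (H15.actEnt C Z P (nat_lit 4560) (nat_lit 7)) i = 0 := range_glue (range_glue (allZ_sound0 acte_7_0) acte_7_1) acte_7_2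
theorem acte_8 : ∀ i < 4560, (H15.actEnt C Z P (nat_lit 4560) (nat_lit 8)) i = 0 := range_glue (range_glue (allZ_sound0 acte_8_0) acte_8_1) acte_8_2
theorem acte_9 : ∀ i < 4560, (H15.actEnt C Z P (nat_lit 4560) (nat_lit 9)) i = 0 := range_glue (range_glue (allZ_sound0 acte_9_0) acte_9_1) acte_9_2
theorem acte_10 : ∀ i < 4560, (H15.actEnt C Z P (nat_lit 4560) (nat_lit 10)) i = 0 := range_glue (range_glue (allZ_sound0 acte_10_0) acte_10_1) acte_10_2
theorem acte_11 : ∀ i < 4560, (H15.actEnt C Z P (nat_lit 4560) (nat_lit 11)) i = 0 := range_glue (range_glue (allZ_sound0 acte_11_0) acte_11_1) acte_11_2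
theorem acte_12 : ∀ i < 4560, (H15.actEnt C Z P (nat_lit 4560) (nat_lit 12)) i = 0 := range_glue (range_glue (allZ_sound0 acte_12_0) acte_12_1) acte_12_2
theorem acte_13 : ∀ i < 4560, (H15.actEnt C Z P (nat_lit 4560) (nat_lit 13)) i = 0 := range_glue (range_glue (allZ_sound0 acte_13_0) acte_13_1) acte_13_2
theorem acte_14 : ∀ i < 4560, (H15.actEnt C Z P (nat_lit 4560) (nat_lit 14)) i = 0 := range_glue (range_glue (allZ_sound0 acte_14_0) acte_14_1) acte_14_2
theorem acte : ∀ k < 15, ∀ i < 4560, (H15.actEnt C Z P (nat_lit 4560)) k i = 0 :=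
  letters_glue (letters_glue (letters_glue (letters_glue (letters_glue (letters_glue (letters_glue (letters_glue (letters_glue (letters_glue (letters_glue (letters_glue (letters_glue (letters_glue (letters_glue (letters_nil) acte_0) acte_1) acte_2) acte_3) acte_4) acte_5) acte_6) acte_7) acte_8) acte_9) acte_10) acte_11) acte_12) acte_13) acte_14
theorem tabZ : H15.Tab Z 4560 := H15.tab_of Ze
theorem rels : Rels h Rl := H15.rels_of ml (by decide +kernel) relc
theorem act : Act h (H15.tv Z) P 4560 15 := H15.act_of ml tabZ acte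
theorem chain : IsChain h (H15.tv Z) 4560 L := chain_of act rels

end H15.XCo1C
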