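import Cfsg.Agent.H16.Slp

/-! Generated by tools/h15/cs.py. -/

set_option maxRecDepth 100000
set_option maxHeartbeats 0
set_option linter.unusedVariables false

namespace H15.XJ2I

open H16

noncomputable def Rl : List (List ℕ) := [[nat_lit 0, nat_lit 1],
  [nat_lit 1, nat_lit 0],
  [nat_lit 2, nat_lit 3],
  [nat_lit 3, nat_lit 2],
  [nat_lit 4, nat_lit 4],
  [nat_lit 0, nat_lit 0, nat_lit 0],
  [nat_lit 0, nat_lit 2, nat_lit 0, nat_lit 3, nat_lit 3],
  [nat_lit 0, nat_lit 4, nat_lit 0, nat_lit 4, nat_lit 0, nat_lit 4],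
  [nat_lit 0, nat_lit 3, nat_lit 4, nat_lit 3, nat_lit 4, nat_lit 1, nat_lit 4, nat_lit 3, nat_lit 4, nat_lit 3]]
noncomputable def Pd : List ℕ := [nat_lit 0xb55eb267509f15293d3934215ec830e69bbc73020b24b15b8802a21946dd2b054401b5643cbd4bd34b5c51414c7b70d6a04470d1f1074da45d2714a671b03f82c62d1a4f1a2f1a388ddbf2ec0c9c784d90e1b0b6aa08080,
  nat_lit 0x9e8429d1edc8345f8c40dc5841b8a25cc32b42db4e1c811546078cc55d78dc73976a96a17e9488411e153eecd40288d6ca92fd8b3b3820a486aebac502932a4aa625372d6e5bb12c8be744898c99184a70e1ab4d7a08080,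
  nat_lit 0x1b502bec421d80bd8c74fb6ace94a0e6ea626928b5ae0eb592b7db4a46e98b05d126ad32e049290b265c1954d073cfc5d39270d978d154962385bb267082064b05ee050f23a7b0bd520962ad529c84f8f690d11030080c0,
  nat_lit 0xb57d1188d6e8b4ae36413972596258326d3b02deb51f115b72a9d33e0c78d005d80c96bb0a93a43166073e820c024fde36ac452972940dce861451012beaaa52c5d8350923d49ee118411671b35a39cde607309d94080dc,
  nat_lit 0xb5518577509d93298d2c0c034d62a2e69920040f8e7cb15962aa88994779458532ce21bb7e9260220e854e2c5611290bca9319fc166e2cae861de029a0dabd095620c5b223dbb9422ce0d32b1864c57b6443da1b3c81bcf]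
noncomputable def P (k u : ℕ) : ℕ := Nat.land (Nat.shiftRight (nth (nat_lit 0) Pd k) (Nat.mul u (nat_lit 7))) (nat_lit 127)
noncomputable def T0d : List ℕ := [nat_lit 0x233d7c8a6e29b77d29fb0a6ad83b191e9a9a518e2e34bd04da5101c90731c3ea69293da93a236a6890c208fe33258e699da4d22ba9486a4b36a0ec1a66692d050272aa916a43a6529275096a3c848d6b5926e61a847e98da8ce5a0a8c651ca8b2890a622987a45aa26a05e986967a909a61690f9846692a61290ba862893a85660ca83aa0aa606903a80aa00,
  nat_lit 0x253e9bb3f0813fa6c1ecb050174e171e8c5a6a68c1a6a103838b80ab06ddcbea2f29a45f2223256d6a4da9321ba588a8b3a6762b6a66df4a330cdc4a2b2999a9266aaa918d2fa29a9944e96a3d828ea3992c651c827e511a8d249a90865a0a8b69899e4e895a61ea27a02260c9636818a23a985a87a586a22a984a242a17a85aa12a83ea0ba20a981a80ea00,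
  nat_lit 0x1b3d6c8292c3472b1a9ac12de9aa14acc2d30bc830252a8c33d369a5033194e6c91a3b8cf223650d12c5112699f56ce4a25a7639e469e31ba665da12a99eb1010173da652a44a90aa41a8fea3ea8e953996e298fa636332a8d64904aa6696a8ba9179e3a8099a4aa289a82718a88e985a21e90b9846a1c9e56a1aa60e50aa60aa13a606a0ca822a06a812a00,
  nat_lit 0x1d3d9be3f0413f2b349c312dd74e0f30b4b4ce29a8a50a9a7a6980aba6969a45eaa3bb6af29a3568a62115261baa6754b958d639e7cb08c433169992f1aa4a171ea48486e99444c4b2da901bbda64653478ba713a8da4325cce98c8ec298aa8be792a26271aa02ea29a61a7159a3641ca882817a87e984a23a588a25a983a43e982a842981a826a07a816a00,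
  nat_lit 0xa70d8c8952c33f97360ba56d594ea6a46451b18d41a93cf3637100ad0b31d2e929a634a68e04aa0b29a0a67cfc259265bc969e99ca47a99a20a1dbe01028b9a662996a91c7af94ce43da64e992a8ee990a63ea38a8de8b1a632a32a62aa30a626a2b5222a2a9c1e986a896a24a616a22a88668ba612a1d9c3aa1ba8655179e56a14a846a0da20a903a602a01]
noncomputable def T0 (k u : ℕ) : ℕ := Nat.land (Nat.shiftRight (nth (nat_lit 0) T0d k) (Nat.mul u (nat_lit 14))) (nat_lit 16383)
noncomputable def I0d : List ℕ := [nat_lit 0x1001707601114354001240395401372550116220162534530232121001240450163012321220128,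
  nat_lit 0x20000000000000000200000110000000000010100001010000100010000100000010000111110013,
  nat_lit 0x20000000000020000000020000000011111100000122012000100100201010001011113,
  nat_lit 0x51112141226010010015201480021211100343000132041235406032011302503130022020303337,
  nat_lit 0x62303003010450022000004502040230200100000100110010101010011011001311631110401]
noncomputable def I0 (k u : ℕ) : ℕ := Nat.land (Nat.shiftRight (nth (nat_lit 0) I0d k) (Nat.mul u (nat_lit 4))) (nat_lit 15)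
noncomputable def D0d : ℕ := nat_lit 0xa9c9e33147837db0d568b399aca6431580bc5dad96ab459ac556a44fa79269248a410e86401fcfc7d3e1c8ce6632990c65e2b9509e4e22108803e1b0d0622d1489046221007c3a1c0d06430160a8502411068301007030140800
noncomputable def D0 (u : ℕ) : ℕ := Nat.land (Nat.shiftRight D0d (Nat.mul u (nat_lit 9))) (nat_lit 511)
noncomputable def RL0 : List (List Rule) := [[.rel (nat_lit 0) (nat_lit 0) [nat_lit 1], .rel (nat_lit 10) (nat_lit 2) [nat_lit 0, nat_lit 0], .defn, .rel (nat_lit 12) (nat_lit 2) [nat_lit 3, nat_lit 3, nat_lit 0, nat_lit 2], .rel (nat_lit 10) (nat_lit 1) [nat_lit 0, nat_lit 0], .rel (nat_lit 12) (nat_lit 0) [nat_lit 2, nat_lit 0, nat_lit 3, nat_lit 3], .rel (nat_lit 14) (nat_lit 4) [nat_lit 4, nat_lit 0, nat_lit 4, nat_lit 0, nat_lit 4], .rel (nat_lit 14) (nat_lit 2) [nat_lit 4, nat_lit 0, nat_lit 4, nat_lit 0, nat_lit 4], .sub (nat_lit 0) [] [], .rel (nat_lit 14) (nat_lit 0) [nat_lit 4, nat_lit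 0, nat_lit 4, nat_lit 0, nat_lit 4]],
  [.rel (nat_lit 2) (nat_lit 0) [nat_lit 0], .defn, .rel (nat_lit 16) (nat_lit 5) [nat_lit 4, nat_lit 3, nat_lit 4, nat_lit 3, nat_lit 0, nat_lit 3, nat_lit 4, nat_lit 3, nat_lit 4], .sub (nat_lit 2) [] []],
  [.rel (nat_lit 4) (nat_lit 0) [nat_lit 3], .defn, .rel (nat_lit 12) (nat_lit 1) [nat_lit 0, nat_lit 3, nat_lit 3, nat_lit 0], .sub (nat_lit 4) [] []],
  [.rel (nat_lit 6) (nat_lit 0) [nat_lit 2], .rel (nat_lit 12) (nat_lit 3) [nat_lit 3, nat_lit 0, nat_lit 2, nat_lit 0], .rel (nat_lit 12) (nat_lit 4) [nat_lit 0, nat_lit 2, nat_lit 0, nat_lit 3], .defn, .rel (nat_lit 16) (nat_lit 3) [nat_lit 4, nat_lit 1, nat_lit 4, nat_lit 3, nat_lit 4, nat_lit 3, nat_lit 0, nat_lit 3, nat_lit 4], .rel (nat_lit 16) (nat_lit 7) [nat_lit 4, nat_lit 3, nat_lit 0, nat_lit 3, nat_lit 4, nat_lit 3, nat_lit 4, nat_lit 1, nat_lit 4], .rel (nat_lit 16) (nat_lit 1) [nat_lit 4, nat_lit 3, nat_lit 4,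 nat_lit 1, nat_lit 4, nat_lit 3, nat_lit 4, nat_lit 3, nat_lit 0], .sub (nat_lit 6) [] [], .rel (nat_lit 16) (nat_lit 9) [nat_lit 0, nat_lit 3, nat_lit 4, nat_lit 3, nat_lit 4, nat_lit 1, nat_lit 4, nat_lit 3, nat_lit 4]],
  [.rel (nat_lit 8) (nat_lit 0) [nat_lit 4], .defn, .rel (nat_lit 14) (nat_lit 3) [nat_lit 0, nat_lit 4, nat_lit 0, nat_lit 4, nat_lit 0], .rel (nat_lit 16) (nat_lit 8) [nat_lit 3, nat_lit 0, nat_lit 3, nat_lit 4, nat_lit 3, nat_lit 4, nat_lit 1, nat_lit 4, nat_lit 3], .rel (nat_lit 14) (nat_lit 5) [nat_lit 0, nat_lit 4, nat_lit 0, nat_lit 4, nat_lit 0], .rel (nat_lit 14) (nat_lit 1) [nat_lit 0, nat_lit 4, nat_lit 0, nat_lit 4, nat_lit 0], .rel (nat_lit 16) (nat_lit 2) [nat_lit 3, nat_lit 4, nat_lit 1, nat_lit 4, nat_lit 3, nat_lit 4, nat_lit 3, nat_lit 0, nat_lit 3]]]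
noncomputable def c0 : TCert := ⟨80, 5, 127, T0, I0, D0, [[nat_lit 0],
  [nat_lit 1],
  [nat_lit 2],
  [nat_lit 3]], RL0⟩
noncomputable def Pt0d : ℕ := nat_lit 0x54aea376c9fb92266253404289c8630fa82e2cd3e5d394c13730ed09461ed554262ac09343335ac704b48d528e4c481c6bebca361e9de0aaf88b59a8e0f3ab6210c88579b81
noncomputable def Pt0 (u : ℕ) : ℕ := Nat.land (Nat.shiftRight Pt0d (Nat.mul u (nat_lit 7))) (nat_lit 127)
noncomputable def Q0d : ℕ := nat_lit 0x380212e0a6800e006001e0160b893a0b000d933240bc00400614c57e0da0092e1691962240a0250f0049291002cdd1a800adabc246ce9f98002c37a258c066e632e7634015006a3c2267003e74415060094027333c000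
noncomputable def Q0 (u : ℕ) : ℕ := Nat.land (Nat.shiftRight Q0d (Nat.mul u (nat_lit 7))) (nat_lit 127)
noncomputable def l0 : H16.Lev := ⟨80, 5, D0, Pt0, Q0⟩
noncomputable def T1d : List ℕ := [nat_lit 0x4a9dcad2eb3d9aa513b2d22c94d57d8e959498645178cc4d828581,
  nat_lit 0x2b0d4ef68784c6cd0745c52596432ca6c72ec9e4b1f8dc5486c182,
  nat_lit 0xb68b96553764215eb76a5924d4acb3c72b6224d872160c5e1f0b83,
  nat_lit 0x685aed2ef9a35615656885b2f13b1cb0cf32b1536c38eb06230d84]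
noncomputable def T1 (k u : ℕ) : ℕ := Nat.land (Nat.shiftRight (nth (nat_lit 0) T1d k) (Nat.mul u (nat_lit 9))) (nat_lit 511)
noncomputable def I1d : List ℕ := [nat_lit 0x8c0245308642682442,
  nat_lit 0x249201,
  nat_lit 0x82000002208008249,
  nat_lit 0x2010d8213009042092]
noncomputable def I1 (k u : ℕ) : ℕ := Nat.land (Nat.shiftRight (nth (nat_lit 0) I1d k) (Nat.mul u (nat_lit 3))) (nat_lit 7)
noncomputable def D1d : ℕ := nat_lit 0xdee9a075961655345038d30b287183081000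
noncomputable def D1 (u : ℕ) : ℕ := Nat.land (Nat.shiftRight D1d (Nat.mul u (nat_lit 6))) (nat_lit 63)
noncomputable def RL1 : List (List Rule) := [[.rel (nat_lit 10) (nat_lit 2) [nat_lit 0, nat_lit 0], .rel (nat_lit 0) (nat_lit 0) [nat_lit 1], .defn, .rel (nat_lit 12) (nat_lit 2) [nat_lit 3, nat_lit 3, nat_lit 0, nat_lit 2], .rel (nat_lit 12) (nat_lit 0) [nat_lit 2, nat_lit 0, nat_lit 3, nat_lit 3], .rel (nat_lit 10) (nat_lit 1) [nat_lit 0, nat_lit 0]],
  [.rel (nat_lit 2) (nat_lit 0) [nat_lit 0], .defn],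
  [.rel (nat_lit 4) (nat_lit 0) [nat_lit 3], .defn, .rel (nat_lit 12) (nat_lit 1) [nat_lit 0, nat_lit 3, nat_lit 3, nat_lit 0]],
  [.rel (nat_lit 6) (nat_lit 0) [nat_lit 2], .rel (nat_lit 12) (nat_lit 4) [nat_lit 0, nat_lit 2, nat_lit 0, nat_lit 3], .defn, .rel (nat_lit 12) (nat_lit 3) [nat_lit 3, nat_lit 0, nat_lit 2, nat_lit 0]]]
noncomputable def c1 : TCert := ⟨24, 4, 31, T1, I1, D1, [], RL1⟩
noncomputable def Pt1d : ℕ := nat_lit 0x435f12f3d51c0a256dbc296eaf948d2075e1e9ec88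
noncomputable def Pt1 (u : ℕ) : ℕ := Nat.land (Nat.shiftRight Pt1d (Nat.mul u (nat_lit 7))) (nat_lit 127)
noncomputable def Q1d : ℕ := nat_lit 0x54004900070020b001200000000005800601c000300000000028116800000000a00000000010000002e004c00000000000803c0019400040000000000000
noncomputable def Q1 (u : ℕ) : ℕ := Nat.land (Nat.shiftRight Q1d (Nat.mul u (nat_lit 5))) (nat_lit 31)
noncomputable def l1 : H16.Lev := ⟨24, 4, D1, Pt1, Q1⟩
noncomputable def B : List ℕ := [nat_lit 1, nat_lit 8]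
noncomputable def L : List H16.Lev := [l0, l1]

theorem tc0e_a : allZ2 (entryChk T0 (selR RL0 I0) D0 (nat_lit 127) (nat_lit 80) (nat_lit 5)) (nat_lit 5) (nat_lit 80) = true := by decide +kernel
theorem tc0r : rulesChk Rl c0.Sl RL0 (nat_lit 5) = true := by decide +kernel
theorem ivc : ivChk Rl (nat_lit 5) = true := by decide +kernel
theorem lv0e_0 : allZ (l0.ent P) (nat_lit 0) (nat_lit 79) = true := by decide +kernel
theorem lv0b : Nat.blt (Pt0 (nat_lit 0)) (nat_lit 100) = true ∧ Q0 (Pt0 (nat_lit 0)) = 0 ∧ Pt0 (nat_lit 0) = 1 := by decide +kernel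
theorem sb0 : H16.allL (ltAll (nat_lit 4)) c0.Sl = true ∧ fixLetters P (nat_lit 4) (Pt0 (nat_lit 0)) = true := by decide +kernel
theorem tc1e_a : allZ2 (entryChk T1 (selR RL1 I1) D1 (nat_lit 31) (nat_lit 24) (nat_lit 4)) (nat_lit 4) (nat_lit 24) = true := by decide +kernel
theorem tc1r : rulesChk Rl c1.Sl RL1 (nat_lit 4) = true := by decide +kernel
theorem lv1e_0 : allZ (l1.ent P) (nat_lit 0) (nat_lit 23) = true := by decide +kernel
theorem lv1b : Nat.blt (Pt1 (nat_lit 0)) (nat_lit 100) = true ∧ Q1 (Pt1 (nat_lit 0)) = 0 ∧ Pt1 (nat_lit 0) = 8 := by decide +kernel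
theorem sb1 : H16.allL (ltAll (nat_lit 0)) c1.Sl = true ∧ fixLetters P (nat_lit 0) (Pt1 (nat_lit 0)) = true := by decide +kernel
theorem Blt : ltAll (nat_lit 100) B = 0 := by decide +kernel

theorem tc0e : ∀ k < 5, ∀ i < 80, (entryChk T0 (selR RL0 I0) D0 (nat_lit 127) (nat_lit 80) (nat_lit 5)) k i = 0 := allZ2_sound tc0e_a
theorem tc0 : c0.OK Rl 5 := ⟨by decide, by decide, by decide, ivc, tc0r, tc0e⟩
theorem lv0e : ∀ i < 79, (l0.ent P) i = 0 := allZ_sound0 lv0e_0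
theorem lv0 : l0.OK P 100 := ⟨by decide, by decide, lt_of_blt lv0b.1, lv0b.2.1, lv0e⟩
theorem tc1e : ∀ k < 4, ∀ i < 24, (entryChk T1 (selR RL1 I1) D1 (nat_lit 31) (nat_lit 24) (nat_lit 4)) k i = 0 := allZ2_sound tc1e_a
theorem tc1 : c1.OK Rl 5 := ⟨by decide, by decide, by decide, ivc, tc1r, tc1e⟩
theorem lv1e : ∀ i < 23, (l1.ent P) i = 0 := allZ_sound0 lv1e_0
theorem lv1 : l1.OK P 100 := ⟨by decide, by decide, lt_of_blt lv1b.1, lv1b.2.1, lv1e⟩
theorem bound1 : Bound Rl 4 24 := Bound.step' (Bound.zero Rl) tc1 sb1.1 (by decide +kernel)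
theorem bound0 : Bound Rl 5 1920 := Bound.step' (bound1) tc0 sb0.1 (by decide +kernel)
/-- every tuple satisfying `Rl` generates a group of order at most `1920` -/
theorem bound : Bound Rl 5 1920 := bound0
theorem chain_of {G Ω : Type*} [Group G] [MulAction G Ω] {g : ℕ → G} {pt : ℕ → Ω}
    (h : Act g pt P 100 5) (hR : Rels g Rl) : IsChain g pt 100 L :=
  IsChain.cons (L := [l1]) (IsChain.cons (L := []) (trivial) h hR tc1 lv1 rfl rfl rfl (by decide) sb1.1 sb1.2) h hR tc0 lv0 rfl rfl rfl (by decide) sb0.1 sb0.2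
theorem base_eq : chainBase L = B := by decide +kernel

end H15.XJ2I
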