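import Cfsg.Agent.H16.Slp

/-! Generated by tools/h15/cs.py. -/

set_option maxRecDepth 100000
set_option maxHeartbeats 0
set_option linter.unusedVariables false

namespace H15.XL25

open H16

noncomputable def Rl : List (List ℕ) := [[nat_lit 0, nat_lit 1],
  [nat_lit 1, nat_lit 0],
  [nat_lit 2, nat_lit 3],
  [nat_lit 3, nat_lit 2],
  [nat_lit 4, nat_lit 4],
  [nat_lit 5, nat_lit 5],
  [nat_lit 0, nat_lit 0, nat_lit 2, nat_lit 2],
  [nat_lit 0, nat_lit 2, nat_lit 0, nat_lit 3, nat_lit 0, nat_lit 3],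
  [nat_lit 0, nat_lit 3, nat_lit 4, nat_lit 3, nat_lit 4, nat_lit 0, nat_lit 4],
  [nat_lit 0, nat_lit 0, nat_lit 4, nat_lit 1, nat_lit 2, nat_lit 4, nat_lit 3, nat_lit 4, nat_lit 1, nat_lit 4],
  [nat_lit 4, nat_lit 5, nat_lit 4, nat_lit 5],
  [nat_lit 0, nat_lit 0, nat_lit 0, nat_lit 5, nat_lit 2, nat_lit 4, nat_lit 1, nat_lit 4, nat_lit 5, nat_lit 1, nat_lit 5],
  [nat_lit 0, nat_lit 0, nat_lit 3, nat_lit 5, nat_lit 4, nat_lit 1, nat_lit 2, nat_lit 1, nat_lit 5, nat_lit 0, nat_lit 3, nat_lit 5]]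
noncomputable def Pd : List ℕ := [nat_lit 0x2053b496ca0cfa09491ce517618bbd420,
  nat_lit 0x2661d04f5251981ec523592bc7155b820,
  nat_lit 0x4e90f064aee8244b561db3b42997a820,
  nat_lit 0x9589d8545dc61e12b90a70551afb6420,
  nat_lit 0x460a1cc2a8646d5f45c8f64e2708e6e0,
  nat_lit 0x216661212c9f989c7702aa6722626928b]
noncomputable def P (k u : ℕ) : ℕ := Nat.land (Nat.shiftRight (nth (nat_lit 0) Pd k) (Nat.mul u (nat_lit 5))) (nat_lit 31)
noncomputable def T0d : List ℕ := [nat_lit 0x3163ee0ec240bacf85332a684624c0b82e23c2dc46f4f2ba2aa639532964fc4391b21640,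
  nat_lit 0x139cd4c5215caae26755896a3876c48f6206659bdc822494f185b88af7e50c9788721e40,
  nat_lit 0x2f7e297da160bae08429866ebcf14d47ce095ee06c94263622c0781710e0bc9991f22640,
  nat_lit 0x2f9036be202cca9f339cfb68822abb3731ebe23bc893f2c5f4c452a6f3621bcf92322e40,
  nat_lit 0x15846b16c35f131afc4b1a3122d93a8c3311aee8b151f11492ad595729e51c9b92700e40,
  nat_lit 0x2f85d41e58a078df872645c6add931788da632d2df88ac3e56b52491b2906c9d92b10641]
noncomputable def T0 (k u : ℕ) : ℕ := Nat.land (Nat.shiftRight (nth (nat_lit 0) T0d k) (Nat.mul u (nat_lit 11))) (nat_lit 2047)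
noncomputable def I0d : List ℕ := [nat_lit 0x18433752212934150210001006,
  nat_lit 0x300001000000011012,
  nat_lit 0x12002005221001011210213334,
  nat_lit 0x405000300000001000000112,
  nat_lit 0x3020000043200000461111125,
  nat_lit 0x70003424005020000162301101]
noncomputable def I0 (k u : ℕ) : ℕ := Nat.land (Nat.shiftRight (nth (nat_lit 0) I0d k) (Nat.mul u (nat_lit 4))) (nat_lit 15)
noncomputable def D0d : ℕ := nat_lit 0x24b96cd54244478e19305cb14264480f1c304880e18280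
noncomputable def D0 (u : ℕ) : ℕ := Nat.land (Nat.shiftRight D0d (Nat.mul u (nat_lit 7))) (nat_lit 127)
noncomputable def RL0 : List (List Rule) := [[.defn, .rel (nat_lit 0) (nat_lit 0) [nat_lit 1], .rel (nat_lit 12) (nat_lit 1) [nat_lit 2, nat_lit 2, nat_lit 0], .rel (nat_lit 16) (nat_lit 0) [nat_lit 3, nat_lit 4, nat_lit 3, nat_lit 4, nat_lit 0, nat_lit 4], .rel (nat_lit 12) (nat_lit 0) [nat_lit 0, nat_lit 2, nat_lit 2], .rel (nat_lit 16) (nat_lit 5) [nat_lit 4, nat_lit 0, nat_lit 3, nat_lit 4, nat_lit 3, nat_lit 4], .sub (nat_lit 0) [] [], .rel (nat_lit 14) (nat_lit 0) [nat_lit 2, nat_lit 0, nat_lit 3, nat_lit 0, nat_lit 3], .rel (nat_lit 14) (nat_lit 4) [nat_lit 3, nat_lit 0, nat_lit 2, nat_lit 0, nat_lit 3], .rel (nat_lit 22) (nat_lit 0) [nat_lit 0, nat_lit 0, nat_lit 5, nat_lit 2, nat_lit 4, nat_lit 1, nat_lit 4, nat_lit 5, nat_lit 1, nat_lit 5]],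
  [.rel (nat_lit 2) (nat_lit 0) [nat_lit 0], .defn, .sub (nat_lit 2) [] [], .rel (nat_lit 22) (nat_lit 6) [nat_lit 4, nat_lit 5, nat_lit 1, nat_lit 5, nat_lit 0, nat_lit 0, nat_lit 0, nat_lit 5, nat_lit 2, nat_lit 4]],
  [.rel (nat_lit 12) (nat_lit 2) [nat_lit 2, nat_lit 0, nat_lit 0], .rel (nat_lit 12) (nat_lit 3) [nat_lit 0, nat_lit 0, nat_lit 2], .rel (nat_lit 4) (nat_lit 0) [nat_lit 3], .defn, .sub (nat_lit 4) [] [], .rel (nat_lit 14) (nat_lit 1) [nat_lit 0, nat_lit 3, nat_lit 0, nat_lit 3, nat_lit 0]],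
  [.rel (nat_lit 6) (nat_lit 0) [nat_lit 2], .defn, .sub (nat_lit 6) [] [], .rel (nat_lit 14) (nat_lit 5) [nat_lit 0, nat_lit 2, nat_lit 0, nat_lit 3, nat_lit 0], .rel (nat_lit 16) (nat_lit 1) [nat_lit 4, nat_lit 3, nat_lit 4, nat_lit 0, nat_lit 4, nat_lit 0], .rel (nat_lit 16) (nat_lit 3) [nat_lit 4, nat_lit 0, nat_lit 4, nat_lit 0, nat_lit 3, nat_lit 4]],
  [.rel (nat_lit 8) (nat_lit 0) [nat_lit 4], .defn, .rel (nat_lit 20) (nat_lit 0) [nat_lit 5, nat_lit 4, nat_lit 5], .rel (nat_lit 16) (nat_lit 2) [nat_lit 3, nat_lit 4, nat_lit 0, nat_lit 4, nat_lit 0, nat_lit 3], .rel (nat_lit 16) (nat_lit 4) [nat_lit 0, nat_lit 4, nat_lit 0, nat_lit 3, nat_lit 4, nat_lit 3], .sub (nat_lit 8) [] [], .rel (nat_lit 20) (nat_lit 2) [nat_lit 5, nat_lit 4, nat_lit 5]],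
  [.rel (nat_lit 10) (nat_lit 0) [nat_lit 5], .defn, .rel (nat_lit 22) (nat_lit 8) [nat_lit 1, nat_lit 5, nat_lit 0, nat_lit 0, nat_lit 0, nat_lit 5, nat_lit 2, nat_lit 4, nat_lit 1, nat_lit 4], .rel (nat_lit 20) (nat_lit 3) [nat_lit 4, nat_lit 5, nat_lit 4], .rel (nat_lit 22) (nat_lit 3) [nat_lit 2, nat_lit 4, nat_lit 1, nat_lit 4, nat_lit 5, nat_lit 1, nat_lit 5, nat_lit 0, nat_lit 0, nat_lit 0], .rel (nat_lit 20) (nat_lit 1) [nat_lit 4, nat_lit 5, nat_lit 4], .rel (nat_lit 24) (nat_lit 3) [nat_lit 4, nat_lit 1, nat_lit 2, nat_lit 1, nat_lit 5, nat_lit 0, nat_lit 3, nat_lit 5, nat_lit 0, nat_lit 0, nat_lit 3], .rel (nat_lit 24) (nat_lit 8) [nat_lit 0, nat_lit 3, nat_lit 5, nat_lit 0, nat_lit 0, nat_lit 3, nat_lit 5, nat_lit 4, nat_lit 1, nat_lit 2, nat_lit 1]]]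
noncomputable def c0 : TCert := ⟨26, 6, 31, T0, I0, D0, [[nat_lit 0],
  [nat_lit 1],
  [nat_lit 2],
  [nat_lit 3],
  [nat_lit 4]], RL0⟩
noncomputable def Pt0d : ℕ := nat_lit 0x26e360275228548a19ab6367de4c20d60
noncomputable def Pt0 (u : ℕ) : ℕ := Nat.land (Nat.shiftRight Pt0d (Nat.mul u (nat_lit 5))) (nat_lit 31)
noncomputable def Q0d : ℕ := nat_lit 0x19632171c952d3e1440cdf2a5e0313aa0
noncomputable def Q0 (u : ℕ) : ℕ := Nat.land (Nat.shiftRight Q0d (Nat.mul u (nat_lit 5))) (nat_lit 31)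
noncomputable def l0 : H16.Lev := ⟨26, 6, D0, Pt0, Q0⟩
noncomputable def T1d : List ℕ := [nat_lit 0x1f4adb8be2b89d5f87da155ee130d3f65d4b83d93b3ec7aeeb7ace07a6e8ba0,
  nat_lit 0x38fcce974c1d8e232be1d0ecb786e1784edbb5ed351ecb82d3349eab81e8fa0,
  nat_lit 0x232e3a8cb5cf0ba64d8610fe1b689db13dd754b4782d8f65e076aeafa7e93a0,
  nat_lit 0x1f1bd64dd2f2acb218aa4d43c3b78ca76e0f44b4f4ee0bafd1b81d1fa8e97a0,
  nat_lit 0x530b9955d8b21e09472f86cb417c3f076c44ae0b64bb3b0d8f48d17a9e03a1]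
noncomputable def T1 (k u : ℕ) : ℕ := Nat.land (Nat.shiftRight (nth (nat_lit 0) T1d k) (Nat.mul u (nat_lit 10))) (nat_lit 1023)
noncomputable def I1d : List ℕ := [nat_lit 0x244965e09b468000204,
  nat_lit 0x24820020a,
  nat_lit 0x20840020149140a6dc,
  nat_lit 0x40040004000004004b,
  nat_lit 0x843208a01041098082]
noncomputable def I1 (k u : ℕ) : ℕ := Nat.land (Nat.shiftRight (nth (nat_lit 0) I1d k) (Nat.mul u (nat_lit 3))) (nat_lit 7)
noncomputable def D1d : ℕ := nat_lit 0x4b92e19ae50911a24278c94224070d18284070c14200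
noncomputable def D1 (u : ℕ) : ℕ := Nat.land (Nat.shiftRight D1d (Nat.mul u (nat_lit 7))) (nat_lit 127)
noncomputable def RL1 : List (List Rule) := [[.defn, .rel (nat_lit 0) (nat_lit 0) [nat_lit 1], .rel (nat_lit 12) (nat_lit 0) [nat_lit 0, nat_lit 2, nat_lit 2], .rel (nat_lit 12) (nat_lit 1) [nat_lit 2, nat_lit 2, nat_lit 0], .sub (nat_lit 0) [] [], .rel (nat_lit 16) (nat_lit 0) [nat_lit 3, nat_lit 4, nat_lit 3, nat_lit 4, nat_lit 0, nat_lit 4], .rel (nat_lit 16) (nat_lit 5) [nat_lit 4, nat_lit 0, nat_lit 3, nat_lit 4, nat_lit 3, nat_lit 4]],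
  [.rel (nat_lit 2) (nat_lit 0) [nat_lit 0], .defn, .sub (nat_lit 2) [] []],
  [.rel (nat_lit 12) (nat_lit 2) [nat_lit 2, nat_lit 0, nat_lit 0], .rel (nat_lit 4) (nat_lit 0) [nat_lit 3], .rel (nat_lit 12) (nat_lit 3) [nat_lit 0, nat_lit 0, nat_lit 2], .defn, .sub (nat_lit 4) [] []],
  [.rel (nat_lit 6) (nat_lit 0) [nat_lit 2], .defn, .rel (nat_lit 14) (nat_lit 3) [nat_lit 0, nat_lit 3, nat_lit 0, nat_lit 2, nat_lit 0], .sub (nat_lit 6) [] []],
  [.rel (nat_lit 8) (nat_lit 0) [nat_lit 4], .rel (nat_lit 16) (nat_lit 2) [nat_lit 3, nat_lit 4, nat_lit 0, nat_lit 4, nat_lit 0, nat_lit 3], .defn, .rel (nat_lit 16) (nat_lit 4) [nat_lit 0, nat_lit 4, nat_lit 0, nat_lit 3, nat_lit 4, nat_lit 3], .rel (nat_lit 16) (nat_lit 6) [nat_lit 0, nat_lit 3, nat_lit 4, nat_lit 3, nat_lit 4, nat_lit 0], .rel (nat_lit 18) (nat_lit 2) [nat_lit 1, nat_lit 2, nat_lit 4, nat_lit 3, nat_lit 4, nat_lit 1, nat_lit 4,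 nat_lit 0, nat_lit 0]]]
noncomputable def c1 : TCert := ⟨25, 5, 31, T1, I1, D1, [[nat_lit 0],
  [nat_lit 1],
  [nat_lit 2],
  [nat_lit 3]], RL1⟩
noncomputable def Pt1d : ℕ := nat_lit 0x5cc08c9d1b5c08c87ad2ab3a3219ee1
noncomputable def Pt1 (u : ℕ) : ℕ := Nat.land (Nat.shiftRight Pt1d (Nat.mul u (nat_lit 5))) (nat_lit 31)
noncomputable def Q1d : ℕ := nat_lit 0x2ef09e12990b659a345212c137151b800
noncomputable def Q1 (u : ℕ) : ℕ := Nat.land (Nat.shiftRight Q1d (Nat.mul u (nat_lit 5))) (nat_lit 31)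
noncomputable def l1 : H16.Lev := ⟨25, 5, D1, Pt1, Q1⟩
noncomputable def T2d : List ℕ := [nat_lit 0xccf44ca4982e4885a4689e779d60e90e24842429c66f9b66c9aa4099661,
  nat_lit 0x939f1934d605d1591de9919ec916447ce439d27283e709060a9ae6890262,
  nat_lit 0x1c24d8b8ca555166ac8c15e4589cb463dd18ca7390622892408a26999a63,
  nat_lit 0xbcf25cc8c922097a8575ae159d870644b490a03836419ba059020699e64]
noncomputable def T2 (k u : ℕ) : ℕ := Nat.land (Nat.shiftRight (nth (nat_lit 0) T2d k) (Nat.mul u (nat_lit 10))) (nat_lit 1023)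
noncomputable def I2d : List ℕ := [nat_lit 0xa99dc3790010,
  nat_lit 0x51051,
  nat_lit 0x1048109b61bf,
  nat_lit 0xc0804000405]
noncomputable def I2 (k u : ℕ) : ℕ := Nat.land (Nat.shiftRight (nth (nat_lit 0) I2d k) (Nat.mul u (nat_lit 2))) (nat_lit 3)
noncomputable def D2d : ℕ := nat_lit 0xe37d258a171961751034c2891c6103081000
noncomputable def D2 (u : ℕ) : ℕ := Nat.land (Nat.shiftRight D2d (Nat.mul u (nat_lit 6))) (nat_lit 63)
noncomputable def RL2 : List (List Rule) := [[.defn, .rel (nat_lit 0) (nat_lit 0) [nat_lit 1], .rel (nat_lit 12) (nat_lit 0) [nat_lit 0, nat_lit 2, nat_lit 2], .rel (nat_lit 12) (nat_lit 1) [nat_lit 2, nat_lit 2, nat_lit 0]],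
  [.rel (nat_lit 2) (nat_lit 0) [nat_lit 0], .defn],
  [.rel (nat_lit 12) (nat_lit 2) [nat_lit 2, nat_lit 0, nat_lit 0], .rel (nat_lit 4) (nat_lit 0) [nat_lit 3], .rel (nat_lit 12) (nat_lit 3) [nat_lit 0, nat_lit 0, nat_lit 2], .defn],
  [.rel (nat_lit 6) (nat_lit 0) [nat_lit 2], .defn, .rel (nat_lit 14) (nat_lit 3) [nat_lit 0, nat_lit 3, nat_lit 0, nat_lit 2, nat_lit 0], .rel (nat_lit 14) (nat_lit 5) [nat_lit 0, nat_lit 2, nat_lit 0, nat_lit 3, nat_lit 0]]]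
noncomputable def c2 : TCert := ⟨24, 4, 31, T2, I2, D2, [], RL2⟩
noncomputable def Pt2d : ℕ := nat_lit 0xa4868b5d262bd706ce276609953aa2
noncomputable def Pt2 (u : ℕ) : ℕ := Nat.land (Nat.shiftRight Pt2d (Nat.mul u (nat_lit 5))) (nat_lit 31)
noncomputable def Q2d : ℕ := nat_lit 0x8694c375592c7096768e34441e5a8000
noncomputable def Q2 (u : ℕ) : ℕ := Nat.land (Nat.shiftRight Q2d (Nat.mul u (nat_lit 5))) (nat_lit 31)
noncomputable def l2 : H16.Lev := ⟨24, 4, D2, Pt2, Q2⟩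
noncomputable def B : List ℕ := [nat_lit 0, nat_lit 1, nat_lit 2]
noncomputable def L : List H16.Lev := [l0, l1, l2]

theorem tc0e_a : allZ2 (entryChk T0 (selR RL0 I0) D0 (nat_lit 31) (nat_lit 26) (nat_lit 6)) (nat_lit 6) (nat_lit 26) = true := by decide +kernel
theorem tc0r : rulesChk Rl c0.Sl RL0 (nat_lit 6) = true := by decide +kernel
theorem ivc : ivChk Rl (nat_lit 6) = true := by decide +kernel
theorem lv0e_0 : allZ (l0.ent P) (nat_lit 0) (nat_lit 25) = true := by decide +kernel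
theorem lv0b : Nat.blt (Pt0 (nat_lit 0)) (nat_lit 26) = true ∧ Q0 (Pt0 (nat_lit 0)) = 0 ∧ Pt0 (nat_lit 0) = 0 := by decide +kernel
theorem sb0 : H16.allL (ltAll (nat_lit 5)) c0.Sl = true ∧ fixLetters P (nat_lit 5) (Pt0 (nat_lit 0)) = true := by decide +kernel
theorem tc1e_a : allZ2 (entryChk T1 (selR RL1 I1) D1 (nat_lit 31) (nat_lit 25) (nat_lit 5)) (nat_lit 5) (nat_lit 25) = true := by decide +kernel
theorem tc1r : rulesChk Rl c1.Sl RL1 (nat_lit 5) = true := by decide +kernel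
theorem lv1e_0 : allZ (l1.ent P) (nat_lit 0) (nat_lit 24) = true := by decide +kernel
theorem lv1b : Nat.blt (Pt1 (nat_lit 0)) (nat_lit 26) = true ∧ Q1 (Pt1 (nat_lit 0)) = 0 ∧ Pt1 (nat_lit 0) = 1 := by decide +kernel
theorem sb1 : H16.allL (ltAll (nat_lit 4)) c1.Sl = true ∧ fixLetters P (nat_lit 4) (Pt1 (nat_lit 0)) = true := by decide +kernel
theorem tc2e_a : allZ2 (entryChk T2 (selR RL2 I2) D2 (nat_lit 31) (nat_lit 24) (nat_lit 4)) (nat_lit 4) (nat_lit 24) = true := by decide +kernel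
theorem tc2r : rulesChk Rl c2.Sl RL2 (nat_lit 4) = true := by decide +kernel
theorem lv2e_0 : allZ (l2.ent P) (nat_lit 0) (nat_lit 23) = true := by decide +kernel
theorem lv2b : Nat.blt (Pt2 (nat_lit 0)) (nat_lit 26) = true ∧ Q2 (Pt2 (nat_lit 0)) = 0 ∧ Pt2 (nat_lit 0) = 2 := by decide +kernel
theorem sb2 : H16.allL (ltAll (nat_lit 0)) c2.Sl = true ∧ fixLetters P (nat_lit 0) (Pt2 (nat_lit 0)) = true := by decide +kernel
theorem Blt : ltAll (nat_lit 26) B = 0 := by decide +kernel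
theorem ivk : ivLt Rl (nat_lit 6) = true := by decide +kernel
theorem pe_a : allZ2 (permEnt P (ivOf Rl) (nat_lit 26)) (nat_lit 6) (nat_lit 26) = true := by decide +kernel
theorem rf0 : H16.allL (fixRange P (nat_lit 6) (nat_lit 0) (nat_lit 26)) (Rl.drop (nat_lit 6)) = true := by decide +kernel

theorem tc0e : ∀ k < 6, ∀ i < 26, (entryChk T0 (selR RL0 I0) D0 (nat_lit 31) (nat_lit 26) (nat_lit 6)) k i = 0 := allZ2_sound tc0e_a
theorem tc0 : c0.OK Rl 6 := ⟨by decide, by decide, by decide, ivc, tc0r, tc0e⟩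
theorem lv0e : ∀ i < 25, (l0.ent P) i = 0 := allZ_sound0 lv0e_0
theorem lv0 : l0.OK P 26 := ⟨by decide, by decide, lt_of_blt lv0b.1, lv0b.2.1, lv0e⟩
theorem tc1e : ∀ k < 5, ∀ i < 25, (entryChk T1 (selR RL1 I1) D1 (nat_lit 31) (nat_lit 25) (nat_lit 5)) k i = 0 := allZ2_sound tc1e_a
theorem tc1 : c1.OK Rl 6 := ⟨by decide, by decide, by decide, ivc, tc1r, tc1e⟩
theorem lv1e : ∀ i < 24, (l1.ent P) i = 0 := allZ_sound0 lv1e_0
theorem lv1 : l1.OK P 26 := ⟨by decide, by decide, lt_of_blt lv1b.1, lv1b.2.1, lv1e⟩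
theorem tc2e : ∀ k < 4, ∀ i < 24, (entryChk T2 (selR RL2 I2) D2 (nat_lit 31) (nat_lit 24) (nat_lit 4)) k i = 0 := allZ2_sound tc2e_a
theorem tc2 : c2.OK Rl 6 := ⟨by decide, by decide, by decide, ivc, tc2r, tc2e⟩
theorem lv2e : ∀ i < 23, (l2.ent P) i = 0 := allZ_sound0 lv2e_0
theorem lv2 : l2.OK P 26 := ⟨by decide, by decide, lt_of_blt lv2b.1, lv2b.2.1, lv2e⟩
theorem bound2 : Bound Rl 4 24 := Bound.step' (Bound.zero Rl) tc2 sb2.1 (by decide +kernel)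
theorem bound1 : Bound Rl 5 600 := Bound.step' (bound2) tc1 sb1.1 (by decide +kernel)
theorem bound0 : Bound Rl 6 15600 := Bound.step' (bound1) tc0 sb0.1 (by decide +kernel)
/-- every tuple satisfying `Rl` generates a group of order at most `15600` -/
theorem bound : Bound Rl 6 15600 := bound0
theorem chain_of {G Ω : Type*} [Group G] [MulAction G Ω] {g : ℕ → G} {pt : ℕ → Ω}
    (h : Act g pt P 26 6) (hR : Rels g Rl) : IsChain g pt 26 L :=
  IsChain.cons (L := [l1, l2]) (IsChain.cons (L := [l2]) (IsChain.cons (L := []) (trivial) h hR tc2 lv2 rfl rfl rfl (by decide) sb2.1 sb2.2) h hR tc1 lv1 rfl rfl rfl (by decide) sb1.1 sb1.2) h hR tc0 lv0 rfl rfl rfl (by decide) sb0.1 sb0.2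
theorem base_eq : chainBase L = B := by decide +kernel
theorem pe : ∀ k < 6, ∀ i < 26, (permEnt P (ivOf Rl) (nat_lit 26)) k i = 0 := allZ2_sound pe_a
/-- the letters -/
noncomputable def g : ℕ → Equiv.Perm (Fin 26) := permGen 26 P
theorem act : Act g (ptF 26) P 26 6 := act_permGen pe
theorem rels : Rels g Rl :=
  rels_perm pe ivc ivk (FixUpTo.first rf0)
theorem chain : IsChain g (ptF 26) 26 L := chain_of act rels
theorem card : Nat.card (gen g 6) = 15600 := chain.card' (ptF_inj 26) (by decide +kernel)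
theorem isBase : IsBase (gen g 6) (ptF 26) B := base_eq ▸ chain.isBase (ptF_inj 26)

end H15.XL25
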