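import Cfsg.Agent.H16.Slp
import Cfsg.Agent.H15.MM

/-! Generated by tools/h15/cs.py. -/

set_option maxRecDepth 100000
set_option maxHeartbeats 0
set_option linter.unusedVariables false

namespace H15.XO6m

open H16

noncomputable def Rl : List (List ℕ) := [[nat_lit 0, nat_lit 0],
  [nat_lit 1, nat_lit 1],
  [nat_lit 2, nat_lit 2],
  [nat_lit 3, nat_lit 3],
  [nat_lit 4, nat_lit 4],
  [nat_lit 0, nat_lit 1, nat_lit 0, nat_lit 1, nat_lit 0, nat_lit 1, nat_lit 0, nat_lit 1],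
  [nat_lit 1, nat_lit 2, nat_lit 1, nat_lit 2, nat_lit 1, nat_lit 2],
  [nat_lit 0, nat_lit 2, nat_lit 0, nat_lit 2, nat_lit 0, nat_lit 2, nat_lit 0, nat_lit 2],
  [nat_lit 0, nat_lit 1, nat_lit 0, nat_lit 2, nat_lit 0, nat_lit 1, nat_lit 0, nat_lit 2],
  [nat_lit 1, nat_lit 3, nat_lit 1, nat_lit 3],
  [nat_lit 0, nat_lit 3, nat_lit 0, nat_lit 3],
  [nat_lit 2, nat_lit 3, nat_lit 2, nat_lit 3, nat_lit 2, nat_lit 3],
  [nat_lit 0, nat_lit 4, nat_lit 0, nat_lit 4],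
  [nat_lit 0, nat_lit 1, nat_lit 0, nat_lit 1, nat_lit 4, nat_lit 2, nat_lit 1, nat_lit 4, nat_lit 2, nat_lit 4, nat_lit 1, nat_lit 2],
  [nat_lit 2, nat_lit 3, nat_lit 2, nat_lit 4, nat_lit 2, nat_lit 3, nat_lit 4, nat_lit 2, nat_lit 4]]
noncomputable def Pd : List ℕ := [nat_lit 0xbeeb6caeaa689e69648e2860ffef7cefae78df6d74cf2c707de75c6da6585d65544d24503ce34c2ca2481c61440c2040,
  nat_lit 0xfc4a9107a52f6a13f491fc4ae03b561bd4e87662338d8d8dc899dc3376625ec0b9a52f07d4e81b2f07a542b17eb95ec0,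
  nat_lit 0x8895fc327e52ddc0a9672b07bc46b106ad1fe913e453f84aa037761adcd8f562234f898d94e43b2e0f95c1b16e7b5ac0,
  nat_lit 0xa2baa9badb2fd76df4cf0c72e3beb9fbdf3f9669e48e086228920b30f38d5d45564524d069961b71f79d1c41460420c0,
  nat_lit 0xa27f72d7a82fba1ef4cfc9a9e37b6296ac3ffb1ae48ecdb945e10b3036565d808d2857d004e51b7132461c849d6953c0]
noncomputable def P (k u : ℕ) : ℕ := Nat.land (Nat.shiftRight (nth (nat_lit 0) Pd k) (Nat.mul u (nat_lit 6))) (nat_lit 63)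
noncomputable def T0d : List ℕ := [nat_lit 0x630a211f6a00e17da6dd2d751b81e5194d829c7cf5535545155525cc5108166ce5cb59158d64770970860a6c47456867c2803781800,
  nat_lit 0x4634a27de46011f82149d7d615535a7d22d149781c19b7cd38e8193187ca4cf3d381430978881034c74b7c56068077c2643804681800,
  nat_lit 0x3e37e18223607db4de7d645c81f7d371429851181d5d56d981a7cb4d75d07c940e7c85cc8127c680f80d50780a7c36c48057c1802800,
  nat_lit 0x7e28234217dd19f45e82035c1d849a59921b4973965916d050c5525557143cf44974a4d37c778d48e7c580b7c3808702806744681800,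
  nat_lit 0x230620a11dd15f41e1a02567d445a2597d07cf21c7cd81b7cb4527ca8188177c88157c78138117c580e80c6438097826067447c0801]
noncomputable def T0 (k u : ℕ) : ℕ := Nat.land (Nat.shiftRight (nth (nat_lit 0) T0d k) (Nat.mul u (nat_lit 12))) (nat_lit 4095)
noncomputable def I0d : List ℕ := [nat_lit 0x29620046135100180a12312005120b4003c7,
  nat_lit 0x320321500200416001804410613003105127,
  nat_lit 0x30130702102641a010020908101131041015,
  nat_lit 0x12065120334854052023000064010101437,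
  nat_lit 0x654224030260000102011010110113150001]
noncomputable def I0 (k u : ℕ) : ℕ := Nat.land (Nat.shiftRight (nth (nat_lit 0) I0d k) (Nat.mul u (nat_lit 4))) (nat_lit 15)
noncomputable def D0d : ℕ := nat_lit 0xada797948982706f68615b544f4b45423b3936332f2c2a2726201d1c1a12110b0a070400
noncomputable def D0 (u : ℕ) : ℕ := Nat.land (Nat.shiftRight D0d (Nat.mul u (nat_lit 8))) (nat_lit 255)
noncomputable def RL0 : List (List Rule) := [[.rel (nat_lit 0) (nat_lit 0) [nat_lit 0], .rel (nat_lit 24) (nat_lit 2) [nat_lit 4, nat_lit 0, nat_lit 4], .rel (nat_lit 20) (nat_lit 2) [nat_lit 3, nat_lit 0, nat_lit 3], .defn, .rel (nat_lit 14) (nat_lit 4) [nat_lit 2, nat_lit 0, nat_lit 2, nat_lit 0, nat_lit 2, nat_lit 0, nat_lit 2], .rel (nat_lit 16) (nat_lit 4) [nat_lit 1, nat_lit 0, nat_lit 2, nat_lit 0, nat_lit 1, nat_lit 0, nat_lit 2], .rel (nat_lit 16) (nat_lit 6) [nat_lit 2, nat_lit 0, nat_lit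 1, nat_lit 0, nat_lit 2, nat_lit 0, nat_lit 1], .sub (nat_lit 0) [] [], .rel (nat_lit 10) (nat_lit 2) [nat_lit 1, nat_lit 0, nat_lit 1, nat_lit 0, nat_lit 1, nat_lit 0, nat_lit 1], .rel (nat_lit 14) (nat_lit 2) [nat_lit 2, nat_lit 0, nat_lit 2, nat_lit 0, nat_lit 2, nat_lit 0, nat_lit 2], .rel (nat_lit 14) (nat_lit 6) [nat_lit 2, nat_lit 0, nat_lit 2, nat_lit 0, nat_lit 2, nat_lit 0, nat_lit 2], .rel (nat_lit 20) (nat_lit 0) [nat_lit 3, nat_lit 0, nat_lit 3], .rel (nat_lit 24) (nat_lit 0) [nat_lit 4, nat_lit 0, nat_lit 4]],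
  [.rel (nat_lit 2) (nat_lit 0) [nat_lit 1], .defn, .rel (nat_lit 12) (nat_lit 4) [nat_lit 2, nat_lit 1, nat_lit 2, nat_lit 1, nat_lit 2], .rel (nat_lit 18) (nat_lit 2) [nat_lit 3, nat_lit 1, nat_lit 3], .rel (nat_lit 26) (nat_lit 6) [nat_lit 4, nat_lit 2, nat_lit 4, nat_lit 1, nat_lit 2, nat_lit 0, nat_lit 1, nat_lit 0, nat_lit 1, nat_lit 4, nat_lit 2], .rel (nat_lit 16) (nat_lit 5) [nat_lit 0, nat_lit 2, nat_lit 0, nat_lit 1, nat_lit 0, nat_lit 2, nat_lit 0], .rel (nat_lit 18) (nat_lit 0) [nat_lit 3, nat_lit 1, nat_lit 3], .sub (nat_lit 2) [] [], .rel (nat_lit 26) (nat_lit 3) [nat_lit 4, nat_lit 2, nat_lit 1, nat_lit 4, nat_lit 2, nat_lit 4, nat_lit 1, nat_lit 2, nat_lit 0, nat_lit 1, nat_lit 0]],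
  [.rel (nat_lit 4) (nat_lit 0) [nat_lit 2], .defn, .rel (nat_lit 12) (nat_lit 3) [nat_lit 1, nat_lit 2, nat_lit 1, nat_lit 2, nat_lit 1], .rel (nat_lit 22) (nat_lit 4) [nat_lit 3, nat_lit 2, nat_lit 3, nat_lit 2, nat_lit 3], .rel (nat_lit 28) (nat_lit 0) [nat_lit 3, nat_lit 2, nat_lit 4, nat_lit 2, nat_lit 3, nat_lit 4, nat_lit 2, nat_lit 4], .sub (nat_lit 4) [] [], .rel (nat_lit 12) (nat_lit 5) [nat_lit 1, nat_lit 2, nat_lit 1, nat_lit 2, nat_lit 1], .rel (nat_lit 14) (nat_lit 5) [nat_lit 0, nat_lit 2, nat_lit 0, nat_lit 2, nat_lit 0, nat_lit 2, nat_lit 0], .rel (nat_lit 26) (nat_lit 8) [nat_lit 4, nat_lit 1, nat_lit 2, nat_lit 0, nat_lit 1, nat_lit 0, nat_lit 1, nat_lit 4, nat_lit 2, nat_lit 1, nat_lit 4], .rel (nat_lit 28) (nat_lit 4) [nat_lit 3, nat_lit 4, nat_lit 2, nat_lit 4, nat_lit 2, nat_lit 3, nat_lit 2, nat_lit 4], .rel (nat_lit 28) (nat_lit 7) [nat_lit 4, nat_lit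 2, nat_lit 3, nat_lit 2, nat_lit 4, nat_lit 2, nat_lit 3, nat_lit 4]],
  [.rel (nat_lit 6) (nat_lit 0) [nat_lit 3], .defn, .rel (nat_lit 18) (nat_lit 3) [nat_lit 1, nat_lit 3, nat_lit 1], .rel (nat_lit 22) (nat_lit 3) [nat_lit 2, nat_lit 3, nat_lit 2, nat_lit 3, nat_lit 2], .rel (nat_lit 28) (nat_lit 5) [nat_lit 4, nat_lit 2, nat_lit 4, nat_lit 2, nat_lit 3, nat_lit 2, nat_lit 4, nat_lit 2], .rel (nat_lit 20) (nat_lit 3) [nat_lit 0, nat_lit 3, nat_lit 0], .rel (nat_lit 22) (nat_lit 5) [nat_lit 2, nat_lit 3, nat_lit 2, nat_lit 3, nat_lit 2], .sub (nat_lit 6) [] [], .rel (nat_lit 22) (nat_lit 1) [nat_lit 2, nat_lit 3, nat_lit 2, nat_lit 3, nat_lit 2]],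
  [.rel (nat_lit 8) (nat_lit 0) [nat_lit 4], .defn, .rel (nat_lit 28) (nat_lit 6) [nat_lit 2, nat_lit 4, nat_lit 2, nat_lit 3, nat_lit 2, nat_lit 4, nat_lit 2, nat_lit 3], .rel (nat_lit 24) (nat_lit 1) [nat_lit 0, nat_lit 4, nat_lit 0], .rel (nat_lit 24) (nat_lit 3) [nat_lit 0, nat_lit 4, nat_lit 0], .rel (nat_lit 26) (nat_lit 7) [nat_lit 2, nat_lit 4, nat_lit 1, nat_lit 2, nat_lit 0, nat_lit 1, nat_lit 0, nat_lit 1, nat_lit 4, nat_lit 2, nat_lit 1], .rel (nat_lit 28) (nat_lit 3) [nat_lit 2, nat_lit 3, nat_lit 4, nat_lit 2, nat_lit 4, nat_lit 2, nat_lit 3, nat_lit 2]]]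
noncomputable def c0 : TCert := ⟨36, 5, 63, T0, I0, D0, [[nat_lit 0],
  [nat_lit 1],
  [nat_lit 2],
  [nat_lit 3]], RL0⟩
noncomputable def Pt0d : ℕ := nat_lit 0x399ccb8e4721534416c76e4da47b1899383cc2244acbf7efa38485
noncomputable def Pt0 (u : ℕ) : ℕ := Nat.land (Nat.shiftRight Pt0d (Nat.mul u (nat_lit 6))) (nat_lit 63)
noncomputable def Q0d : ℕ := nat_lit 0x18000c00054201601a8475cb1000110004c300f01e7ca70d14001d00089001801b381259023500808000480000000000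
noncomputable def Q0 (u : ℕ) : ℕ := Nat.land (Nat.shiftRight Q0d (Nat.mul u (nat_lit 6))) (nat_lit 63)
noncomputable def l0 : H16.Lev := ⟨36, 5, D0, Pt0, Q0⟩
noncomputable def T1d : List ℕ := [nat_lit 0x98c8a071b6a3b1eca35ab20f0874d924b86b160e8380,
  nat_lit 0x299caded0c8d31db2eb4d23172ab2c1b0f6291e128380,
  nat_lit 0x49dc7256e47e42d4ec75e36cd0883e26c724c2d870580,
  nat_lit 0xb964d62d067daddb69c759f1965c541b112491d0ac181]
noncomputable def T1 (k u : ℕ) : ℕ := Nat.land (Nat.shiftRight (nth (nat_lit 0) T1d k) (Nat.mul u (nat_lit 9))) (nat_lit 511)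
noncomputable def I1d : List ℕ := [nat_lit 0x16080421107100520293,
  nat_lit 0x72021320031005106134,
  nat_lit 0x30105103210321021014,
  nat_lit 0x1342040101012132501]
noncomputable def I1 (k u : ℕ) : ℕ := Nat.land (Nat.shiftRight (nth (nat_lit 0) I1d k) (Nat.mul u (nat_lit 4))) (nat_lit 15)
noncomputable def D1d : ℕ := nat_lit 0x9719eba68bd5274a7cd172a407091018180
noncomputable def D1 (u : ℕ) : ℕ := Nat.land (Nat.shiftRight D1d (Nat.mul u (nat_lit 7))) (nat_lit 127)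
noncomputable def RL1 : List (List Rule) := [[.rel (nat_lit 0) (nat_lit 0) [nat_lit 0], .rel (nat_lit 20) (nat_lit 2) [nat_lit 3, nat_lit 0, nat_lit 3], .defn, .sub (nat_lit 0) [] [], .rel (nat_lit 10) (nat_lit 2) [nat_lit 1, nat_lit 0, nat_lit 1, nat_lit 0, nat_lit 1, nat_lit 0, nat_lit 1], .rel (nat_lit 14) (nat_lit 4) [nat_lit 2, nat_lit 0, nat_lit 2, nat_lit 0, nat_lit 2, nat_lit 0, nat_lit 2], .rel (nat_lit 14) (nat_lit 6) [nat_lit 2, nat_lit 0, nat_lit 2, nat_lit 0, nat_lit 2, nat_lit 0, nat_lit 2], .rel (nat_lit 16) (nat_lit 0) [nat_lit 1, nat_lit 0, nat_lit 2, nat_lit 0, nat_lit 1, nat_lit 0, nat_lit 2], .rel (nat_lit 16) (nat_lit 4) [nat_lit 1, nat_lit 0, nat_lit 2, nat_lit 0, nat_lit 1, nat_lit 0, nat_lit 2], .rel (nat_lit 20) (nat_lit 0) [nat_lit 3, nat_lit 0, nat_lit 3]],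
  [.rel (nat_lit 2) (nat_lit 0) [nat_lit 1], .defn, .rel (nat_lit 12) (nat_lit 4) [nat_lit 2, nat_lit 1, nat_lit 2, nat_lit 1, nat_lit 2], .rel (nat_lit 18) (nat_lit 0) [nat_lit 3, nat_lit 1, nat_lit 3], .sub (nat_lit 2) [] [], .rel (nat_lit 10) (nat_lit 5) [nat_lit 0, nat_lit 1, nat_lit 0, nat_lit 1, nat_lit 0, nat_lit 1, nat_lit 0], .rel (nat_lit 16) (nat_lit 5) [nat_lit 0, nat_lit 2, nat_lit 0, nat_lit 1, nat_lit 0, nat_lit 2, nat_lit 0], .rel (nat_lit 18) (nat_lit 2) [nat_lit 3, nat_lit 1, nat_lit 3]],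
  [.rel (nat_lit 4) (nat_lit 0) [nat_lit 2], .defn, .rel (nat_lit 12) (nat_lit 3) [nat_lit 1, nat_lit 2, nat_lit 1, nat_lit 2, nat_lit 1], .rel (nat_lit 22) (nat_lit 4) [nat_lit 3, nat_lit 2, nat_lit 3, nat_lit 2, nat_lit 3], .sub (nat_lit 4) [] [], .rel (nat_lit 14) (nat_lit 5) [nat_lit 0, nat_lit 2, nat_lit 0, nat_lit 2, nat_lit 0, nat_lit 2, nat_lit 0]],
  [.rel (nat_lit 6) (nat_lit 0) [nat_lit 3], .defn, .rel (nat_lit 20) (nat_lit 3) [nat_lit 0, nat_lit 3, nat_lit 0], .rel (nat_lit 18) (nat_lit 3) [nat_lit 1, nat_lit 3, nat_lit 1], .rel (nat_lit 22) (nat_lit 3) [nat_lit 2, nat_lit 3, nat_lit 2, nat_lit 3, nat_lit 2], .rel (nat_lit 22) (nat_lit 5) [nat_lit 2, nat_lit 3, nat_lit 2, nat_lit 3, nat_lit 2]]]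
noncomputable def c1 : TCert := ⟨20, 4, 31, T1, I1, D1, [[nat_lit 0],
  [nat_lit 1],
  [nat_lit 2]], RL1⟩
noncomputable def Pt1d : ℕ := nat_lit 0x399ce3914d395a9b13f314619b670b
noncomputable def Pt1 (u : ℕ) : ℕ := Nat.land (Nat.shiftRight Pt1d (Nat.mul u (nat_lit 6))) (nat_lit 63)
noncomputable def Q1d : ℕ := nat_lit 0x7001800080d880c0000090014000c0f80080000010024002c0e400a004c00000000000000000
noncomputable def Q1 (u : ℕ) : ℕ := Nat.land (Nat.shiftRight Q1d (Nat.mul u (nat_lit 5))) (nat_lit 31)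
noncomputable def l1 : H16.Lev := ⟨20, 4, D1, Pt1, Q1⟩
noncomputable def T2d : List ℕ := [nat_lit 0x84c5e1b4ab06950,
  nat_lit 0x47b1112d682ca9d0,
  nat_lit 0x188a9abc26752051]
noncomputable def T2 (k u : ℕ) : ℕ := Nat.land (Nat.shiftRight (nth (nat_lit 0) T2d k) (Nat.mul u (nat_lit 7))) (nat_lit 127)
noncomputable def I2d : List ℕ := [nat_lit 0x3a0420a,
  nat_lit 0x21910a,
  nat_lit 0x2088641]
noncomputable def I2 (k u : ℕ) : ℕ := Nat.land (Nat.shiftRight (nth (nat_lit 0) I2d k) (Nat.mul u (nat_lit 3))) (nat_lit 7)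
noncomputable def D2d : ℕ := nat_lit 0x168b52820c40
noncomputable def D2 (u : ℕ) : ℕ := Nat.land (Nat.shiftRight D2d (Nat.mul u (nat_lit 5))) (nat_lit 31)
noncomputable def RL2 : List (List Rule) := [[.rel (nat_lit 0) (nat_lit 0) [nat_lit 0], .defn, .sub (nat_lit 0) [] [], .rel (nat_lit 10) (nat_lit 2) [nat_lit 1, nat_lit 0, nat_lit 1, nat_lit 0, nat_lit 1, nat_lit 0, nat_lit 1], .rel (nat_lit 14) (nat_lit 0) [nat_lit 2, nat_lit 0, nat_lit 2, nat_lit 0, nat_lit 2, nat_lit 0, nat_lit 2], .rel (nat_lit 16) (nat_lit 0) [nat_lit 1, nat_lit 0, nat_lit 2, nat_lit 0, nat_lit 1, nat_lit 0, nat_lit 2]],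
  [.rel (nat_lit 2) (nat_lit 0) [nat_lit 1], .defn, .sub (nat_lit 2) [] [], .rel (nat_lit 10) (nat_lit 5) [nat_lit 0, nat_lit 1, nat_lit 0, nat_lit 1, nat_lit 0, nat_lit 1, nat_lit 0], .rel (nat_lit 16) (nat_lit 1) [nat_lit 0, nat_lit 2, nat_lit 0, nat_lit 1, nat_lit 0, nat_lit 2, nat_lit 0]],
  [.rel (nat_lit 4) (nat_lit 0) [nat_lit 2], .defn, .rel (nat_lit 12) (nat_lit 3) [nat_lit 1, nat_lit 2, nat_lit 1, nat_lit 2, nat_lit 1], .rel (nat_lit 12) (nat_lit 5) [nat_lit 1, nat_lit 2, nat_lit 1, nat_lit 2, nat_lit 1]]]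
noncomputable def c2 : TCert := ⟨9, 3, 15, T2, I2, D2, [[nat_lit 0],
  [nat_lit 1]], RL2⟩
noncomputable def Pt2d : ℕ := nat_lit 0x1d9f7e9aaadf57
noncomputable def Pt2 (u : ℕ) : ℕ := Nat.land (Nat.shiftRight Pt2d (Nat.mul u (nat_lit 6))) (nat_lit 63)
noncomputable def Q2d : ℕ := nat_lit 0x10050060000000002003007000000000800400000000000000000000000000
noncomputable def Q2 (u : ℕ) : ℕ := Nat.land (Nat.shiftRight Q2d (Nat.mul u (nat_lit 4))) (nat_lit 15)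
noncomputable def l2 : H16.Lev := ⟨9, 3, D2, Pt2, Q2⟩
noncomputable def T3d : List ℕ := [nat_lit 0x35a8,
  nat_lit 0x6b49]
noncomputable def T3 (k u : ℕ) : ℕ := Nat.land (Nat.shiftRight (nth (nat_lit 0) T3d k) (Nat.mul u (nat_lit 4))) (nat_lit 15)
noncomputable def I3d : List ℕ := [nat_lit 0xc9,
  nat_lit 0x11]
noncomputable def I3 (k u : ℕ) : ℕ := Nat.land (Nat.shiftRight (nth (nat_lit 0) I3d k) (Nat.mul u (nat_lit 2))) (nat_lit 3)
noncomputable def D3d : ℕ := nat_lit 0xa88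
noncomputable def D3 (u : ℕ) : ℕ := Nat.land (Nat.shiftRight D3d (Nat.mul u (nat_lit 3))) (nat_lit 7)
noncomputable def RL3 : List (List Rule) := [[.rel (nat_lit 0) (nat_lit 0) [nat_lit 0], .sub (nat_lit 0) [] [], .defn, .rel (nat_lit 10) (nat_lit 0) [nat_lit 1, nat_lit 0, nat_lit 1, nat_lit 0, nat_lit 1, nat_lit 0, nat_lit 1]],
  [.rel (nat_lit 2) (nat_lit 0) [nat_lit 1], .defn]]
noncomputable def c3 : TCert := ⟨4, 2, 3, T3, I3, D3, [[nat_lit 0]], RL3⟩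
noncomputable def Pt3d : ℕ := nat_lit 0x1abec1
noncomputable def Pt3 (u : ℕ) : ℕ := Nat.land (Nat.shiftRight Pt3d (Nat.mul u (nat_lit 6))) (nat_lit 63)
noncomputable def Q3d : ℕ := nat_lit 0x400000008000000000000000003000
noncomputable def Q3 (u : ℕ) : ℕ := Nat.land (Nat.shiftRight Q3d (Nat.mul u (nat_lit 2))) (nat_lit 3)
noncomputable def l3 : H16.Lev := ⟨4, 2, D3, Pt3, Q3⟩
noncomputable def T4d : List ℕ := [nat_lit 3]
noncomputable def T4 (k u : ℕ) : ℕ := Nat.land (Nat.shiftRight (nth (nat_lit 0) T4d k) (Nat.mul u (nat_lit 2))) (nat_lit 3)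
noncomputable def I4d : List ℕ := [nat_lit 1]
noncomputable def I4 (k u : ℕ) : ℕ := Nat.land (Nat.shiftRight (nth (nat_lit 0) I4d k) (Nat.mul u (nat_lit 1))) (nat_lit 1)
noncomputable def D4d : ℕ := nat_lit 0
noncomputable def D4 (u : ℕ) : ℕ := Nat.land (Nat.shiftRight D4d (Nat.mul u (nat_lit 1))) (nat_lit 1)
noncomputable def RL4 : List (List Rule) := [[.rel (nat_lit 0) (nat_lit 0) [nat_lit 0], .defn]]
noncomputable def c4 : TCert := ⟨2, 1, 1, T4, I4, D4, [], RL4⟩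
noncomputable def Pt4d : ℕ := nat_lit 0xc20
noncomputable def Pt4 (u : ℕ) : ℕ := Nat.land (Nat.shiftRight Pt4d (Nat.mul u (nat_lit 6))) (nat_lit 63)
noncomputable def Q4d : ℕ := nat_lit 0x1000000000000
noncomputable def Q4 (u : ℕ) : ℕ := Nat.land (Nat.shiftRight Q4d (Nat.mul u (nat_lit 1))) (nat_lit 1)
noncomputable def l4 : H16.Lev := ⟨2, 1, D4, Pt4, Q4⟩
noncomputable def B : List ℕ := [nat_lit 5, nat_lit 11, nat_lit 23, nat_lit 1, nat_lit 32]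
noncomputable def L : List H16.Lev := [l0, l1, l2, l3, l4]

theorem tc0e_a : allZ2 (entryChk T0 (selR RL0 I0) D0 (nat_lit 63) (nat_lit 36) (nat_lit 5)) (nat_lit 5) (nat_lit 36) = true := by decide +kernel
theorem tc0r : rulesChk Rl c0.Sl RL0 (nat_lit 5) = true := by decide +kernel
theorem ivc : ivChk Rl (nat_lit 5) = true := by decide +kernel
theorem lv0e_0 : allZ (l0.ent P) (nat_lit 0) (nat_lit 35) = true := by decide +kernel
theorem lv0b : Nat.blt (Pt0 (nat_lit 0)) (nat_lit 64) = true ∧ Q0 (Pt0 (nat_lit 0)) = 0 ∧ Pt0 (nat_lit 0) = 5 := by decide +kernel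
theorem sb0 : H16.allL (ltAll (nat_lit 4)) c0.Sl = true ∧ fixLetters P (nat_lit 4) (Pt0 (nat_lit 0)) = true := by decide +kernel
theorem tc1e_a : allZ2 (entryChk T1 (selR RL1 I1) D1 (nat_lit 31) (nat_lit 20) (nat_lit 4)) (nat_lit 4) (nat_lit 20) = true := by decide +kernel
theorem tc1r : rulesChk Rl c1.Sl RL1 (nat_lit 4) = true := by decide +kernel
theorem lv1e_0 : allZ (l1.ent P) (nat_lit 0) (nat_lit 19) = true := by decide +kernel
theorem lv1b : Nat.blt (Pt1 (nat_lit 0)) (nat_lit 64) = true ∧ Q1 (Pt1 (nat_lit 0)) = 0 ∧ Pt1 (nat_lit 0) = 11 := by decide +kernel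
theorem sb1 : H16.allL (ltAll (nat_lit 3)) c1.Sl = true ∧ fixLetters P (nat_lit 3) (Pt1 (nat_lit 0)) = true := by decide +kernel
theorem tc2e_a : allZ2 (entryChk T2 (selR RL2 I2) D2 (nat_lit 15) (nat_lit 9) (nat_lit 3)) (nat_lit 3) (nat_lit 9) = true := by decide +kernel
theorem tc2r : rulesChk Rl c2.Sl RL2 (nat_lit 3) = true := by decide +kernel
theorem lv2e_0 : allZ (l2.ent P) (nat_lit 0) (nat_lit 8) = true := by decide +kernel
theorem lv2b : Nat.blt (Pt2 (nat_lit 0)) (nat_lit 64) = true ∧ Q2 (Pt2 (nat_lit 0)) = 0 ∧ Pt2 (nat_lit 0) = 23 := by decide +kernel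
theorem sb2 : H16.allL (ltAll (nat_lit 2)) c2.Sl = true ∧ fixLetters P (nat_lit 2) (Pt2 (nat_lit 0)) = true := by decide +kernel
theorem tc3e_a : allZ2 (entryChk T3 (selR RL3 I3) D3 (nat_lit 3) (nat_lit 4) (nat_lit 2)) (nat_lit 2) (nat_lit 4) = true := by decide +kernel
theorem tc3r : rulesChk Rl c3.Sl RL3 (nat_lit 2) = true := by decide +kernel
theorem lv3e_0 : allZ (l3.ent P) (nat_lit 0) (nat_lit 3) = true := by decide +kernel
theorem lv3b : Nat.blt (Pt3 (nat_lit 0)) (nat_lit 64) = true ∧ Q3 (Pt3 (nat_lit 0)) = 0 ∧ Pt3 (nat_lit 0) = 1 := by decide +kernel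
theorem sb3 : H16.allL (ltAll (nat_lit 1)) c3.Sl = true ∧ fixLetters P (nat_lit 1) (Pt3 (nat_lit 0)) = true := by decide +kernel
theorem tc4e_a : allZ2 (entryChk T4 (selR RL4 I4) D4 (nat_lit 1) (nat_lit 2) (nat_lit 1)) (nat_lit 1) (nat_lit 2) = true := by decide +kernel
theorem tc4r : rulesChk Rl c4.Sl RL4 (nat_lit 1) = true := by decide +kernel
theorem lv4e_0 : allZ (l4.ent P) (nat_lit 0) (nat_lit 1) = true := by decide +kernel
theorem lv4b : Nat.blt (Pt4 (nat_lit 0)) (nat_lit 64) = true ∧ Q4 (Pt4 (nat_lit 0)) = 0 ∧ Pt4 (nat_lit 0) = 32 := by decide +kernel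
theorem sb4 : H16.allL (ltAll (nat_lit 0)) c4.Sl = true ∧ fixLetters P (nat_lit 0) (Pt4 (nat_lit 0)) = true := by decide +kernel
theorem Blt : ltAll (nat_lit 64) B = 0 := by decide +kernel

theorem tc0e : ∀ k < 5, ∀ i < 36, (entryChk T0 (selR RL0 I0) D0 (nat_lit 63) (nat_lit 36) (nat_lit 5)) k i = 0 := allZ2_sound tc0e_a
theorem tc0 : c0.OK Rl 5 := ⟨by decide, by decide, by decide, ivc, tc0r, tc0e⟩
theorem lv0e : ∀ i < 35, (l0.ent P) i = 0 := allZ_sound0 lv0e_0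
theorem lv0 : l0.OK P 64 := ⟨by decide, by decide, lt_of_blt lv0b.1, lv0b.2.1, lv0e⟩
theorem tc1e : ∀ k < 4, ∀ i < 20, (entryChk T1 (selR RL1 I1) D1 (nat_lit 31) (nat_lit 20) (nat_lit 4)) k i = 0 := allZ2_sound tc1e_a
theorem tc1 : c1.OK Rl 5 := ⟨by decide, by decide, by decide, ivc, tc1r, tc1e⟩
theorem lv1e : ∀ i < 19, (l1.ent P) i = 0 := allZ_sound0 lv1e_0
theorem lv1 : l1.OK P 64 := ⟨by decide, by decide, lt_of_blt lv1b.1, lv1b.2.1, lv1e⟩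
theorem tc2e : ∀ k < 3, ∀ i < 9, (entryChk T2 (selR RL2 I2) D2 (nat_lit 15) (nat_lit 9) (nat_lit 3)) k i = 0 := allZ2_sound tc2e_a
theorem tc2 : c2.OK Rl 5 := ⟨by decide, by decide, by decide, ivc, tc2r, tc2e⟩
theorem lv2e : ∀ i < 8, (l2.ent P) i = 0 := allZ_sound0 lv2e_0
theorem lv2 : l2.OK P 64 := ⟨by decide, by decide, lt_of_blt lv2b.1, lv2b.2.1, lv2e⟩
theorem tc3e : ∀ k < 2, ∀ i < 4, (entryChk T3 (selR RL3 I3) D3 (nat_lit 3) (nat_lit 4) (nat_lit 2)) k i = 0 := allZ2_sound tc3e_a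
theorem tc3 : c3.OK Rl 5 := ⟨by decide, by decide, by decide, ivc, tc3r, tc3e⟩
theorem lv3e : ∀ i < 3, (l3.ent P) i = 0 := allZ_sound0 lv3e_0
theorem lv3 : l3.OK P 64 := ⟨by decide, by decide, lt_of_blt lv3b.1, lv3b.2.1, lv3e⟩
theorem tc4e : ∀ k < 1, ∀ i < 2, (entryChk T4 (selR RL4 I4) D4 (nat_lit 1) (nat_lit 2) (nat_lit 1)) k i = 0 := allZ2_sound tc4e_a
theorem tc4 : c4.OK Rl 5 := ⟨by decide, by decide, by decide, ivc, tc4r, tc4e⟩
theorem lv4e : ∀ i < 1, (l4.ent P) i = 0 := allZ_sound0 lv4e_0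
theorem lv4 : l4.OK P 64 := ⟨by decide, by decide, lt_of_blt lv4b.1, lv4b.2.1, lv4e⟩
theorem bound4 : Bound Rl 1 2 := Bound.step' (Bound.zero Rl) tc4 sb4.1 (by decide +kernel)
theorem bound3 : Bound Rl 2 8 := Bound.step' (bound4) tc3 sb3.1 (by decide +kernel)
theorem bound2 : Bound Rl 3 72 := Bound.step' (bound3) tc2 sb2.1 (by decide +kernel)
theorem bound1 : Bound Rl 4 1440 := Bound.step' (bound2) tc1 sb1.1 (by decide +kernel)
theorem bound0 : Bound Rl 5 51840 := Bound.step' (bound1) tc0 sb0.1 (by decide +kernel)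
/-- every tuple satisfying `Rl` generates a group of order at most `51840` -/
theorem bound : Bound Rl 5 51840 := bound0
theorem chain_of {G Ω : Type*} [Group G] [MulAction G Ω] {g : ℕ → G} {pt : ℕ → Ω}
    (h : Act g pt P 64 5) (hR : Rels g Rl) : IsChain g pt 64 L :=
  IsChain.cons (L := [l1, l2, l3, l4]) (IsChain.cons (L := [l2, l3, l4]) (IsChain.cons (L := [l3, l4]) (IsChain.cons (L := [l4]) (IsChain.cons (L := []) (trivial) h hR tc4 lv4 rfl rfl rfl (by decide) sb4.1 sb4.2) h hR tc3 lv3 rfl rfl rfl (by decide) sb3.1 sb3.2) h hR tc2 lv2 rfl rfl rfl (by decide) sb2.1 sb2.2) h hR tc1 lv1 rfl rfl rfl (by decide) sb1.1 sb1.2) h hR tc0 lv0 rfl rfl rfl (by decide) sb0.1 sb0.2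
theorem base_eq : chainBase L = B := by decide +kernel
open Cfsg H0.TR
def ix : (Fin 2 ⊕ Fin 2) ⊕ Fin 2 → ℕ := Sum.elim (Sum.elim (fun i => i) fun i => 2 + i) fun i => 4 + i
def iv : List ℕ := [0, 1, 2, 3, 4]
theorem ok0 : MM.mt 2 ix (P 0) * MM.mt 2 ix (P (nth 0 iv 0)) = 1 ∧
    ∀ i < 64, P 0 i < 64 ∧ (MM.mt 2 ix (P 0)).mulVec (MM.vec 2 ix i) = MM.vec 2 ix (P 0 i) := by
  decide +kernel
theorem ok1 : MM.mt 2 ix (P 1) * MM.mt 2 ix (P (nth 0 iv 1)) = 1 ∧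
    ∀ i < 64, P 1 i < 64 ∧ (MM.mt 2 ix (P 1)).mulVec (MM.vec 2 ix i) = MM.vec 2 ix (P 1 i) := by
  decide +kernel
theorem ok2 : MM.mt 2 ix (P 2) * MM.mt 2 ix (P (nth 0 iv 2)) = 1 ∧
    ∀ i < 64, P 2 i < 64 ∧ (MM.mt 2 ix (P 2)).mulVec (MM.vec 2 ix i) = MM.vec 2 ix (P 2 i) := by
  decide +kernel
theorem ok3 : MM.mt 2 ix (P 3) * MM.mt 2 ix (P (nth 0 iv 3)) = 1 ∧
    ∀ i < 64, P 3 i < 64 ∧ (MM.mt 2 ix (P 3)).mulVec (MM.vec 2 ix i) = MM.vec 2 ix (P 3 i) := by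
  decide +kernel
theorem ok4 : MM.mt 2 ix (P 4) * MM.mt 2 ix (P (nth 0 iv 4)) = 1 ∧
    ∀ i < 64, P 4 i < 64 ∧ (MM.mt 2 ix (P 4)).mulVec (MM.vec 2 ix i) = MM.vec 2 ix (P 4 i) := by
  decide +kernel
theorem ok : MM.OK 2 ix P iv 64 5 :=
  ⟨fun k hk => match k, hk with | 0, _ => ok0 | 1, _ => ok1 | 2, _ => ok2 | 3, _ => ok3 | 4, _ => ok4, by decide +kernel⟩
theorem rf : H16.allL (fixRange P 5 0 64) Rl = true := by decide +kernel
/-- the letters -/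
noncomputable def g : ℕ → GL ((Fin 2 ⊕ Fin 2) ⊕ Fin 2) (ZMod 2) := MM.gl 2 ix P iv
theorem mem : ∀ k < 5, g k ∈ isometryGroup (ZMod 2) (quadFormMinus 2 (ZMod 2) 1 1) := fun k hk =>
  ok.mem_iso (by decide +kernel) hk
theorem cardH : Nat.card (isometryGroup (ZMod 2) (quadFormMinus 2 (ZMod 2) 1 1)) = 51840 := by
  have := H11.card_O_minus (F := ZMod 2) 2 (a := 1) (b := 1) (by decide)
  generalize Nat.card _ = a at this ⊢
  simpa [Finset.prod_range_succ] using this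
theorem md : ∃ (_ : MulAction (isometryGroup (ZMod 2) (quadFormMinus 2 (ZMod 2) 1 1)) ((Fin 2 ⊕ Fin 2) ⊕ Fin 2 → ZMod 2)) (h : ℕ → isometryGroup (ZMod 2) (quadFormMinus 2 (ZMod 2) 1 1)),
    Md h (MM.vec 2 ix) P 64 5 B 51840 ∧ ∀ k < 5, (h k : GL ((Fin 2 ⊕ Fin 2) ⊕ Fin 2) (ZMod 2)) = g k :=
  MM.md_sub ok.act ok.inj (chain_of ok.act (ok.rels rf)) mem cardH (by decide +kernel)

end H15.XO6m
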