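import Cfsg.Agent.H16.Slp

/-! Generated by tools/h16 and py/gen_models.py. -/

set_option maxRecDepth 100000
set_option maxHeartbeats 0

namespace H15.U35

open H16
open scoped Pointwise

noncomputable def Rl : List (List ℕ) := [[nat_lit 0, nat_lit 1],
  [nat_lit 1, nat_lit 0],
  [nat_lit 2, nat_lit 2],
  [nat_lit 3, nat_lit 3],
  [nat_lit 0, nat_lit 0, nat_lit 0, nat_lit 0, nat_lit 0, nat_lit 0, nat_lit 0, nat_lit 0],
  [nat_lit 0, nat_lit 0, nat_lit 0, nat_lit 0, nat_lit 2, nat_lit 0, nat_lit 0, nat_lit 2, nat_lit 1, nat_lit 1, nat_lit 2],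
  [nat_lit 0, nat_lit 0, nat_lit 2, nat_lit 0, nat_lit 2, nat_lit 1, nat_lit 2, nat_lit 1, nat_lit 2, nat_lit 0, nat_lit 2, nat_lit 0, nat_lit 2, nat_lit 0, nat_lit 2],
  [nat_lit 2, nat_lit 3, nat_lit 2, nat_lit 3],
  [nat_lit 0, nat_lit 2, nat_lit 1, nat_lit 3, nat_lit 0, nat_lit 3, nat_lit 1, nat_lit 3],
  [nat_lit 0, nat_lit 3, nat_lit 0, nat_lit 3, nat_lit 0, nat_lit 3, nat_lit 0, nat_lit 3, nat_lit 0, nat_lit 3],
  [nat_lit 0, nat_lit 2, nat_lit 3, nat_lit 0, nat_lit 2, nat_lit 3, nat_lit 0, nat_lit 2, nat_lit 3, nat_lit 0, nat_lit 3, nat_lit 2, nat_lit 0, nat_lit 3, nat_lit 2]]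
noncomputable def Pd : List ℕ := [nat_lit 0x831fbd684131b5d4f1e7a8f4106767c84e6fdd6ab1e4bbd5e53b16892b4146ee56992509a5a93b971d6e96bf4583f3d53a469b53600d0def9477f4f43066e08a0ab91413c75192aec7d5a924272e25de38457c561bd283133646773e1e3bce66b2dd7f9c1613ee8d101820814080,
  nat_lit 0x3dec7d2c622a2afd7090f49a12423b6d991e2392a412b25e90a0bd38f4599d0c78ac5619ae75378f9e91a157c986b45781d0063bafc41767ce65c1d75361c633dc6eb7e381a8e9e652b14311266ed22f7aab455c8b11b553777a128f1b609dafde73e01abf6d36f92fc1030a10080,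
  nat_lit 0x76280757d322523db439da9e5b6afba9cc4c4ae56483c2bf0657db76f20e9bb319c131116f0fc5826dae1563fa1f01ead0487073587ba5246e409b1705393f8c6105f541f2e779a14493a4529532847579dc97c3d3736b2c6965531f626abbe51ff5ee1a2ae2b38819c3b8742400,
  nat_lit 0x332f3b03111a7da3ed9848469922ba15d73f85155f5c3775e5484b68aac1beac7197686e82ee97416d53a4730e2f7cdea5e29f7206e7a4cb469caf8e1e5c8c59b26ad1b20f80df24b59f09a18fe92c1f7ab308863dbc00a2c1e8d436140dcbc054765ea795b84f1964c8605d5211b]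
noncomputable def P (k u : ℕ) : ℕ := Nat.land (Nat.shiftRight (nth (nat_lit 0) Pd k) (Nat.mul u (nat_lit 7))) (nat_lit 127)
noncomputable def T0d : List ℕ := [nat_lit 0x1f6cf70fd9cfb35a5e66bf6efd90de467a1d6307cbf3c6ef27ce978a58e7f24f7efc547d0cea8f3afbda5c5f3fbef2fba453245abee2fb73b369c9bed2942c1d625ebec1064beb8b51a9b2a605fb9644bea2fa7c1c2fa64389e65c1b4ecac1acd68be8afa1435f067511eea0be792c32b56f9da8daf9cc186f9bc17705cb2cd42fbe66f98a297056534f05495070529f1b050b85ef92aab304bbe47048a0caf8f96a6f8ec10303ec0ef039aa57035be2f031be295aac0b702bbc34e24be1f023ae5301fbe1b01ab423016c04ef05c042f83c033009be07004c00b000,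
  nat_lit 0x3f6ff275e85f40bd68eeb1f047bbf6516925be76ca396fcd19c1851bf269d3bf1cc6837e4cc6bf09df87728fd6a3b504bbee69d24dae1d8bedefb6c1de3e0c1d87f3410efb028f6fae50befac2f52faac1c636739750e1be98e48a572fa44f0672bc1a95d048fa8da92b6f9f7b92f9ec19b063be77062be7305fc17a9bbbe6b05bb0d67a3be630574ed3055be56b27be51516988704fc13b04ca0c4d92be43045c112e40be3b03fc0f303ac0e2f8cc0cf032baa6f8aa86ec0fbe27028c096f87c08b020ba4ef85c067017be12c8bc04700dba22f82c01af81c00f000,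
  nat_lit 0xbfd4df779c44f6bf8afdc35f057ac1f6fd7bf56fcf77edb52bf32fcb7d42fc89daeae3aba6f4319985e7a17efbcadab079b2fafb8a3961ba3b63078331ea39bec8e5dc1d1331c1ccb37beb5af0beadeedc1ca9cebc9f06fc1b9f3fbe9706c356efa35aeeb44bba2fa0be7e6aa7b2ac61bc7b0645d1625ea76b0602f52f9a3abef99ac8b0594b5af9738d6f96c14ef15c146740be4eb9cbb36f91c126f90c11aab3bc3f042c106ebdbe36c28be33036c0d2f0bc0c302ebab2f89c0a6f08c09b024ba86f86c07701bba62f84c052e92be0f00ebe0b00ac01f005bc07000,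
  nat_lit 0x5f01fdbfb6fe639b1bf007d4ce709dd2612156af2a741c7871a9951c1ecef93739befbf12fc231db07abef275f7330f484bd235e9f922e03f5a152371afb3af66fb14cf8f5d23ccc3699060dc63baa71ad3cd6bbe99d6368aefa580fcfe2be8ce5ba2ef069be83068974e7a97f253d7be77065a516d38b68adbabe68cd436babb0c16ac32c162c34be58d359c7ef94672ef93a102c9bbe4704dc129310c11ed39be3b0439ab6f8dc0f6f8cb4a3037b25ef8ab46702fbe2702cc0aaf87c09d2a4be1b021c07b01cbe13018c056f83c04b00fb81700bc022d82be03001]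
noncomputable def T0 (k u : ℕ) : ℕ := Nat.land (Nat.shiftRight (nth (nat_lit 0) T0d k) (Nat.mul u (nat_lit 14))) (nat_lit 16383)
noncomputable def I0d : List ℕ := [nat_lit 0x140000a000a3004041308b2007028063001a9000670303704400b540a000202cc2208800105a900cc038020084d200161104413840000401300000842110401020217a00100401c0422080210042e,
  nat_lit 0x6010000008000000000800000600000000000000000802300000000600800000000000200000000021004010800100001004030004108400004200042108021280020042008400084000840008024,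
  nat_lit 0x81800000c2000003000802006220000284802806100c0009020000000944108801100090000000041288011008038400000220880000020080410800200422084000882100021000200040108446,
  nat_lit 0x70000000ca00080610822280000040000043381030004000080100062800320124018010040002801180c3010e00942200100000a000423080010002058400184010802000421004200848108801]
noncomputable def I0 (k u : ℕ) : ℕ := Nat.land (Nat.shiftRight (nth (nat_lit 0) I0d k) (Nat.mul u (nat_lit 5))) (nat_lit 31)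
noncomputable def D0d : ℕ := nat_lit 0x3adc8dbe6f1572b6d96c95eab4fa7b34994ba49228e456270b843d5e6f278ba5c8e270b75b8d868b3d94c760b0172b85b2c15ca850a7536994c25d2c9047a39128541a08fc7c3c9e0ee753a1c4e06d359a8d06632984c05e2d968a8532813c9c49239188a42200f476391c0dc6c33190c05a2b148a04e261207c3a1c0d868321409848200f070341408028100600
noncomputable def D0 (u : ℕ) : ℕ := Nat.land (Nat.shiftRight D0d (Nat.mul u (nat_lit 9))) (nat_lit 511)
noncomputable def RL0 : List (List Rule) := [[.rel (nat_lit 0) (nat_lit 0) [nat_lit 1], .defn, .rel (nat_lit 16) (nat_lit 0) [nat_lit 2, nat_lit 1, nat_lit 3, nat_lit 0, nat_lit 3, nat_lit 1, nat_lit 3], .rel (nat_lit 16) (nat_lit 4) [nat_lit 3, nat_lit 1, nat_lit 3, nat_lit 0, nat_lit 2, nat_lit 1, nat_lit 3], .rel (nat_lit 8) (nat_lit 2) [nat_lit 0, nat_lit 0, nat_lit 0, nat_lit 0, nat_lit 0, nat_lit 0, nat_lit 0], .rel (nat_lit 8) (nat_lit 3) [nat_lit 0, nat_lit 0, nat_lit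 0, nat_lit 0, nat_lit 0, nat_lit 0, nat_lit 0], .rel (nat_lit 8) (nat_lit 5) [nat_lit 0, nat_lit 0, nat_lit 0, nat_lit 0, nat_lit 0, nat_lit 0, nat_lit 0], .rel (nat_lit 10) (nat_lit 3) [nat_lit 2, nat_lit 0, nat_lit 0, nat_lit 2, nat_lit 1, nat_lit 1, nat_lit 2, nat_lit 0, nat_lit 0, nat_lit 0], .rel (nat_lit 8) (nat_lit 6) [nat_lit 0, nat_lit 0, nat_lit 0, nat_lit 0, nat_lit 0, nat_lit 0, nat_lit 0], .rel (nat_lit 10) (nat_lit 2) [nat_lit 0, nat_lit 2, nat_lit 0, nat_lit 0, nat_lit 2, nat_lit 1, nat_lit 1, nat_lit 2, nat_lit 0, nat_lit 0], .rel (nat_lit 10) (nat_lit 5) [nat_lit 0, nat_lit 2, nat_lit 1, nat_lit 1, nat_lit 2, nat_lit 0, nat_lit 0, nat_lit 0, nat_lit 0, nat_lit 2], .rel (nat_lit 10) (nat_lit 6) [nat_lit 2, nat_lit 1, nat_lit 1, nat_lit 2, nat_lit 0, nat_lit 0, nat_lit 0, nat_lit 0, nat_lit 2, nat_lit 0], .rel (nat_lit 12) (nat_lit 11) [nat_lit 2, nat_lit 0, nat_lit 2, nat_lit 0,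 nat_lit 0, nat_lit 2, nat_lit 0, nat_lit 2, nat_lit 1, nat_lit 2, nat_lit 1, nat_lit 2, nat_lit 0, nat_lit 2], .rel (nat_lit 18) (nat_lit 2) [nat_lit 3, nat_lit 0, nat_lit 3, nat_lit 0, nat_lit 3, nat_lit 0, nat_lit 3, nat_lit 0, nat_lit 3], .sub (nat_lit 0) [] [], .rel (nat_lit 8) (nat_lit 0) [nat_lit 0, nat_lit 0, nat_lit 0, nat_lit 0, nat_lit 0, nat_lit 0, nat_lit 0], .rel (nat_lit 8) (nat_lit 1) [nat_lit 0, nat_lit 0, nat_lit 0, nat_lit 0, nat_lit 0, nat_lit 0, nat_lit 0], .rel (nat_lit 8) (nat_lit 4) [nat_lit 0, nat_lit 0, nat_lit 0, nat_lit 0, nat_lit 0, nat_lit 0, nat_lit 0], .rel (nat_lit 8) (nat_lit 7) [nat_lit 0, nat_lit 0, nat_lit 0, nat_lit 0, nat_lit 0, nat_lit 0, nat_lit 0], .rel (nat_lit 10) (nat_lit 0) [nat_lit 0, nat_lit 0, nat_lit 0, nat_lit 2, nat_lit 0, nat_lit 0, nat_lit 2, nat_lit 1, nat_lit 1, nat_lit 2], .rel (nat_lit 10) (nat_lit 1) [nat_lit 0, nat_lit 0, nat_lit 2, nat_lit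 0, nat_lit 0, nat_lit 2, nat_lit 1, nat_lit 1, nat_lit 2, nat_lit 0], .rel (nat_lit 12) (nat_lit 1) [nat_lit 2, nat_lit 0, nat_lit 2, nat_lit 1, nat_lit 2, nat_lit 1, nat_lit 2, nat_lit 0, nat_lit 2, nat_lit 0, nat_lit 2, nat_lit 0, nat_lit 2, nat_lit 0], .rel (nat_lit 12) (nat_lit 3) [nat_lit 2, nat_lit 1, nat_lit 2, nat_lit 1, nat_lit 2, nat_lit 0, nat_lit 2, nat_lit 0, nat_lit 2, nat_lit 0, nat_lit 2, nat_lit 0, nat_lit 0, nat_lit 2], .rel (nat_lit 18) (nat_lit 0) [nat_lit 3, nat_lit 0, nat_lit 3, nat_lit 0, nat_lit 3, nat_lit 0, nat_lit 3, nat_lit 0, nat_lit 3], .rel (nat_lit 18) (nat_lit 4) [nat_lit 3, nat_lit 0, nat_lit 3, nat_lit 0, nat_lit 3, nat_lit 0, nat_lit 3, nat_lit 0, nat_lit 3]],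
  [.rel (nat_lit 2) (nat_lit 0) [nat_lit 0], .defn, .rel (nat_lit 16) (nat_lit 2) [nat_lit 3, nat_lit 0, nat_lit 3, nat_lit 1, nat_lit 3, nat_lit 0, nat_lit 2], .rel (nat_lit 16) (nat_lit 6) [nat_lit 3, nat_lit 0, nat_lit 2, nat_lit 1, nat_lit 3, nat_lit 0, nat_lit 3], .sub (nat_lit 2) [] [], .rel (nat_lit 10) (nat_lit 9) [nat_lit 2, nat_lit 0, nat_lit 0, nat_lit 0, nat_lit 0, nat_lit 2, nat_lit 0, nat_lit 0, nat_lit 2, nat_lit 1]],
  [.rel (nat_lit 4) (nat_lit 0) [nat_lit 2], .defn, .rel (nat_lit 14) (nat_lit 0) [nat_lit 3, nat_lit 2, nat_lit 3], .rel (nat_lit 14) (nat_lit 2) [nat_lit 3, nat_lit 2, nat_lit 3], .rel (nat_lit 16) (nat_lit 1) [nat_lit 1, nat_lit 3, nat_lit 0, nat_lit 3, nat_lit 1, nat_lit 3, nat_lit 0], .rel (nat_lit 10) (nat_lit 10) [nat_lit 0, nat_lit 0, nat_lit 0, nat_lit 0, nat_lit 2, nat_lit 0, nat_lit 0, nat_lit 2, nat_lit 1, nat_lit 1], .sub (nat_lit 4) [] [], .rel (nat_lit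 10) (nat_lit 4) [nat_lit 0, nat_lit 0, nat_lit 2, nat_lit 1, nat_lit 1, nat_lit 2, nat_lit 0, nat_lit 0, nat_lit 0, nat_lit 0], .rel (nat_lit 10) (nat_lit 7) [nat_lit 1, nat_lit 1, nat_lit 2, nat_lit 0, nat_lit 0, nat_lit 0, nat_lit 0, nat_lit 2, nat_lit 0, nat_lit 0], .rel (nat_lit 12) (nat_lit 8) [nat_lit 0, nat_lit 2, nat_lit 0, nat_lit 2, nat_lit 0, nat_lit 2, nat_lit 0, nat_lit 0, nat_lit 2, nat_lit 0, nat_lit 2, nat_lit 1, nat_lit 2, nat_lit 1]],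
  [.rel (nat_lit 6) (nat_lit 0) [nat_lit 3], .defn, .rel (nat_lit 14) (nat_lit 3) [nat_lit 2, nat_lit 3, nat_lit 2], .rel (nat_lit 16) (nat_lit 3) [nat_lit 0, nat_lit 3, nat_lit 1, nat_lit 3, nat_lit 0, nat_lit 2, nat_lit 1], .rel (nat_lit 16) (nat_lit 5) [nat_lit 1, nat_lit 3, nat_lit 0, nat_lit 2, nat_lit 1, nat_lit 3, nat_lit 0], .rel (nat_lit 16) (nat_lit 7) [nat_lit 0, nat_lit 2, nat_lit 1, nat_lit 3, nat_lit 0, nat_lit 3, nat_lit 1], .rel (nat_lit 18) (nat_lit 5) [nat_lit 0, nat_lit 3, nat_lit 0, nat_lit 3, nat_lit 0, nat_lit 3, nat_lit 0, nat_lit 3, nat_lit 0], .rel (nat_lit 14) (nat_lit 1) [nat_lit 2, nat_lit 3, nat_lit 2], .rel (nat_lit 18) (nat_lit 9) [nat_lit 0, nat_lit 3, nat_lit 0, nat_lit 3, nat_lit 0, nat_lit 3, nat_lit 0, nat_lit 3, nat_lit 0], .rel (nat_lit 18) (nat_lit 3) [nat_lit 0, nat_lit 3, nat_lit 0, nat_lit 3, nat_lit 0, nat_lit 3, nat_lit 0, nat_lit 3, nat_lit 0], .rel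 (nat_lit 18) (nat_lit 7) [nat_lit 0, nat_lit 3, nat_lit 0, nat_lit 3, nat_lit 0, nat_lit 3, nat_lit 0, nat_lit 3, nat_lit 0], .rel (nat_lit 20) (nat_lit 2) [nat_lit 0, nat_lit 2, nat_lit 3, nat_lit 0, nat_lit 2, nat_lit 3, nat_lit 0, nat_lit 3, nat_lit 2, nat_lit 0, nat_lit 3, nat_lit 2, nat_lit 0, nat_lit 2]]]
noncomputable def c0 : TCert := ⟨126, 4, 127, T0, I0, D0, [[nat_lit 0],
  [nat_lit 1],
  [nat_lit 2]], RL0⟩
noncomputable def Pt0d : ℕ := nat_lit 0xc269739f89a824597bae311388994c0cf07e5610439fc884718887b3d3a4da2f2cca86e3afdef179c4dab7ab256d67e963a320e1d827df604bebc27e92aebe24622492cc4bf051bb42a5be2cf7d84da970509efd74bfb142735e45e82c28419720ceed523252bdd0fb61b450d80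
noncomputable def Pt0 (u : ℕ) : ℕ := Nat.land (Nat.shiftRight Pt0d (Nat.mul u (nat_lit 7))) (nat_lit 127)
noncomputable def Q0d : ℕ := nat_lit 0x1f353c74b78a415d9cf3613ba4a1c61ae489c14bb5f463a8bc22d37455fa500fa24a7225a9b96d62a733fbec78265758bc6cdf0df333d8eff9ea82d87c2996a6fb4db59e75c864b01158599308e33489bb176c9786ef025c860a04db829cc7843d386a8a2a49911cbad01f1d03e80
noncomputable def Q0 (u : ℕ) : ℕ := Nat.land (Nat.shiftRight Q0d (Nat.mul u (nat_lit 7))) (nat_lit 127)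
noncomputable def l0 : H16.Lev := ⟨126, 4, D0, Pt0, Q0⟩
noncomputable def T1d : List ℕ := [nat_lit 0x577cb861e71f7968cb3e595fe39fccaf53ae0ed954cfd65455b92d9ca7a9a55f19480fa55cf28b562cfad79b287156c2d65030b193f537638727d4e49b667caec193acf7dd1b2719edc9be7ab19793572564cd799930be764bb25b9e3c96677f1739ddcede4a33af7d2ceae74f2499d08dde73586991e7516726b559c7c4fe46b389918ce1670722f916cdee6f3041914b0e644f36d8a9c8964473659b1cd7e43ed4d9abc87669f34b9a3cd0e42b33b99bccce41f32b88bc83641732180ccc6e40f313988c80e613305980,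
  nat_lit 0x1974c3ce5beff4a6927e3fc72c6167a736559eeb9fbca9a76f2a12d7a3965393d59f8cfbd58b3ed458ca253930b57d5ca167cf280a6dc9fdf7e4d98ddc9ec3832779f0c9d5cf33dd938cf5e11f26cb49c26b72f2659e8c985b4b3cb92dcf0e4af2559decee676724f92689be7530839d1ce7e487398bb5ce564772399c8c8de71b38b9c3c8c54c70419bec8b586722b9b9c8a38cf2277a5c17e6d32235a3c8866bb21f9accd4e6a321b9a4cd1667f33d909ccd665f20f788c06664b20b904cc7662f315902cc36407307980,
  nat_lit 0x67b2fe0de32dc2fa07ad3d80ef95e8393fcf2aa6dc3ebe7e55a194faafc5ab2929ccca3e515bc3944a25650dacb942af5e7d27ba77066ce4f98b793d437e4f33e225422464e5882b6dcf664d9a8c968c9a538f3d23d3cf3b3373cd9e4cf167817a3929c94676b3b19d6c92e4933a5923c90e73b23f9cbc8eb47914f91bbd760bf2336a2b0d645f3819bf498e4573779bacdc58b336f912cdab2cb367910cd85aaf35b90ecd5643734d90bc85668321399cc84666332d906cca664f32398fc81e633205704cc3e617201981]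
noncomputable def T1 (k u : ℕ) : ℕ := Nat.land (Nat.shiftRight (nth (nat_lit 0) T1d k) (Nat.mul u (nat_lit 13))) (nat_lit 8191)
noncomputable def I1d : List ℕ := [nat_lit 0x6008600004102460080cc00860390060c8051000070c028840009c0100500280a00000100481080290840120600205a15802008400084404002300021081e100421080210802300022080210042a,
  nat_lit 0x100000000010802000002004000000200001000200880000001000200800108400004010802008001004210000100001000000040000401084010842008400004000842008023,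
  nat_lit 0x90100018c00200000040001c020004000000104634000020022100c4080600142008021084000042100020004010080000c060002110021080200802009420080200040100420084210040308401]
noncomputable def I1 (k u : ℕ) : ℕ := Nat.land (Nat.shiftRight (nth (nat_lit 0) I1d k) (Nat.mul u (nat_lit 5))) (nat_lit 31)
noncomputable def D1d : ℕ := nat_lit 0x15ca8d3699399b4c2531c8dc0a02fd7cbd1e0ef773a9bad96bb45a0ce6632d94c86330580be5eaf176b95bad962af572b552a85329144a04f2692c914822d108742a04fc7d3d1e4ea72389b8da6b3298cbe5b2c95ca8532893c9a492411c8c43211047e3d1e0e872381b8d06632180b85a2c158a44e231007c3a1b0d0582a14098401e0c0582810060200c0400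
noncomputable def D1 (u : ℕ) : ℕ := Nat.land (Nat.shiftRight D1d (Nat.mul u (nat_lit 9))) (nat_lit 511)
noncomputable def RL1 : List (List Rule) := [[.rel (nat_lit 0) (nat_lit 0) [nat_lit 1], .defn, .rel (nat_lit 8) (nat_lit 7) [nat_lit 0, nat_lit 0, nat_lit 0, nat_lit 0, nat_lit 0, nat_lit 0, nat_lit 0], .rel (nat_lit 10) (nat_lit 0) [nat_lit 0, nat_lit 0, nat_lit 0, nat_lit 2, nat_lit 0, nat_lit 0, nat_lit 2, nat_lit 1, nat_lit 1, nat_lit 2], .rel (nat_lit 10) (nat_lit 1) [nat_lit 0, nat_lit 0, nat_lit 2, nat_lit 0, nat_lit 0, nat_lit 2, nat_lit 1, nat_lit 1, nat_lit 2, nat_lit 0], .rel (nat_lit 8) (nat_lit 6) [nat_lit 0, nat_lit 0, nat_lit 0, nat_lit 0, nat_lit 0, nat_lit 0, nat_lit 0], .rel (nat_lit 12) (nat_lit 0) [nat_lit 0, nat_lit 2, nat_lit 0, nat_lit 2, nat_lit 1, nat_lit 2, nat_lit 1, nat_lit 2, nat_lit 0, nat_lit 2, nat_lit 0, nat_lit 2, nat_lit 0, nat_lit 2], .rel (nat_lit 10) (nat_lit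 2) [nat_lit 0, nat_lit 2, nat_lit 0, nat_lit 0, nat_lit 2, nat_lit 1, nat_lit 1, nat_lit 2, nat_lit 0, nat_lit 0], .rel (nat_lit 10) (nat_lit 3) [nat_lit 2, nat_lit 0, nat_lit 0, nat_lit 2, nat_lit 1, nat_lit 1, nat_lit 2, nat_lit 0, nat_lit 0, nat_lit 0], .rel (nat_lit 10) (nat_lit 6) [nat_lit 2, nat_lit 1, nat_lit 1, nat_lit 2, nat_lit 0, nat_lit 0, nat_lit 0, nat_lit 0, nat_lit 2, nat_lit 0], .sub (nat_lit 0) [] [], .rel (nat_lit 8) (nat_lit 0) [nat_lit 0, nat_lit 0, nat_lit 0, nat_lit 0, nat_lit 0, nat_lit 0, nat_lit 0], .rel (nat_lit 8) (nat_lit 1) [nat_lit 0, nat_lit 0, nat_lit 0, nat_lit 0, nat_lit 0, nat_lit 0, nat_lit 0], .rel (nat_lit 8) (nat_lit 2) [nat_lit 0, nat_lit 0, nat_lit 0, nat_lit 0, nat_lit 0, nat_lit 0, nat_lit 0], .rel (nat_lit 8) (nat_lit 3) [nat_lit 0, nat_lit 0, nat_lit 0, nat_lit 0, nat_lit 0, nat_lit 0, nat_lit 0], .rel (nat_lit 8) (nat_lit 5) [nat_lit 0, nat_lit 0,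 nat_lit 0, nat_lit 0, nat_lit 0, nat_lit 0, nat_lit 0], .rel (nat_lit 10) (nat_lit 5) [nat_lit 0, nat_lit 2, nat_lit 1, nat_lit 1, nat_lit 2, nat_lit 0, nat_lit 0, nat_lit 0, nat_lit 0, nat_lit 2], .rel (nat_lit 12) (nat_lit 1) [nat_lit 2, nat_lit 0, nat_lit 2, nat_lit 1, nat_lit 2, nat_lit 1, nat_lit 2, nat_lit 0, nat_lit 2, nat_lit 0, nat_lit 2, nat_lit 0, nat_lit 2, nat_lit 0], .rel (nat_lit 12) (nat_lit 9) [nat_lit 2, nat_lit 0, nat_lit 2, nat_lit 0, nat_lit 2, nat_lit 0, nat_lit 0, nat_lit 2, nat_lit 0, nat_lit 2, nat_lit 1, nat_lit 2, nat_lit 1, nat_lit 2]],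
  [.rel (nat_lit 2) (nat_lit 0) [nat_lit 0], .defn, .rel (nat_lit 10) (nat_lit 8) [nat_lit 1, nat_lit 2, nat_lit 0, nat_lit 0, nat_lit 0, nat_lit 0, nat_lit 2, nat_lit 0, nat_lit 0, nat_lit 2], .sub (nat_lit 2) [] []],
  [.rel (nat_lit 4) (nat_lit 0) [nat_lit 2], .defn, .rel (nat_lit 10) (nat_lit 4) [nat_lit 0, nat_lit 0, nat_lit 2, nat_lit 1, nat_lit 1, nat_lit 2, nat_lit 0, nat_lit 0, nat_lit 0, nat_lit 0], .rel (nat_lit 10) (nat_lit 10) [nat_lit 0, nat_lit 0, nat_lit 0, nat_lit 0, nat_lit 2, nat_lit 0, nat_lit 0, nat_lit 2, nat_lit 1, nat_lit 1], .rel (nat_lit 10) (nat_lit 7) [nat_lit 1, nat_lit 1, nat_lit 2, nat_lit 0, nat_lit 0, nat_lit 0, nat_lit 0, nat_lit 2, nat_lit 0, nat_lit 0], .rel (nat_lit 12) (nat_lit 6) [nat_lit 1, nat_lit 2, nat_lit 0, nat_lit 2, nat_lit 0, nat_lit 2, nat_lit 0, nat_lit 2, nat_lit 0, nat_lit 0, nat_lit 2, nat_lit 0, nat_lit 2, nat_lit 1], .rel (nat_lit 12) (nat_lit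 8) [nat_lit 0, nat_lit 2, nat_lit 0, nat_lit 2, nat_lit 0, nat_lit 2, nat_lit 0, nat_lit 0, nat_lit 2, nat_lit 0, nat_lit 2, nat_lit 1, nat_lit 2, nat_lit 1], .rel (nat_lit 12) (nat_lit 4) [nat_lit 1, nat_lit 2, nat_lit 1, nat_lit 2, nat_lit 0, nat_lit 2, nat_lit 0, nat_lit 2, nat_lit 0, nat_lit 2, nat_lit 0, nat_lit 0, nat_lit 2, nat_lit 0], .rel (nat_lit 12) (nat_lit 10) [nat_lit 0, nat_lit 2, nat_lit 0, nat_lit 2, nat_lit 0, nat_lit 0, nat_lit 2, nat_lit 0, nat_lit 2, nat_lit 1, nat_lit 2, nat_lit 1, nat_lit 2, nat_lit 0], .rel (nat_lit 12) (nat_lit 12) [nat_lit 0, nat_lit 2, nat_lit 0, nat_lit 0, nat_lit 2, nat_lit 0, nat_lit 2, nat_lit 1, nat_lit 2, nat_lit 1, nat_lit 2, nat_lit 0, nat_lit 2, nat_lit 0]]]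
noncomputable def c1 : TCert := ⟨125, 3, 127, T1, I1, D1, [[nat_lit 0],
  [nat_lit 1]], RL1⟩
noncomputable def Pt1d : ℕ := nat_lit 0x4762f051048e8033be8bbfbf5e6ecea4f8f70a59761f329ce48f0cdd2c5abe14db2d906d2fa64274c20111abda9871eea0cd0f2b5a48c7b1f5b124eba704e3dc79c5361df4d5dcb6372856ab7879d7bc086fc8adb9e4162532a494644ccf74cc993dc6957859128108f8bce401
noncomputable def Pt1 (u : ℕ) : ℕ := Nat.land (Nat.shiftRight Pt1d (Nat.mul u (nat_lit 7))) (nat_lit 127)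
noncomputable def Q1d : ℕ := nat_lit 0x17598dcb1a1d0f7590047b4894aa6bec716a9c3643d5e0676f279de8960c390042add045456f73c75368f6d1ad89c81be501babd41b4de149a42f73f0c73ec248b2555f4e9595d994e98b281a38c3fec4c28678479b5bab4bc8e398ed8d45661a08be5c4f4c43a049533fce9dc000
noncomputable def Q1 (u : ℕ) : ℕ := Nat.land (Nat.shiftRight Q1d (Nat.mul u (nat_lit 7))) (nat_lit 127)
noncomputable def l1 : H16.Lev := ⟨125, 3, D1, Pt1, Q1⟩
noncomputable def T2d : List ℕ := [nat_lit 0x753f2ec379,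
  nat_lit 0xa9e7e8f21a]
noncomputable def T2 (k u : ℕ) : ℕ := Nat.land (Nat.shiftRight (nth (nat_lit 0) T2d k) (Nat.mul u (nat_lit 5))) (nat_lit 31)
noncomputable def I2d : List ℕ := [nat_lit 0x9110,
  nat_lit 0x111]
noncomputable def I2 (k u : ℕ) : ℕ := Nat.land (Nat.shiftRight (nth (nat_lit 0) I2d k) (Nat.mul u (nat_lit 2))) (nat_lit 3)
noncomputable def D2d : ℕ := nat_lit 0xa9652100
noncomputable def D2 (u : ℕ) : ℕ := Nat.land (Nat.shiftRight D2d (Nat.mul u (nat_lit 4))) (nat_lit 15)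
noncomputable def RL2 : List (List Rule) := [[.defn, .rel (nat_lit 0) (nat_lit 0) [nat_lit 1], .rel (nat_lit 8) (nat_lit 0) [nat_lit 0, nat_lit 0, nat_lit 0, nat_lit 0, nat_lit 0, nat_lit 0, nat_lit 0]],
  [.rel (nat_lit 2) (nat_lit 0) [nat_lit 0], .defn]]
noncomputable def c2 : TCert := ⟨8, 2, 7, T2, I2, D2, [], RL2⟩
noncomputable def Pt2d : ℕ := nat_lit 0x1782fbbd2fe206
noncomputable def Pt2 (u : ℕ) : ℕ := Nat.land (Nat.shiftRight Pt2d (Nat.mul u (nat_lit 7))) (nat_lit 127)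
noncomputable def Q2d : ℕ := nat_lit 0x18000006a00000000000000000001000400800000000000000000000000000000000000e00000000
noncomputable def Q2 (u : ℕ) : ℕ := Nat.land (Nat.shiftRight Q2d (Nat.mul u (nat_lit 3))) (nat_lit 7)
noncomputable def l2 : H16.Lev := ⟨8, 2, D2, Pt2, Q2⟩
noncomputable def B : List ℕ := [nat_lit 0, nat_lit 1, nat_lit 6]
noncomputable def L : List H16.Lev := [l0, l1, l2]
noncomputable def Rs : List Root := [⟨(nat_lit 1), [[nat_lit 3, nat_lit 0, nat_lit 0, nat_lit 2, nat_lit 3, nat_lit 1, nat_lit 2, nat_lit 0, nat_lit 2],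
  [nat_lit 2, nat_lit 1, nat_lit 2, nat_lit 0, nat_lit 3, nat_lit 2, nat_lit 1, nat_lit 1, nat_lit 3]], [((nat_lit 5), [nat_lit 4]),
  ((nat_lit 3), [nat_lit 1, nat_lit 2, nat_lit 0, nat_lit 0, nat_lit 0, nat_lit 2, nat_lit 0, nat_lit 2, nat_lit 5, nat_lit 0, nat_lit 2, nat_lit 1, nat_lit 1, nat_lit 1])]⟩]
noncomputable def Fod : ℕ := nat_lit 0x1c630948bc4b86448c66924ba0655eb5026c316e54286361b31322c52b07764256198f1871fac358df0b6720c1b244d50799db19d8e08626af3d3105ac4d972bc210c904f7b541b6acd56b6ae334a58d14282fc4e9c2c20585a2a789b2e17887c505ed10c3909c375eaef2fa5f43ea2730a264d3bbe26a861580421dcf30c58954bf5e9ed3263db0e14eec7c40da0714e8e7aa45ac04eb66d073f2d4a594ea78873a194e70a394c4bf98b516494829d60aad333acbbb617304ea8ebc44da2c9b669c336555409965d040002000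
noncomputable def Fo (u : ℕ) : ℕ := Nat.land (Nat.shiftRight Fod (Nat.mul u (nat_lit 13))) (nat_lit 8191)
noncomputable def nx : List ℕ := [nat_lit 3, nat_lit 1, nat_lit 2, nat_lit 1]
noncomputable def nL : List (List ℕ × ℕ) := [([nat_lit 1, nat_lit 2], (nat_lit 8)),
  ([nat_lit 2], (nat_lit 48)),
  ([nat_lit 1, nat_lit 2, nat_lit 3, nat_lit 0], (nat_lit 2)),
  ([nat_lit 1, nat_lit 2, nat_lit 0], (nat_lit 2))]

theorem tc0e_a : allZ2 (entryChk T0 (selR RL0 I0) D0 (nat_lit 127) (nat_lit 126) (nat_lit 4)) (nat_lit 4) (nat_lit 126) = true := by decide +kernel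
theorem tc0r : rulesChk Rl c0.Sl RL0 (nat_lit 4) = true := by decide +kernel
theorem ivc : ivChk Rl (nat_lit 4) = true := by decide +kernel
theorem lv0e_0 : allZ (l0.ent P) (nat_lit 0) (nat_lit 125) = true := by decide +kernel
theorem lv0b : Nat.blt (Pt0 (nat_lit 0)) (nat_lit 126) = true ∧ Q0 (Pt0 (nat_lit 0)) = 0 ∧ Pt0 (nat_lit 0) = 0 := by decide +kernel
theorem sb0 : H16.allL (ltAll (nat_lit 3)) c0.Sl = true ∧ fixLetters P (nat_lit 3) (Pt0 (nat_lit 0)) = true := by decide +kernel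
theorem tc1e_a : allZ2 (entryChk T1 (selR RL1 I1) D1 (nat_lit 127) (nat_lit 125) (nat_lit 3)) (nat_lit 3) (nat_lit 125) = true := by decide +kernel
theorem tc1r : rulesChk Rl c1.Sl RL1 (nat_lit 3) = true := by decide +kernel
theorem lv1e_0 : allZ (l1.ent P) (nat_lit 0) (nat_lit 124) = true := by decide +kernel
theorem lv1b : Nat.blt (Pt1 (nat_lit 0)) (nat_lit 126) = true ∧ Q1 (Pt1 (nat_lit 0)) = 0 ∧ Pt1 (nat_lit 0) = 1 := by decide +kernel
theorem sb1 : H16.allL (ltAll (nat_lit 2)) c1.Sl = true ∧ fixLetters P (nat_lit 2) (Pt1 (nat_lit 0)) = true := by decide +kernel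
theorem tc2e_a : allZ2 (entryChk T2 (selR RL2 I2) D2 (nat_lit 7) (nat_lit 8) (nat_lit 2)) (nat_lit 2) (nat_lit 8) = true := by decide +kernel
theorem tc2r : rulesChk Rl c2.Sl RL2 (nat_lit 2) = true := by decide +kernel
theorem lv2e_0 : allZ (l2.ent P) (nat_lit 0) (nat_lit 7) = true := by decide +kernel
theorem lv2b : Nat.blt (Pt2 (nat_lit 0)) (nat_lit 126) = true ∧ Q2 (Pt2 (nat_lit 0)) = 0 ∧ Pt2 (nat_lit 0) = 6 := by decide +kernel
theorem sb2 : H16.allL (ltAll (nat_lit 0)) c2.Sl = true ∧ fixLetters P (nat_lit 0) (Pt2 (nat_lit 0)) = true := by decide +kernel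
theorem Blt : ltAll (nat_lit 126) B = 0 := by decide +kernel
theorem ivk : ivLt Rl (nat_lit 4) = true := by decide +kernel
theorem pe_a : allZ2 (permEnt P (ivOf Rl) (nat_lit 126)) (nat_lit 4) (nat_lit 126) = true := by decide +kernel
theorem rf0 : H16.allL (fixRange P (nat_lit 4) (nat_lit 0) (nat_lit 126)) (Rl.drop (nat_lit 4)) = true := by decide +kernel
theorem Foe_0 : allZ (forEnt P Fo (nat_lit 3) (nat_lit 511) (nat_lit 126) ((nat_lit 0) :: Rs.map Root.r)) (nat_lit 0) (nat_lit 126) = true := by decide +kernel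
theorem rtc : H16.allL (Root.chk P (nat_lit 4) B (nat_lit 3) (nat_lit 0)) Rs = true ∧ fixLetters P (nat_lit 3) (nat_lit 0) = true := by decide +kernel
theorem nc1 : allZ (fun k => H16.force k (nclEnt P Rl (nat_lit 4) B nx nL)) 0 (nat_lit 4) = true := by decide +kernel
theorem nc2 : powL P (nat_lit 4) B nx (nat_lit 7) = 0 := by decide +kernel

theorem tc0e : ∀ k < 4, ∀ i < 126, (entryChk T0 (selR RL0 I0) D0 (nat_lit 127) (nat_lit 126) (nat_lit 4)) k i = 0 := allZ2_sound tc0e_a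
theorem tc0 : c0.OK Rl 4 := ⟨by decide, by decide, by decide, ivc, tc0r, tc0e⟩
theorem lv0e : ∀ i < 125, (l0.ent P) i = 0 := allZ_sound0 lv0e_0
theorem lv0 : l0.OK P 126 := ⟨by decide, by decide, lt_of_blt lv0b.1, lv0b.2.1, lv0e⟩
theorem tc1e : ∀ k < 3, ∀ i < 125, (entryChk T1 (selR RL1 I1) D1 (nat_lit 127) (nat_lit 125) (nat_lit 3)) k i = 0 := allZ2_sound tc1e_a
theorem tc1 : c1.OK Rl 4 := ⟨by decide, by decide, by decide, ivc, tc1r, tc1e⟩
theorem lv1e : ∀ i < 124, (l1.ent P) i = 0 := allZ_sound0 lv1e_0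
theorem lv1 : l1.OK P 126 := ⟨by decide, by decide, lt_of_blt lv1b.1, lv1b.2.1, lv1e⟩
theorem tc2e : ∀ k < 2, ∀ i < 8, (entryChk T2 (selR RL2 I2) D2 (nat_lit 7) (nat_lit 8) (nat_lit 2)) k i = 0 := allZ2_sound tc2e_a
theorem tc2 : c2.OK Rl 4 := ⟨by decide, by decide, by decide, ivc, tc2r, tc2e⟩
theorem lv2e : ∀ i < 7, (l2.ent P) i = 0 := allZ_sound0 lv2e_0
theorem lv2 : l2.OK P 126 := ⟨by decide, by decide, lt_of_blt lv2b.1, lv2b.2.1, lv2e⟩
theorem bound2 : Bound Rl 2 8 := Bound.step' (Bound.zero Rl) tc2 sb2.1 (by decide +kernel)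
theorem bound1 : Bound Rl 3 1000 := Bound.step' (bound2) tc1 sb1.1 (by decide +kernel)
theorem bound0 : Bound Rl 4 126000 := Bound.step' (bound1) tc0 sb0.1 (by decide +kernel)
/-- every tuple satisfying `Rl` generates a group of order at most `126000` -/
theorem bound : Bound Rl 4 126000 := bound0
theorem chain_of {G Ω : Type*} [Group G] [MulAction G Ω] {g : ℕ → G} {pt : ℕ → Ω}
    (h : Act g pt P 126 4) (hR : Rels g Rl) : IsChain g pt 126 L :=
  IsChain.cons (L := [l1, l2]) (IsChain.cons (L := [l2]) (IsChain.cons (L := []) (trivial) h hR tc2 lv2 rfl rfl rfl (by decide) sb2.1 sb2.2) h hR tc1 lv1 rfl rfl rfl (by decide) sb1.1 sb1.2) h hR tc0 lv0 rfl rfl rfl (by decide) sb0.1 sb0.2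
theorem base_eq : chainBase L = B := by decide +kernel
theorem pe : ∀ k < 4, ∀ i < 126, (permEnt P (ivOf Rl) (nat_lit 126)) k i = 0 := allZ2_sound pe_a
/-- the letters -/
noncomputable def g : ℕ → Equiv.Perm (Fin 126) := permGen 126 P
theorem act : Act g (ptF 126) P 126 4 := act_permGen pe
theorem rels : Rels g Rl :=
  rels_perm pe ivc ivk (FixUpTo.first rf0)
theorem chain : IsChain g (ptF 126) 126 L := chain_of act rels
theorem card : Nat.card (gen g 4) = 126000 := chain.card' (ptF_inj 126) (by decide +kernel)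
theorem isBase : IsBase (gen g 4) (ptF 126) B := base_eq ▸ chain.isBase (ptF_inj 126)
theorem Foe : ∀ i < 126, (forEnt P Fo (nat_lit 3) (nat_lit 511) (nat_lit 126) ((nat_lit 0) :: Rs.map Root.r)) i = 0 := allZ_sound0 Foe_0
theorem maxCert_of' {G Ω : Type*} [Group G] [MulAction G Ω] {g : ℕ → G} {pt : ℕ → Ω}
    (h : Act g pt P 126 4) (hb : IsBase (gen g 4) pt B) : MaxCert g pt 126 4 3 0 :=
  maxCert_of h Blt hb (by decide) Foe rtc.2 rtc.1
theorem maxCert : MaxCert g (ptF 126) 126 l0.K (topK [l1, l2]) (l0.Pt 0) :=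
  lv0b.2.2 ▸ maxCert_of' act isBase
theorem simple : IsSimpleGroup (gen g 4) :=
  simple_of_cert (l := l0) (L := [l1, l2]) chain (ptF_inj 126) maxCert Blt isBase
    (evA_mem_gen g (powL_eq_one act Blt isBase nc2).1) (powL_eq_one act Blt isBase nc2).2
    (by decide +kernel) (by decide) fun _ hA hx => ncl_sound act Blt isBase rels ivc nc1 le_rfl hA hx

end H15.U35
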