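import Cfsg.Agent.H15.M.U35
import Cfsg.Agent.H16.MatR2

/-! The model `H15.U35` is `PSU₃(5)`. -/

set_option maxRecDepth 100000

namespace H15.LU35
open Cfsg H16

instance fact5 : Fact (Nat.Prime 5) := ⟨by norm_num⟩
instance factF25 : Fact (∀ r : ZMod 5, r ^ 2 ≠ 2 + 0 * r) := ⟨by decide⟩
abbrev F25 : Type := QuadraticAlgebra (ZMod 5) 2 0
theorem card_F25 : Fintype.card F25 = 5 ^ 2 := rfl
def q : MP := ⟨6, 7, 127, 5⟩
def om : F25 := ⟨0, 1⟩
abbrev GG : Type := GL (Fin 3) F25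
def C0 : List ℕ := [nat_lit 0x400002, nat_lit 0x20000100, nat_lit 0x1000008000, nat_lit 0x400004, nat_lit 0x20000200, nat_lit 0x1000010000]
def b0 : GG := glR (matR (ixF 3) om 2 7 C0) (matR (ixF 3) om 2 7 [nat_lit 0x600002, nat_lit 0x30000100, nat_lit 0x1800008000]) (by decide +kernel)
theorem col0 : Cols q (rhoGL _ _) (eR (ixF 3) om) ⊥ b0 C0 := cols_R (s := 2) (ixF 3) om rfl (by decide +kernel)
theorem m0 : b0 ∈ GU 3 F25 5 := (H11.mem_GU_iff_matrix card_F25 3 _).2 (by decide +kernel)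
def C1 : List ℕ := [nat_lit 0x400003, nat_lit 0x2040004180, nat_lit 0x1040000080, nat_lit 0x600004, nat_lit 0x83000c180, nat_lit 0x10010180]
def b1 : GG := glR (matR (ixF 3) om 2 7 C1) (matR (ixF 3) om 2 7 [nat_lit 0x600003, nat_lit 0x810004180, nat_lit 0x1810000080]) (by decide +kernel)
theorem col1 : Cols q (rhoGL _ _) (eR (ixF 3) om) ⊥ b1 C1 := cols_R (s := 2) (ixF 3) om rfl (by decide +kernel)
theorem m1 : b1 ∈ GU 3 F25 5 := (H11.mem_GU_iff_matrix card_F25 3 _).2 (by decide +kernel)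
def C2 : List ℕ := [nat_lit 0x600003, nat_lit 0x810004180, nat_lit 0x1810000080, nat_lit 0x600001, nat_lit 0x830008100, nat_lit 0x10004100]
def b2 : GG := glR (matR (ixF 3) om 2 7 C2) (matR (ixF 3) om 2 7 [nat_lit 0x400003, nat_lit 0x2040004180, nat_lit 0x1040000080]) (by decide +kernel)
theorem col2 : Cols q (rhoGL _ _) (eR (ixF 3) om) ⊥ b2 C2 := cols_R (s := 2) (ixF 3) om rfl (by decide +kernel)
theorem m2 : b2 ∈ GU 3 F25 5 := (H11.mem_GU_iff_matrix card_F25 3 _).2 (by decide +kernel)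
def C3 : List ℕ := [nat_lit 0x1840408202, nat_lit 0x1820808104, nat_lit 0x2000010081, nat_lit 0x1040404184, nat_lit 0x1020804203, nat_lit 0x201020c000]
def b3 : GG := glR (matR (ixF 3) om 2 7 C3) (matR (ixF 3) om 2 7 [nat_lit 0x10604202, nat_lit 0x30204104, nat_lit 0x820410102]) (by decide +kernel)
theorem col3 : Cols q (rhoGL _ _) (eR (ixF 3) om) ⊥ b3 C3 := cols_R (s := 2) (ixF 3) om rfl (by decide +kernel)
theorem m3 : b3 ∈ GU 3 F25 5 := (H11.mem_GU_iff_matrix card_F25 3 _).2 (by decide +kernel)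
def C4 : List ℕ := [nat_lit 0x20008203, nat_lit 0x2000608084, nat_lit 0x10000102, nat_lit 0x1040600200, nat_lit 0x101080c001, nat_lit 0x20400100]
def b4 : GG := glR (matR (ixF 3) om 2 7 C4) (matR (ixF 3) om 2 7 [nat_lit 0x20008203, nat_lit 0x2000608084, nat_lit 0x10000102]) (by decide +kernel)
theorem col4 : Cols q (rhoGL _ _) (eR (ixF 3) om) ⊥ b4 C4 := cols_R (s := 2) (ixF 3) om rfl (by decide +kernel)
theorem m4 : b4 ∈ GU 3 F25 5 := (H11.mem_GU_iff_matrix card_F25 3 _).2 (by decide +kernel)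
def C : List (List ℕ) := [C0, C1, C2, C3, C4] ++ []
def σ : List ℕ := [1, 2, 3, 4]
def E : List (List ℕ) := [[], [], [0, 0], [], [0], [0, 0], [], [0, 0], [0], [0, 0], [0, 0]]
theorem rele : allZ2 (relEnt 6 7 127 5 C 5 σ U35.Rl E) 11 3 = true := by decide +kernel
def o : List GG := [b0, b1, b2, b3, b4]
theorem amb : Amb q (rhoGL _ _) (eR (ixF 3) om) ⊥ := amb_GL (by decide +kernel) (by decide +kernel)
theorem mact : MAct q (rhoGL _ _) (eR (ixF 3) om) ⊥ (tup o) C 5 := mact_tup (.cons col0 (.cons col1 (.cons col2 (.cons col3 (.cons col4 .nil)))))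
noncomputable def h : ℕ → GG := fun k => tup o (nth 0 σ k)
theorem rels : Rels (fun k => QuotientGroup.mk' (Subgroup.center GG) (h k)) U35.Rl :=
  mact.rels_z amb (rigid_R _ _) (by decide) (by decide +kernel) (allZ2_sound rele) _
    ((QuotientGroup.eq_one_iff _).2 (center_of_scalar (c := ⟨2, 2⟩) (by decide +kernel)))
theorem ne : h 0 * h 2 ≠ h 2 * h 0 := fun e =>
  absurd (congrArg Units.val (show b1 * b3 = b3 * b1 from e)) (by decide +kernel)
theorem mem (k : ℕ) : h k ∈ GU 3 F25 5 := tup_mem (by simp [o, m0, m1, m2, m3, m4]) _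
theorem cardX : Nat.card (PSU 3 F25 5) = 126000 := by
  have := H11.card_psu (F := F25) (q := 5) rfl (n := 3) (by norm_num)
  simp [Finset.prod_range_succ, Nat.even_add_one] at this
  omega
theorem equiv : Nonempty (gen U35.g 4 ≃* PSU 3 F25 5) :=
  have := U35.simple
  link_psu U35.bound U35.rels U35.card (by norm_num) (by decide) rels ne mem cardX

end H15.LU35
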