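import Cfsg.Agent.H16.Slp
import Cfsg.Agent.H15.MM
import Cfsg.Agent.S0824

/-! Generated by tools/h15/cs.py. -/

set_option maxRecDepth 100000
set_option maxHeartbeats 0
set_option linter.unusedVariables false

namespace H15.XW4m

open H16

noncomputable def Rl : List (List ℕ) := [[nat_lit 0, nat_lit 0],
  [nat_lit 1, nat_lit 1],
  [nat_lit 2, nat_lit 2],
  [nat_lit 0, nat_lit 1, nat_lit 0, nat_lit 1, nat_lit 0, nat_lit 1],
  [nat_lit 0, nat_lit 2, nat_lit 0, nat_lit 2, nat_lit 0, nat_lit 2],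
  [nat_lit 0, nat_lit 1, nat_lit 2, nat_lit 0, nat_lit 1, nat_lit 2, nat_lit 0, nat_lit 1, nat_lit 2]]
noncomputable def Pd : List ℕ := [nat_lit 0xb9a8fdec75643120,
  nat_lit 0xfdec7564b9a83120,
  nat_lit 0xbc9ef8da16345270]
noncomputable def P (k u : ℕ) : ℕ := Nat.land (Nat.shiftRight (nth (nat_lit 0) Pd k) (Nat.mul u (nat_lit 4))) (nat_lit 15)
noncomputable def T0d : List ℕ := [nat_lit 0x19767488738785718280,
  nat_lit 0x76285589677271848380,
  nat_lit 0x9374873546586627081]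
noncomputable def T0 (k u : ℕ) : ℕ := Nat.land (Nat.shiftRight (nth (nat_lit 0) T0d k) (Nat.mul u (nat_lit 8))) (nat_lit 255)
noncomputable def I0d : List ℕ := [nat_lit 0x1804120a,
  nat_lit 0x405804a,
  nat_lit 0x10602301]
noncomputable def I0 (k u : ℕ) : ℕ := Nat.land (Nat.shiftRight (nth (nat_lit 0) I0d k) (Nat.mul u (nat_lit 3))) (nat_lit 7)
noncomputable def D0d : ℕ := nat_lit 0x27262d2720c40
noncomputable def D0 (u : ℕ) : ℕ := Nat.land (Nat.shiftRight D0d (Nat.mul u (nat_lit 5))) (nat_lit 31)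
noncomputable def RL0 : List (List Rule) := [[.rel (nat_lit 0) (nat_lit 0) [nat_lit 0], .defn, .sub (nat_lit 0) [] [], .rel (nat_lit 6) (nat_lit 4) [nat_lit 1, nat_lit 0, nat_lit 1, nat_lit 0, nat_lit 1]],
  [.rel (nat_lit 2) (nat_lit 0) [nat_lit 1], .defn, .sub (nat_lit 2) [] [], .rel (nat_lit 6) (nat_lit 5) [nat_lit 0, nat_lit 1, nat_lit 0, nat_lit 1, nat_lit 0], .rel (nat_lit 10) (nat_lit 1) [nat_lit 2, nat_lit 0, nat_lit 1, nat_lit 2, nat_lit 0, nat_lit 1, nat_lit 2, nat_lit 0]],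
  [.rel (nat_lit 4) (nat_lit 0) [nat_lit 2], .defn, .rel (nat_lit 10) (nat_lit 8) [nat_lit 0, nat_lit 1, nat_lit 2, nat_lit 0, nat_lit 1, nat_lit 2, nat_lit 0, nat_lit 1], .rel (nat_lit 8) (nat_lit 3) [nat_lit 0, nat_lit 2, nat_lit 0, nat_lit 2, nat_lit 0], .rel (nat_lit 8) (nat_lit 5) [nat_lit 0, nat_lit 2, nat_lit 0, nat_lit 2, nat_lit 0]]]
noncomputable def c0 : TCert := ⟨10, 3, 15, T0, I0, D0, [[nat_lit 0],
  [nat_lit 1]], RL0⟩
noncomputable def Pt0d : ℕ := nat_lit 0x4ce8d9a653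
noncomputable def Pt0 (u : ℕ) : ℕ := Nat.land (Nat.shiftRight Pt0d (Nat.mul u (nat_lit 4))) (nat_lit 15)
noncomputable def Q0d : ℕ := nat_lit 0x758034602190000
noncomputable def Q0 (u : ℕ) : ℕ := Nat.land (Nat.shiftRight Q0d (Nat.mul u (nat_lit 4))) (nat_lit 15)
noncomputable def l0 : H16.Lev := ⟨10, 3, D0, Pt0, Q0⟩
noncomputable def T1d : List ℕ := [nat_lit 0x272ef219,
  nat_lit 0x8d8c37a]
noncomputable def T1 (k u : ℕ) : ℕ := Nat.land (Nat.shiftRight (nth (nat_lit 0) T1d k) (Nat.mul u (nat_lit 5))) (nat_lit 31)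
noncomputable def I1d : List ℕ := [nat_lit 0x51,
  nat_lit 0x205]
noncomputable def I1 (k u : ℕ) : ℕ := Nat.land (Nat.shiftRight (nth (nat_lit 0) I1d k) (Nat.mul u (nat_lit 2))) (nat_lit 3)
noncomputable def D1d : ℕ := nat_lit 0x34640
noncomputable def D1 (u : ℕ) : ℕ := Nat.land (Nat.shiftRight D1d (Nat.mul u (nat_lit 3))) (nat_lit 7)
noncomputable def RL1 : List (List Rule) := [[.rel (nat_lit 0) (nat_lit 0) [nat_lit 0], .defn],
  [.rel (nat_lit 2) (nat_lit 0) [nat_lit 1], .defn, .rel (nat_lit 6) (nat_lit 5) [nat_lit 0, nat_lit 1, nat_lit 0, nat_lit 1, nat_lit 0]]]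
noncomputable def c1 : TCert := ⟨6, 2, 7, T1, I1, D1, [], RL1⟩
noncomputable def Pt1d : ℕ := nat_lit 0xed9a65
noncomputable def Pt1 (u : ℕ) : ℕ := Nat.land (Nat.shiftRight Pt1d (Nat.mul u (nat_lit 4))) (nat_lit 15)
noncomputable def Q1d : ℕ := nat_lit 0x160098040000
noncomputable def Q1 (u : ℕ) : ℕ := Nat.land (Nat.shiftRight Q1d (Nat.mul u (nat_lit 3))) (nat_lit 7)
noncomputable def l1 : H16.Lev := ⟨6, 2, D1, Pt1, Q1⟩
noncomputable def B : List ℕ := [nat_lit 3, nat_lit 5]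
noncomputable def L : List H16.Lev := [l0, l1]

theorem tc0e_a : allZ2 (entryChk T0 (selR RL0 I0) D0 (nat_lit 15) (nat_lit 10) (nat_lit 3)) (nat_lit 3) (nat_lit 10) = true := by decide +kernel
theorem tc0r : rulesChk Rl c0.Sl RL0 (nat_lit 3) = true := by decide +kernel
theorem ivc : ivChk Rl (nat_lit 3) = true := by decide +kernel
theorem lv0e_0 : allZ (l0.ent P) (nat_lit 0) (nat_lit 9) = true := by decide +kernel
theorem lv0b : Nat.blt (Pt0 (nat_lit 0)) (nat_lit 16) = true ∧ Q0 (Pt0 (nat_lit 0)) = 0 ∧ Pt0 (nat_lit 0) = 3 := by decide +kernel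
theorem sb0 : H16.allL (ltAll (nat_lit 2)) c0.Sl = true ∧ fixLetters P (nat_lit 2) (Pt0 (nat_lit 0)) = true := by decide +kernel
theorem tc1e_a : allZ2 (entryChk T1 (selR RL1 I1) D1 (nat_lit 7) (nat_lit 6) (nat_lit 2)) (nat_lit 2) (nat_lit 6) = true := by decide +kernel
theorem tc1r : rulesChk Rl c1.Sl RL1 (nat_lit 2) = true := by decide +kernel
theorem lv1e_0 : allZ (l1.ent P) (nat_lit 0) (nat_lit 5) = true := by decide +kernel
theorem lv1b : Nat.blt (Pt1 (nat_lit 0)) (nat_lit 16) = true ∧ Q1 (Pt1 (nat_lit 0)) = 0 ∧ Pt1 (nat_lit 0) = 5 := by decide +kernel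
theorem sb1 : H16.allL (ltAll (nat_lit 0)) c1.Sl = true ∧ fixLetters P (nat_lit 0) (Pt1 (nat_lit 0)) = true := by decide +kernel
theorem Blt : ltAll (nat_lit 16) B = 0 := by decide +kernel

theorem tc0e : ∀ k < 3, ∀ i < 10, (entryChk T0 (selR RL0 I0) D0 (nat_lit 15) (nat_lit 10) (nat_lit 3)) k i = 0 := allZ2_sound tc0e_a
theorem tc0 : c0.OK Rl 3 := ⟨by decide, by decide, by decide, ivc, tc0r, tc0e⟩
theorem lv0e : ∀ i < 9, (l0.ent P) i = 0 := allZ_sound0 lv0e_0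
theorem lv0 : l0.OK P 16 := ⟨by decide, by decide, lt_of_blt lv0b.1, lv0b.2.1, lv0e⟩
theorem tc1e : ∀ k < 2, ∀ i < 6, (entryChk T1 (selR RL1 I1) D1 (nat_lit 7) (nat_lit 6) (nat_lit 2)) k i = 0 := allZ2_sound tc1e_a
theorem tc1 : c1.OK Rl 3 := ⟨by decide, by decide, by decide, ivc, tc1r, tc1e⟩
theorem lv1e : ∀ i < 5, (l1.ent P) i = 0 := allZ_sound0 lv1e_0
theorem lv1 : l1.OK P 16 := ⟨by decide, by decide, lt_of_blt lv1b.1, lv1b.2.1, lv1e⟩
theorem bound1 : Bound Rl 2 6 := Bound.step' (Bound.zero Rl) tc1 sb1.1 (by decide +kernel)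
theorem bound0 : Bound Rl 3 60 := Bound.step' (bound1) tc0 sb0.1 (by decide +kernel)
/-- every tuple satisfying `Rl` generates a group of order at most `60` -/
theorem bound : Bound Rl 3 60 := bound0
theorem chain_of {G Ω : Type*} [Group G] [MulAction G Ω] {g : ℕ → G} {pt : ℕ → Ω}
    (h : Act g pt P 16 3) (hR : Rels g Rl) : IsChain g pt 16 L :=
  IsChain.cons (L := [l1]) (IsChain.cons (L := []) (trivial) h hR tc1 lv1 rfl rfl rfl (by decide) sb1.1 sb1.2) h hR tc0 lv0 rfl rfl rfl (by decide) sb0.1 sb0.2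
theorem base_eq : chainBase L = B := by decide +kernel
open Cfsg H0.TR
def ix : (Fin 1 ⊕ Fin 1) ⊕ Fin 2 → ℕ := Sum.elim (Sum.elim (fun i => i) fun i => 1 + i) fun i => 2 + i
def iv : List ℕ := [0, 1, 2]
theorem ok0 : MM.mt 2 ix (P 0) * MM.mt 2 ix (P (nth 0 iv 0)) = 1 ∧
    ∀ i < 16, P 0 i < 16 ∧ (MM.mt 2 ix (P 0)).mulVec (MM.vec 2 ix i) = MM.vec 2 ix (P 0 i) := by
  decide +kernel
theorem ok1 : MM.mt 2 ix (P 1) * MM.mt 2 ix (P (nth 0 iv 1)) = 1 ∧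
    ∀ i < 16, P 1 i < 16 ∧ (MM.mt 2 ix (P 1)).mulVec (MM.vec 2 ix i) = MM.vec 2 ix (P 1 i) := by
  decide +kernel
theorem ok2 : MM.mt 2 ix (P 2) * MM.mt 2 ix (P (nth 0 iv 2)) = 1 ∧
    ∀ i < 16, P 2 i < 16 ∧ (MM.mt 2 ix (P 2)).mulVec (MM.vec 2 ix i) = MM.vec 2 ix (P 2 i) := by
  decide +kernel
theorem ok : MM.OK 2 ix P iv 16 3 :=
  ⟨fun k hk => match k, hk with | 0, _ => ok0 | 1, _ => ok1 | 2, _ => ok2, by decide +kernel⟩
theorem rf : H16.allL (fixRange P 3 0 16) Rl = true := by decide +kernel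
/-- the letters -/
noncomputable def g : ℕ → GL ((Fin 1 ⊕ Fin 1) ⊕ Fin 2) (ZMod 2) := MM.gl 2 ix P iv
theorem mem : ∀ k < 3, g k ∈ isometryGroup (ZMod 2) (quadFormMinus 1 (ZMod 2) 1 1) := fun k hk =>
  ok.mem_iso (by decide +kernel) hk
theorem cardH : Nat.card (isometryGroup (ZMod 2) (quadFormMinus 1 (ZMod 2) 1 1)) = 2 * 60 := by
  have := H11.card_O_minus (F := ZMod 2) 1 (a := 1) (b := 1) (by decide)
  generalize Nat.card _ = a at this ⊢
  simpa [Finset.prod_range_succ] using this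
theorem a5 : Nonempty (Omega (ZMod 2) (quadFormMinus 1 (ZMod 2) 1 1) ≃* alternatingGroup (Fin 5)) :=
  ⟨(H11.commutatorCongr (Cfsg.Agent.S0824.result (F := ZMod 2) (by simp)).some).trans
    (MulEquiv.subgroupCongr (alternatingGroup.commutator_perm_eq (by simp)))⟩
theorem cardC : Nat.card (commutator (isometryGroup (ZMod 2) (quadFormMinus 1 (ZMod 2) 1 1))) = 60 := by
  rw [Nat.card_congr a5.some.toEquiv, nat_card_alternatingGroup]
  simp [Nat.factorial]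
theorem md : ∃ (_ : MulAction (commutator (isometryGroup (ZMod 2) (quadFormMinus 1 (ZMod 2) 1 1))) ((Fin 1 ⊕ Fin 1) ⊕ Fin 2 → ZMod 2)) (h : ℕ → commutator (isometryGroup (ZMod 2) (quadFormMinus 1 (ZMod 2) 1 1))),
    Md h (MM.vec 2 ix) P 16 3 B 60 ∧ ∀ k < 3, ((h k : isometryGroup (ZMod 2) (quadFormMinus 1 (ZMod 2) 1 1)) : GL ((Fin 1 ⊕ Fin 1) ⊕ Fin 2) (ZMod 2)) = g k :=
  MM.md_comm ok.act ok.inj (ok.rels rf) mem (fun _ => chain_of) cardH cardC (by decide +kernel)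
theorem simple : IsSimpleGroup (Omega (ZMod 2) (quadFormMinus 1 (ZMod 2) 1 1)) :=
  a5.some.isSimpleGroup

end H15.XW4m
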