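import Cfsg.Agent.H16.Slp

/-! Generated by tools/h15/cs.py. -/

set_option maxRecDepth 100000
set_option maxHeartbeats 0
set_option linter.unusedVariables false

namespace H15.XYO6

open H16

noncomputable def Rl : List (List ℕ) := [[nat_lit 0, nat_lit 0],
  [nat_lit 1, nat_lit 1],
  [nat_lit 2, nat_lit 2],
  [nat_lit 0, nat_lit 1, nat_lit 0, nat_lit 1, nat_lit 0, nat_lit 1, nat_lit 0, nat_lit 1],
  [nat_lit 0, nat_lit 2, nat_lit 0, nat_lit 2, nat_lit 0, nat_lit 2, nat_lit 0, nat_lit 2],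
  [nat_lit 1, nat_lit 2, nat_lit 1, nat_lit 2, nat_lit 1, nat_lit 2, nat_lit 1, nat_lit 2],
  [nat_lit 0, nat_lit 1, nat_lit 2, nat_lit 1, nat_lit 0, nat_lit 1, nat_lit 2, nat_lit 1]]
noncomputable def Pd : List ℕ := [nat_lit 0xffef7cefae789649e68608e2beeb6caeaa68d74df6c70cf234c3ce2482ca5d65544d245075c7de6586da1c61440c2040,
  nat_lit 0x34c5d62484d2df6b6ccf2a68beed74aeac705543ce4502ca1c675c0c2658f7c9e6e788e2964ffe860efa7de1446da040,
  nat_lit 0x71d79fefae785545d6cb3c3134c3ceaaba291051878e2860f3dfbf6da658d74df6493411b6cbee28b2099259a70c2040]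
noncomputable def P (k u : ℕ) : ℕ := Nat.land (Nat.shiftRight (nth (nat_lit 0) Pd k) (Nat.mul u (nat_lit 6))) (nat_lit 63)
noncomputable def T0d : List ℕ := [nat_lit 0x3f7b4d5c8e7776488a89155463718280,
  nat_lit 0xf2d1e3b2c3a57754966887271848380,
  nat_lit 0x7e8f7a79788d8c8b7473728786857081]
noncomputable def T0 (k u : ℕ) : ℕ := Nat.land (Nat.shiftRight (nth (nat_lit 0) T0d k) (Nat.mul u (nat_lit 8))) (nat_lit 255)
noncomputable def I0d : List ℕ := [nat_lit 0x41220625d60c,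
  nat_lit 0x58213814804b,
  nat_lit 0x40049001241]
noncomputable def I0 (k u : ℕ) : ℕ := Nat.land (Nat.shiftRight (nth (nat_lit 0) I0d k) (Nat.mul u (nat_lit 3))) (nat_lit 7)
noncomputable def D0d : ℕ := nat_lit 0xb2181d69549038b207103080
noncomputable def D0 (u : ℕ) : ℕ := Nat.land (Nat.shiftRight D0d (Nat.mul u (nat_lit 6))) (nat_lit 63)
noncomputable def RL0 : List (List Rule) := [[.rel (nat_lit 0) (nat_lit 0) [nat_lit 0], .defn, .rel (nat_lit 8) (nat_lit 4) [nat_lit 2, nat_lit 0, nat_lit 2, nat_lit 0, nat_lit 2, nat_lit 0, nat_lit 2], .rel (nat_lit 12) (nat_lit 0) [nat_lit 1, nat_lit 2, nat_lit 1, nat_lit 0, nat_lit 1, nat_lit 2, nat_lit 1], .sub (nat_lit 0) [] [], .rel (nat_lit 6) (nat_lit 4) [nat_lit 1, nat_lit 0, nat_lit 1, nat_lit 0, nat_lit 1, nat_lit 0, nat_lit 1], .rel (nat_lit 12) (nat_lit 4) [nat_lit 1, nat_lit 2, nat_lit 1, nat_lit 0, nat_lit 1, nat_lit 2, nat_lit 1]],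
  [.rel (nat_lit 2) (nat_lit 0) [nat_lit 1], .defn, .rel (nat_lit 10) (nat_lit 2) [nat_lit 2, nat_lit 1, nat_lit 2, nat_lit 1, nat_lit 2, nat_lit 1, nat_lit 2], .sub (nat_lit 2) [] [], .rel (nat_lit 6) (nat_lit 7) [nat_lit 0, nat_lit 1, nat_lit 0, nat_lit 1, nat_lit 0, nat_lit 1, nat_lit 0], .rel (nat_lit 10) (nat_lit 0) [nat_lit 2, nat_lit 1, nat_lit 2, nat_lit 1, nat_lit 2, nat_lit 1, nat_lit 2], .rel (nat_lit 12) (nat_lit 1) [nat_lit 2, nat_lit 1, nat_lit 0, nat_lit 1, nat_lit 2, nat_lit 1, nat_lit 0], .rel (nat_lit 12) (nat_lit 5) [nat_lit 2, nat_lit 1, nat_lit 0, nat_lit 1, nat_lit 2, nat_lit 1, nat_lit 0]],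
  [.rel (nat_lit 4) (nat_lit 0) [nat_lit 2], .defn]]
noncomputable def c0 : TCert := ⟨16, 3, 15, T0, I0, D0, [[nat_lit 0],
  [nat_lit 1]], RL0⟩
noncomputable def Pt0d : ℕ := nat_lit 0xbcdfc77dc93c3b65ac534985
noncomputable def Pt0 (u : ℕ) : ℕ := Nat.land (Nat.shiftRight Pt0d (Nat.mul u (nat_lit 6))) (nat_lit 63)
noncomputable def Q0d : ℕ := nat_lit 0xd008000006020000f004000001090000b00a00000503000007e00000c0000000
noncomputable def Q0 (u : ℕ) : ℕ := Nat.land (Nat.shiftRight Q0d (Nat.mul u (nat_lit 4))) (nat_lit 15)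
noncomputable def l0 : H16.Lev := ⟨16, 3, D0, Pt0, Q0⟩
noncomputable def T1d : List ℕ := [nat_lit 0x35a8,
  nat_lit 0x6b49]
noncomputable def T1 (k u : ℕ) : ℕ := Nat.land (Nat.shiftRight (nth (nat_lit 0) T1d k) (Nat.mul u (nat_lit 4))) (nat_lit 15)
noncomputable def I1d : List ℕ := [nat_lit 0xc9,
  nat_lit 0x11]
noncomputable def I1 (k u : ℕ) : ℕ := Nat.land (Nat.shiftRight (nth (nat_lit 0) I1d k) (Nat.mul u (nat_lit 2))) (nat_lit 3)
noncomputable def D1d : ℕ := nat_lit 0xa88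
noncomputable def D1 (u : ℕ) : ℕ := Nat.land (Nat.shiftRight D1d (Nat.mul u (nat_lit 3))) (nat_lit 7)
noncomputable def RL1 : List (List Rule) := [[.rel (nat_lit 0) (nat_lit 0) [nat_lit 0], .sub (nat_lit 0) [] [], .defn, .rel (nat_lit 6) (nat_lit 0) [nat_lit 1, nat_lit 0, nat_lit 1, nat_lit 0, nat_lit 1, nat_lit 0, nat_lit 1]],
  [.rel (nat_lit 2) (nat_lit 0) [nat_lit 1], .defn]]
noncomputable def c1 : TCert := ⟨4, 2, 3, T1, I1, D1, [[nat_lit 0]], RL1⟩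
noncomputable def Pt1d : ℕ := nat_lit 0xf8c786
noncomputable def Pt1 (u : ℕ) : ℕ := Nat.land (Nat.shiftRight Pt1d (Nat.mul u (nat_lit 6))) (nat_lit 63)
noncomputable def Q1d : ℕ := nat_lit 0x30000000000000001000000002000000
noncomputable def Q1 (u : ℕ) : ℕ := Nat.land (Nat.shiftRight Q1d (Nat.mul u (nat_lit 2))) (nat_lit 3)
noncomputable def l1 : H16.Lev := ⟨4, 2, D1, Pt1, Q1⟩
noncomputable def T2d : List ℕ := [nat_lit 3]
noncomputable def T2 (k u : ℕ) : ℕ := Nat.land (Nat.shiftRight (nth (nat_lit 0) T2d k) (Nat.mul u (nat_lit 2))) (nat_lit 3)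
noncomputable def I2d : List ℕ := [nat_lit 1]
noncomputable def I2 (k u : ℕ) : ℕ := Nat.land (Nat.shiftRight (nth (nat_lit 0) I2d k) (Nat.mul u (nat_lit 1))) (nat_lit 1)
noncomputable def D2d : ℕ := nat_lit 0
noncomputable def D2 (u : ℕ) : ℕ := Nat.land (Nat.shiftRight D2d (Nat.mul u (nat_lit 1))) (nat_lit 1)
noncomputable def RL2 : List (List Rule) := [[.rel (nat_lit 0) (nat_lit 0) [nat_lit 0], .defn]]
noncomputable def c2 : TCert := ⟨2, 1, 1, T2, I2, D2, [], RL2⟩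
noncomputable def Pt2d : ℕ := nat_lit 0xd26
noncomputable def Pt2 (u : ℕ) : ℕ := Nat.land (Nat.shiftRight Pt2d (Nat.mul u (nat_lit 6))) (nat_lit 63)
noncomputable def Q2d : ℕ := nat_lit 0x10000000000000
noncomputable def Q2 (u : ℕ) : ℕ := Nat.land (Nat.shiftRight Q2d (Nat.mul u (nat_lit 1))) (nat_lit 1)
noncomputable def l2 : H16.Lev := ⟨2, 1, D2, Pt2, Q2⟩
noncomputable def B : List ℕ := [nat_lit 5, nat_lit 6, nat_lit 38]
noncomputable def L : List H16.Lev := [l0, l1, l2]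

theorem tc0e_a : allZ2 (entryChk T0 (selR RL0 I0) D0 (nat_lit 15) (nat_lit 16) (nat_lit 3)) (nat_lit 3) (nat_lit 16) = true := by decide +kernel
theorem tc0r : rulesChk Rl c0.Sl RL0 (nat_lit 3) = true := by decide +kernel
theorem ivc : ivChk Rl (nat_lit 3) = true := by decide +kernel
theorem lv0e_0 : allZ (l0.ent P) (nat_lit 0) (nat_lit 15) = true := by decide +kernel
theorem lv0b : Nat.blt (Pt0 (nat_lit 0)) (nat_lit 64) = true ∧ Q0 (Pt0 (nat_lit 0)) = 0 ∧ Pt0 (nat_lit 0) = 5 := by decide +kernel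
theorem sb0 : H16.allL (ltAll (nat_lit 2)) c0.Sl = true ∧ fixLetters P (nat_lit 2) (Pt0 (nat_lit 0)) = true := by decide +kernel
theorem tc1e_a : allZ2 (entryChk T1 (selR RL1 I1) D1 (nat_lit 3) (nat_lit 4) (nat_lit 2)) (nat_lit 2) (nat_lit 4) = true := by decide +kernel
theorem tc1r : rulesChk Rl c1.Sl RL1 (nat_lit 2) = true := by decide +kernel
theorem lv1e_0 : allZ (l1.ent P) (nat_lit 0) (nat_lit 3) = true := by decide +kernel
theorem lv1b : Nat.blt (Pt1 (nat_lit 0)) (nat_lit 64) = true ∧ Q1 (Pt1 (nat_lit 0)) = 0 ∧ Pt1 (nat_lit 0) = 6 := by decide +kernel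
theorem sb1 : H16.allL (ltAll (nat_lit 1)) c1.Sl = true ∧ fixLetters P (nat_lit 1) (Pt1 (nat_lit 0)) = true := by decide +kernel
theorem tc2e_a : allZ2 (entryChk T2 (selR RL2 I2) D2 (nat_lit 1) (nat_lit 2) (nat_lit 1)) (nat_lit 1) (nat_lit 2) = true := by decide +kernel
theorem tc2r : rulesChk Rl c2.Sl RL2 (nat_lit 1) = true := by decide +kernel
theorem lv2e_0 : allZ (l2.ent P) (nat_lit 0) (nat_lit 1) = true := by decide +kernel
theorem lv2b : Nat.blt (Pt2 (nat_lit 0)) (nat_lit 64) = true ∧ Q2 (Pt2 (nat_lit 0)) = 0 ∧ Pt2 (nat_lit 0) = 38 := by decide +kernel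
theorem sb2 : H16.allL (ltAll (nat_lit 0)) c2.Sl = true ∧ fixLetters P (nat_lit 0) (Pt2 (nat_lit 0)) = true := by decide +kernel
theorem Blt : ltAll (nat_lit 64) B = 0 := by decide +kernel

theorem tc0e : ∀ k < 3, ∀ i < 16, (entryChk T0 (selR RL0 I0) D0 (nat_lit 15) (nat_lit 16) (nat_lit 3)) k i = 0 := allZ2_sound tc0e_a
theorem tc0 : c0.OK Rl 3 := ⟨by decide, by decide, by decide, ivc, tc0r, tc0e⟩
theorem lv0e : ∀ i < 15, (l0.ent P) i = 0 := allZ_sound0 lv0e_0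
theorem lv0 : l0.OK P 64 := ⟨by decide, by decide, lt_of_blt lv0b.1, lv0b.2.1, lv0e⟩
theorem tc1e : ∀ k < 2, ∀ i < 4, (entryChk T1 (selR RL1 I1) D1 (nat_lit 3) (nat_lit 4) (nat_lit 2)) k i = 0 := allZ2_sound tc1e_a
theorem tc1 : c1.OK Rl 3 := ⟨by decide, by decide, by decide, ivc, tc1r, tc1e⟩
theorem lv1e : ∀ i < 3, (l1.ent P) i = 0 := allZ_sound0 lv1e_0
theorem lv1 : l1.OK P 64 := ⟨by decide, by decide, lt_of_blt lv1b.1, lv1b.2.1, lv1e⟩
theorem tc2e : ∀ k < 1, ∀ i < 2, (entryChk T2 (selR RL2 I2) D2 (nat_lit 1) (nat_lit 2) (nat_lit 1)) k i = 0 := allZ2_sound tc2e_a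
theorem tc2 : c2.OK Rl 3 := ⟨by decide, by decide, by decide, ivc, tc2r, tc2e⟩
theorem lv2e : ∀ i < 1, (l2.ent P) i = 0 := allZ_sound0 lv2e_0
theorem lv2 : l2.OK P 64 := ⟨by decide, by decide, lt_of_blt lv2b.1, lv2b.2.1, lv2e⟩
theorem bound2 : Bound Rl 1 2 := Bound.step' (Bound.zero Rl) tc2 sb2.1 (by decide +kernel)
theorem bound1 : Bound Rl 2 8 := Bound.step' (bound2) tc1 sb1.1 (by decide +kernel)
theorem bound0 : Bound Rl 3 128 := Bound.step' (bound1) tc0 sb0.1 (by decide +kernel)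
/-- every tuple satisfying `Rl` generates a group of order at most `128` -/
theorem bound : Bound Rl 3 128 := bound0
theorem chain_of {G Ω : Type*} [Group G] [MulAction G Ω] {g : ℕ → G} {pt : ℕ → Ω}
    (h : Act g pt P 64 3) (hR : Rels g Rl) : IsChain g pt 64 L :=
  IsChain.cons (L := [l1, l2]) (IsChain.cons (L := [l2]) (IsChain.cons (L := []) (trivial) h hR tc2 lv2 rfl rfl rfl (by decide) sb2.1 sb2.2) h hR tc1 lv1 rfl rfl rfl (by decide) sb1.1 sb1.2) h hR tc0 lv0 rfl rfl rfl (by decide) sb0.1 sb0.2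
theorem base_eq : chainBase L = B := by decide +kernel

end H15.XYO6
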